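import Cfsg.Agent.S3335
import Cfsg.Prelude.Def_Sporadic
import Mathlib.GroupTheory.SpecificGroups.Alternating.Simple

/-!
Elements of a simple group of the order of the Harada–Norton group which satisfy the Carmichael
relations of degree twelve give a transitive action on 1140000 points.
-/

set_option autoImplicit false

namespace CfsgLib.HNAlt

open Cfsg.Agent.S3335

/-- A list form of the Carmichael relations. -/
def CarmichaelRel {G : Type*} [Group G] (f : Fin 10 → G) : Prop :=
  f 0 ^ 3 = 1 ∧ (∀ i : Fin 10, 1 ≤ i.val → f i ^ 2 = 1) ∧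
    (∀ i j : Fin 10, j.val = i.val + 1 → (f i * f j) ^ 3 = 1) ∧
    ∀ i j : Fin 10, i.val + 1 < j.val → (f i * f j) ^ 2 = 1

theorem exists_hom {G : Type*} [Group G] {f : Fin 10 → G} (h : CarmichaelRel f) (h0 : f 0 ≠ 1) :
    ∃ φ : alternatingGroup (Fin 12) →* G, Function.Injective φ := by
  obtain ⟨h3, h2, hb, hc⟩ := h
  have hr : ∀ r ∈ altRels 10, FreeGroup.lift f r = 1 := by
    rintro r (((⟨i, hi, rfl⟩ | ⟨i, hi, rfl⟩) | ⟨i, j, hij, rfl⟩) | ⟨i, j, hij, rfl⟩)
    · obtain rfl : i = 0 := Fin.ext hi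
      simpa using h3
    · simpa using h2 i hi
    · simpa using hb i j hij
    · simpa using hc i j hij
  obtain ⟨e⟩ := presentation 10 (by norm_num)
  let φ : alternatingGroup (Fin 12) →* G :=
    (PresentedGroup.toGroup hr).comp e.symm.toMonoidHom
  refine ⟨φ, (MonoidHom.ker_eq_bot_iff φ).mp ?_⟩
  have : IsSimpleGroup (alternatingGroup (Fin 12)) := alternatingGroup.isSimpleGroup (by simp)
  refine ((IsSimpleGroup.eq_bot_or_eq_top_of_normal φ.ker inferInstance).resolve_right fun ht => h0 ?_)
  have : φ (e (PresentedGroup.of 0)) = 1 := by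
    rw [← MonoidHom.mem_ker, ht]
    exact Subgroup.mem_top _
  simpa [φ] using this

theorem exists_perm_rep {G : Type} [Group G] [IsSimpleGroup G]
    (hcard : Nat.card G = 273030912000000) {f : Fin 10 → G} (h : CarmichaelRel f) (h0 : f 0 ≠ 1) :
    ∃ H : Subgroup (Equiv.Perm (Fin 1140000)), Cfsg.IsHN H ∧
      MulAction.IsPretransitive H (Fin 1140000) ∧
      Nonempty (MulAction.stabilizer H (0 : Fin 1140000) ≃* alternatingGroup (Fin 12)) := by
  classical
  have : Finite G := Nat.finite_of_card_ne_zero (by rw [hcard]; norm_num)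
  obtain ⟨φ, hφ⟩ := exists_hom h h0
  let A : Subgroup G := φ.range
  have hA : Nat.card A = 239500800 := by
    rw [← Nat.card_congr (MonoidHom.ofInjective hφ).toEquiv, nat_card_alternatingGroup,
      Nat.card_fin]
    rfl
  have hidx : A.index = 1140000 := by
    have := A.card_mul_index
    rw [hA, hcard] at this
    omega
  have : Fintype (G ⧸ A) := Fintype.ofFinite _
  have hQ : Fintype.card (G ⧸ A) = 1140000 := by
    rw [Fintype.card_eq_nat_card, ← Subgroup.index_eq_card, hidx]
  let e₀ : G ⧸ A ≃ Fin 1140000 := Fintype.equivFinOfCardEq hQ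
  let e : G ⧸ A ≃ Fin 1140000 := e₀.trans (Equiv.swap (e₀ ((1 : G) : G ⧸ A)) 0)
  have he1 : e ((1 : G) : G ⧸ A) = 0 := Equiv.swap_apply_left _ _
  let ρ : G →* Equiv.Perm (Fin 1140000) :=
    e.permCongrHom.toMonoidHom.comp (MulAction.toPermHom G (G ⧸ A))
  have hρ : ∀ g q, ρ g (e q) = e (g • q) := by
    intro g q
    simp [ρ, Equiv.permCongrHom, Equiv.permCongr_apply]
  have hinj : Function.Injective ρ := by
    rw [← MonoidHom.ker_eq_bot_iff]
    refine (IsSimpleGroup.eq_bot_or_eq_top_of_normal ρ.ker inferInstance).resolve_right fun ht => ?_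
    have hle : ∀ g : G, g ∈ A := fun g => by
      have hg : g ∈ ρ.ker := by rw [ht]; exact Subgroup.mem_top _
      have hg' := hρ g ((1 : G) : G ⧸ A)
      rw [MonoidHom.mem_ker.mp hg, Equiv.Perm.one_apply, MulAction.Quotient.smul_coe, smul_eq_mul,
        mul_one] at hg'
      have := (QuotientGroup.eq (s := A)).mp (e.injective hg')
      simpa using this
    have : A = ⊤ := eq_top_iff.mpr fun g _ => hle g
    rw [this, Subgroup.index_top] at hidx
    norm_num at hidx
  let E : G ≃* ρ.range := MonoidHom.ofInjective hinj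
  refine ⟨ρ.range, ⟨E.symm.isSimpleGroup, ?_⟩, ?_, ?_⟩
  · rw [← Nat.card_congr E.toEquiv, hcard]
  · refine ⟨fun a b => ?_⟩
    obtain ⟨g, hg⟩ := MulAction.exists_smul_eq G (e.symm a) (e.symm b)
    refine ⟨E g, ?_⟩
    show ρ g a = b
    rw [← e.apply_symm_apply a, hρ, hg, e.apply_symm_apply]
  · have hst : MulAction.stabilizer ρ.range (0 : Fin 1140000) = A.map E.toMonoidHom := by
      ext x
      obtain ⟨g, rfl⟩ := E.surjective x
      rw [MulAction.mem_stabilizer_iff, Subgroup.mem_map_equiv, MulEquiv.symm_apply_apply]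
      show ρ g 0 = 0 ↔ g ∈ A
      rw [← he1, hρ, e.apply_eq_iff_eq, MulAction.Quotient.smul_coe, QuotientGroup.eq]
      simp
    exact ⟨(MulEquiv.subgroupCongr hst).trans
      ((A.equivMapOfInjective E.toMonoidHom E.injective).symm.trans
        (MonoidHom.ofInjective hφ).symm)⟩

end CfsgLib.HNAlt
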