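import Cfsg.Agent.HNCert.Calculus
import Cfsg.Agent.HNAlt.Realize

/-!
Ten words in the generators of the Harada–Norton group for the Carmichael generators of `A₁₂`; eight
of them are free of `t`.
-/

set_option autoImplicit false
set_option Elab.async false
set_option maxRecDepth 100000

namespace CfsgLib.HNAlt

open CfsgLib.CosetEnum CfsgLib.HNCert

noncomputable section

/-- The generators as words. -/
def wordL : List (List ℕ) := [
  [6, 4, 5, 5],
  [0, 0],
  [5, 4, 5, 5, 4],
  [2, 1, 2, 2, 2, 2, 0, 0, 4, 2, 2, 0, 3],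
  [2, 1, 2, 0, 2, 1, 2, 2, 0, 2, 1, 2, 0, 2, 0, 4],
  [2, 1, 2, 2, 0, 2, 1, 2, 0, 2, 2, 2, 2, 1, 2, 2, 2, 0, 2, 2, 2, 1, 2, 0, 2, 0, 4],
  [1, 2, 0, 2, 2, 1, 2, 0, 2, 2, 1, 2, 2, 0, 2, 2, 2, 1, 2, 2, 0, 2, 2, 0, 4],
  [4, 1],
  [2, 1, 2, 2, 0, 2, 1, 2, 0, 2, 2, 2, 2, 1, 2, 2, 2, 2, 0, 2, 0, 4],
  [2, 2, 1, 2, 0, 2, 2, 2, 1, 2, 0, 2, 2, 1, 2, 0, 2, 1, 2, 2, 2, 0, 2, 1, 2, 0, 0, 4]]

/-- A generator. -/
def wg (i : ℕ) : List ℕ := wordL.getD i []

/-- The exponent of the relation of two generators. -/
def expo (i j : ℕ) : ℕ := bif Nat.beq j (i + 1) then 3 else 2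

/-- The word of a relation; `i = j` stands for the order of a generator. -/
def relWord (i j : ℕ) : List ℕ :=
  bif Nat.beq i j then (List.replicate (bif Nat.beq i 0 then 3 else 2) (wg i)).flatten
  else (List.replicate (expo i j) (wg i ++ wg j)).flatten

/-- A generator does not involve `t`. -/
def pureB (i : ℕ) : Bool := !Nat.beq i 0 && !Nat.beq i 2

/-- The relations free of `t`. -/
def okPure : Bool :=
  (List.range 10).all fun i => (List.range 10).all fun j =>
    !(pureB i && pureB j && Nat.ble i j) ||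
      ((relWord i j).all (fun x => Nat.blt x 5) && same (relWord i j) [])

theorem okPure_true : okPure = true := by decide +kernel

theorem rel_pure (hB : Bound) {i j : ℕ} (hi : i < 10) (hj : j < 10) (hij : i ≤ j)
    (hpi : pureB i = true) (hpj : pureB j = true) : prodw g (relWord i j) = 1 := by
  have h := List.all_eq_true.mp
    (List.all_eq_true.mp okPure_true i (List.mem_range.mpr hi)) j (List.mem_range.mpr hj)
  rw [hpi, hpj, Nat.ble_eq_true_of_le hij] at h
  simp only [Bool.and_self, Bool.not_true, Bool.false_or, Bool.and_eq_true, List.all_eq_true,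
    Nat.blt_eq] at h
  rw [← emb_prodw h.1, eq_of_same hB h.1 (by simp) h.2, prodw_nil, map_one]

theorem prodw_replicate (w : List ℕ) : ∀ n,
    prodw g (List.replicate n w).flatten = prodw g w ^ n
  | 0 => by simp [prodw_nil]
  | n + 1 => by
    rw [List.replicate_succ, List.flatten_cons, prodw_append, prodw_replicate w n, pow_succ']

/-- The generators in the group. -/
def fgen (i : Fin 10) : Cfsg.Spor.HN := prodw g (wg i.val)

theorem carmichael_of_mixed (hB : Bound)
    (hm : ∀ i j : ℕ, i < 10 → j < 10 → i ≤ j → (pureB i && pureB j) = false →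
      prodw g (relWord i j) = 1) : CarmichaelRel fgen := by
  have key : ∀ i j : ℕ, i < 10 → j < 10 → i ≤ j → prodw g (relWord i j) = 1 := by
    intro i j hi hj hij
    cases h : pureB i && pureB j
    · exact hm i j hi hj hij h
    · rw [Bool.and_eq_true] at h
      exact rel_pure hB hi hj hij h.1 h.2
  have pw : ∀ i : ℕ, i < 10 → prodw g (wg i) ^ (bif Nat.beq i 0 then 3 else 2) = 1 := by
    intro i hi
    have h := key i i hi hi le_rfl
    rwa [relWord, Nat.beq_refl, cond_true, prodw_replicate] at h
  have pr : ∀ i j : Fin 10, i.val < j.val → (fgen i * fgen j) ^ expo i j = 1 := by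
    intro i j hij
    have h := key i j i.isLt j.isLt hij.le
    have hne : Nat.beq i.val j.val = false := by
      cases hb : Nat.beq i.val j.val
      · rfl
      · exact absurd (Nat.eq_of_beq_eq_true hb) hij.ne
    rwa [relWord, hne, cond_false, prodw_replicate, prodw_append] at h
  refine ⟨pw 0 (by norm_num), fun i hi => ?_, fun i j h => ?_, fun i j h => ?_⟩
  · have h := pw i i.isLt
    have hne : Nat.beq i.val 0 = false := by
      cases hb : Nat.beq i.val 0
      · rfl
      · exact absurd (Nat.eq_of_beq_eq_true hb) (by omega)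
    rwa [hne, cond_false] at h
  · have h' := pr i j (by omega)
    rwa [expo, h, Nat.beq_refl, cond_true] at h'
  · have h' := pr i j (by omega)
    have hne : Nat.beq j.val (i.val + 1) = false := by
      cases hb : Nat.beq j.val (i.val + 1)
      · rfl
      · exact absurd (Nat.eq_of_beq_eq_true hb) (by omega)
    rwa [expo, hne, cond_false] at h'

theorem fgen_zero_ne (hinj : Function.Injective emb) (h : CarmichaelRel fgen) :
    fgen 0 ≠ 1 := by
  intro h0
  have h3 := h.2.2.1 0 1 rfl
  rw [h0, one_mul, pow_succ, h.2.1 1 le_rfl, one_mul] at h3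
  have hw : ∀ x ∈ wg 1, x < 5 := by decide +kernel
  rw [fgen, show ((1 : Fin 10).val) = 1 from rfl, ← emb_prodw hw, map_eq_one_iff emb hinj] at h3
  have hfix := congrArg (fun p => (mv pi p (0 : Fin 1408)).val) h3
  simp only [mv_prodw hw, mv_one] at hfix
  exact absurd hfix (by decide +kernel)

end

end CfsgLib.HNAlt
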