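import Cfsg.Agent.HNAlt.TraceData
import Cfsg.Agent.HNAlt.Words

/-!
The ten words satisfy the Carmichael relations in the Harada–Norton group.
-/

set_option autoImplicit false
set_option Elab.async false
set_option maxRecDepth 100000

namespace CfsgLib.HNAlt

open CfsgLib.CosetEnum CfsgLib.HNCert

noncomputable section

/-- A word with `t⁻¹` written as `t⁴`. -/
def expand : List ℕ → List ℕ
  | [] => []
  | x :: w => (bif Nat.beq x 6 then [5, 5, 5, 5] else [x]) ++ expand w

theorem prodw_expand : ∀ w : List ℕ, prodw g (expand w) = prodw g w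
  | [] => rfl
  | x :: w => by
    rw [expand, prodw_append, prodw_expand w, prodw_cons]
    congr 1
    cases hx : Nat.beq x 6
    · simp [prodw_cons, prodw_nil]
    · obtain rfl := Nat.eq_of_beq_eq_true hx
      have h4 : g 5 * (g 5 * (g 5 * g 5)) = (g 5)⁻¹ := by
        refine eq_inv_of_mul_eq_one_left ?_
        rw [← t_pow_five]
        simp [pow_succ, mul_assoc]
      rw [show g 6 = (g 5)⁻¹ from rfl]
      simpa [prodw_cons, prodw_nil] using h4

/-- The traces are right. -/
def okTraces : Bool :=
  okStarts starts && trList.all fun e => okOne starts (expand (relWord e.1 e.2.1)) e.2.2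

theorem okTraces_true : okTraces = true := by decide +kernel

/-- The traces cover the relations. -/
def okCover : Bool :=
  (List.range 10).all fun i => (List.range 10).all fun j =>
    (pureB i && pureB j) || (!Nat.ble i j ||
      trList.any fun e => Nat.beq e.1 i && Nat.beq e.2.1 j)

theorem okCover_true : okCover = true := by decide +kernel

theorem carmichael_fgen (hB : Bound) (hcard : Nat.card Cfsg.Spor.HN = 273030912000000) :
    CarmichaelRel fgen := by
  refine carmichael_of_mixed hB fun i j hi hj hij hp => ?_
  have h := List.all_eq_true.mp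
    (List.all_eq_true.mp okCover_true i (List.mem_range.mpr hi)) j (List.mem_range.mpr hj)
  rw [hp, Nat.ble_eq_true_of_le hij] at h
  simp only [Bool.not_true, Bool.false_or, List.any_eq_true, Bool.and_eq_true] at h
  obtain ⟨e, he, hei, hej⟩ := h
  have ht := okTraces_true
  rw [okTraces, Bool.and_eq_true] at ht
  have h1 := one_of_okOne hB hcard ht.1 (List.all_eq_true.mp ht.2 e he)
  rwa [prodw_expand, Nat.eq_of_beq_eq_true hei, Nat.eq_of_beq_eq_true hej] at h1

theorem exists_alt_perm_rep (hB : Bound) (hcard : Nat.card Cfsg.Spor.HN = 273030912000000)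
    (hsimple : IsSimpleGroup Cfsg.Spor.HN) :
    ∃ H : Subgroup (Equiv.Perm (Fin 1140000)), Cfsg.IsHN H ∧
      MulAction.IsPretransitive H (Fin 1140000) ∧
      Nonempty (MulAction.stabilizer H (0 : Fin 1140000) ≃* alternatingGroup (Fin 12)) :=
  exists_perm_rep hcard (carmichael_fgen hB hcard)
    (fgen_zero_ne (exact_of_card hB hcard).1 (carmichael_fgen hB hcard))

end

end CfsgLib.HNAlt
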