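import Cfsg.Agent.HNCert.Upper

/-!
A word in the generators of the Harada–Norton group is trivial when it fixes, in the action on
cosets, the start and four positions of the orbit of length 1408; checked by traces.
-/

set_option autoImplicit false
set_option Elab.async false
set_option maxRecDepth 100000

namespace CfsgLib.HNAlt

open CfsgLib.CosetEnum CfsgLib.HNCert

noncomputable section

theorem exact_of_card (hB : Bound) (hcard : Nat.card Cfsg.Spor.HN = 273030912000000) :
    Function.Injective emb ∧ ∀ j : Fin 9, (SS j.val).index = sSize j.val := by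
  have := hB.1
  have hfin := finite_quot hB
  have hK : Nat.card KH ≤ 177408000 :=
    (Nat.card_le_card_of_surjective _ emb.rangeRestrict_surjective).trans hB.2
  have hI := index_le hB
  have h := Subgroup.index_mul_card KH
  rw [hcard] at h
  have hI' : KH.index = 1539000 := by
    refine le_antisymm hI ?_
    have h' : KH.index * Nat.card KH ≤ KH.index * 177408000 := Nat.mul_le_mul_left _ hK
    rw [h] at h'
    omega
  have hK' : Nat.card KH = Nat.card P := by
    rw [card_P hB]
    rw [hI'] at h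
    exact Nat.eq_of_mul_eq_mul_left (n := 1539000) (by norm_num) (h.trans (by norm_num))
  refine ⟨?_, ?_⟩
  · intro a b e
    have hb := emb.rangeRestrict_surjective.bijective_of_nat_card_le hK'.ge
    exact hb.1 (Subtype.ext e)
  · have hsum : ∑ j : Fin 9, (SS j.val).index = ∑ j : Fin 9, sSize j.val := by
      refine le_antisymm (Finset.sum_le_sum fun j _ => index_SS_le hB j.isLt) ?_
      have h2 := Nat.card_le_card_of_surjective _ (cover_surjective hB)
      rw [Nat.card_sigma, ← Subgroup.index_eq_card, hI'] at h2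
      have h3 : ∑ j : Fin 9, sSize j.val = 1539000 := by decide +kernel
      rw [h3]
      exact h2
    intro j
    exact (Finset.sum_eq_sum_iff_of_le fun j _ => index_SS_le hB j.isLt).mp hsum j (Finset.mem_univ j)

/-- The point fixed by the stabiliser of the orbit of length 1408. -/
def fixPt : ℕ := 3

/-- The chain of that stabiliser fixes the point. -/
theorem chain_fix : (sChain 1).all (fun e => e.2.all fun u =>
    Nat.beq (walk (genWord 1 u) fixPt) fixPt) = true := by decide +kernel

theorem fix_of_mem (hB : Bound) (hcard : Nat.card Cfsg.Spor.HN = 273030912000000) {p : P}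
    (hp : p ∈ SS 1) : mv pi p (pt fixPt) = pt fixPt := by
  have := hB.1
  have hi : (SS 1).index = 1408 := (exact_of_card hB hcard).2 (1 : Fin 9)
  obtain ⟨h1, h2⟩ := ok_sC hB (show 1 < 9 by norm_num) _ (okS_all 1 (by norm_num))
  set C := (sChain 1).map fun e => (pt e.1, e.2.map fun L => prodw pg (genWord 1 L)) with hC
  have hW : ∀ e ∈ C, ∀ u ∈ e.2, u ∈ SS 1 := by
    intro e he u hu
    obtain ⟨e', he', rfl⟩ := List.mem_map.mp he
    obtain ⟨u', hu', rfl⟩ := List.mem_map.mp hu
    exact h2 e' he' u' hu'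
  have hs : ∀ D : List (ℕ × List (List ℕ)),
      size (D.map fun e => (pt e.1, e.2.map fun L => prodw pg (genWord 1 L))) =
        (D.map fun e => e.2.length).prod := by
    intro D
    induction D with
    | nil => rfl
    | cons e D ih =>
      show size (D.map _) * _ = _
      rw [ih, List.length_map, List.map_cons, List.prod_cons, mul_comm]
  have hc : Nat.card (SS 1) ≤ size C := by
    rw [hC, hs, show ((sChain 1).map fun e => e.2.length).prod = 126000 by decide +kernel]
    have h3 := Subgroup.index_mul_card (SS 1)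
    rw [hi, card_P hB] at h3
    omega
  obtain ⟨i, rfl⟩ := exists_elt h1 hW hc hp
  refine elt_fix C (fun e he u hu => ?_) i
  obtain ⟨e', he', rfl⟩ := List.mem_map.mp he
  obtain ⟨u', hu', rfl⟩ := List.mem_map.mp hu
  refine Fin.ext ?_
  rw [mv_prodw (genWord_lt 1 u'), pt_val (show fixPt < 1408 by decide)]
  exact Nat.eq_of_beq_eq_true (List.all_eq_true.mp (List.all_eq_true.mp chain_fix e' he') u' hu')

/-- The coset reached from a position. -/
def At (j : ℕ) (h : List ℕ) : Cfsg.Spor.HN ⧸ KH := F j (prodw pg h)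

/-- A step by `t` from `(j, h)`: stabiliser word, edge and new element. -/
def okT (j : ℕ) (h : List ℕ) (c : List ℕ × ℕ × List ℕ) : Bool :=
  let a := cert.wd (cert.fA (edgeF c.2.1))
  let b := cert.wd (cert.fB (edgeF c.2.1))
  let s := genWord j c.1 ++ h
  c.1.all (fun i => Nat.blt i (sGens j).length) && (Nat.blt c.2.1 nE &&
    (Nat.beq (edgeJ c.2.1) j && (c.2.2.all (fun x => Nat.blt x 5) &&
      (Nat.beq (walk (wi s) 0) (walk (wi a) 0) && same (b ++ wi a ++ s) c.2.2))))

/-- Follow a word in the letters `0, …, 5` from a position. -/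
def runB (j0 : ℕ) (h0 : List ℕ) (U0 : List ℕ) :
    List ℕ → List (List ℕ × ℕ × List ℕ) → ℕ → List ℕ → Bool
  | [], _, j, h => Nat.beq j j0 && (U0.all (fun i => Nat.blt i (sGens j).length) &&
      same (genWord j U0 ++ h) h0)
  | x :: w, cs, j, h =>
    bif Nat.blt x 5 then runB j0 h0 U0 w cs j (h ++ [x])
    else Nat.beq x 5 &&
      match cs with
      | [] => false
      | c :: cs => okT j h c && runB j0 h0 U0 w cs (edgeK c.2.1) c.2.2

theorem lt_of_all {l : List ℕ} {n : ℕ} (h : (l.all fun x => Nat.blt x n) = true) :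
    ∀ x ∈ l, x < n := fun x hx => by simpa using List.all_eq_true.mp h x hx

theorem step_t (hB : Bound) {j : ℕ} (hj : j < 9) {h : List ℕ} (hh : ∀ x ∈ h, x < 5)
    {c : List ℕ × ℕ × List ℕ} (hc : okT j h c = true) :
    edgeK c.2.1 < 9 ∧ (∀ x ∈ c.2.2, x < 5) ∧
      (g 5)⁻¹ • At j h = At (edgeK c.2.1) c.2.2 := by
  simp only [okT, Bool.and_eq_true, Nat.blt_eq] at hc
  obtain ⟨hU, he, hJ, hv, hr, hw⟩ := hc
  have hok := edges_ok c.2.1 he
  simp only [okEdge, Bool.and_eq_true, Nat.blt_eq] at hok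
  obtain ⟨-, hk9, hf, hkd, hI, hK⟩ := hok
  refine ⟨hk9, lt_of_all hv, ?_⟩
  have hS := says_of_check hB cert_ok _ hf
  rw [Says, Nat.eq_of_beq_eq_true hkd, if_pos rfl, Cert.pos, Cert.pos,
    Nat.eq_of_beq_eq_true hI, Nat.eq_of_beq_eq_true hK, Nat.eq_of_beq_eq_true hJ] at hS
  set aw := cert.wd (cert.fA (edgeF c.2.1))
  set bw := cert.wd (cert.fB (edgeF c.2.1))
  have hs : ∀ x ∈ genWord j c.1 ++ h, x < 5 := app_lt (genWord_lt _ _) hh
  have haw : ∀ x ∈ aw, x < 5 := cert.wd_lt _
  have hbw : ∀ x ∈ bw, x < 5 := cert.wd_lt _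
  have ee := eq_of_same hB (app_lt (app_lt hbw (wi_lt haw)) hs) (lt_of_all hv) hw
  rw [prodw_append, prodw_append, prodw_wi haw] at ee
  have hp : At j h = F j (prodw pg (genWord j c.1 ++ h)) := by
    rw [At, prodw_append, F_left (genWord_mem hB hj _ (lt_of_all hU))]
  rw [hp]
  set sp := prodw pg (genWord j c.1 ++ h)
  set a : P := prodw pg aw
  set b : P := prodw pg bw
  have h0 : ∀ q : List ℕ, (∀ x ∈ q, x < 5) → (mv pi (prodw pg q)⁻¹ 0).val = walk (wi q) 0 := by
    intro q hq
    rw [← prodw_wi hq]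
    exact mv_prodw (wi_lt hq) 0
  have hroot : mv pi sp⁻¹ 0 = mv pi a⁻¹ 0 := by
    refine Fin.ext ?_
    rw [h0 _ hs, h0 _ haw]
    exact Nat.eq_of_beq_eq_true hr
  have hfix : mv pi (a⁻¹ * sp) 0 = 0 := by
    rw [mv_mul, ← hroot, ← mv_mul, inv_mul_cancel, mv_one]
  have hcm := commute_of_mem (mem_cenT_of_fix hB hfix)
  rw [At, ← ee, F, F, smul_Q, Q_eq, mul_assoc b a⁻¹ sp, map_mul emb b]
  set k := emb (a⁻¹ * sp) with hk
  rw [show emb sp = emb a * k by rw [hk, ← map_mul, mul_inv_cancel_left]]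
  have : base j * (emb a * k) * g 5 * (base (edgeK c.2.1) * (emb b * k))⁻¹ =
      base j * emb a * (k * g 5) * k⁻¹ * (base (edgeK c.2.1) * emb b)⁻¹ := by group
  rw [this, hcm.eq]
  simpa [base, mul_assoc, el, Cert.wd, a, b, aw, bw] using hS

theorem runB_spec (hB : Bound) {j0 : ℕ} {h0 U0 : List ℕ} (hh0 : ∀ x ∈ h0, x < 5) :
    ∀ (w : List ℕ) (cs : List (List ℕ × ℕ × List ℕ)) (j : ℕ) (h : List ℕ), j < 9 →
      (∀ x ∈ h, x < 5) → runB j0 h0 U0 w cs j h = true →
      (prodw g w)⁻¹ • At j h = At j0 h0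
  | [], _, j, h, hj, hh, e => by
    simp only [runB, Bool.and_eq_true] at e
    obtain ⟨e1, e2, e3⟩ := e
    rw [prodw_nil, inv_one, one_smul, ← Nat.eq_of_beq_eq_true e1]
    have ee := eq_of_same hB (app_lt (genWord_lt _ _) hh) hh0 e3
    rw [prodw_append] at ee
    rw [At, At, ← ee, F_left (genWord_mem hB hj _ (lt_of_all e2))]
  | x :: w, cs, j, h, hj, hh, e => by
    rw [prodw_cons, mul_inv_rev, mul_smul]
    cases hx : Nat.blt x 5
    · simp only [runB, hx, cond_false, Bool.and_eq_true] at e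
      obtain ⟨e1, e2⟩ := e
      obtain rfl := Nat.eq_of_beq_eq_true e1
      cases cs with
      | nil => simp at e2
      | cons c cs =>
        simp only [Bool.and_eq_true] at e2
        obtain ⟨hk, hv, hs⟩ := step_t hB hj hh e2.1
        rw [hs]
        exact runB_spec hB hh0 w cs _ _ hk hv e2.2
    · simp only [runB, hx, cond_true] at e
      have hx5 : x < 5 := by simpa using hx
      have hs : (g x)⁻¹ • At j h = At j (h ++ [x]) := by
        rw [At, At, F, F, smul_Q, prodw_append, prodw_cons, prodw_nil, mul_one, map_mul,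
          emb_pg hx5, mul_assoc]
      rw [hs]
      exact runB_spec hB hh0 w cs j _ hj (app_lt hh (by simpa using hx5)) e

/-- A trace at a position returns to it. -/
def okFix (w : List ℕ) (c : ℕ × List ℕ × List ℕ × List (List ℕ × ℕ × List ℕ)) : Bool :=
  Nat.blt c.1 9 && (c.2.1.all (fun x => Nat.blt x 5) &&
    runB c.1 c.2.1 c.2.2.1 w c.2.2.2 c.1 c.2.1)

theorem fix_of_okFix (hB : Bound) {w : List ℕ}
    {c : ℕ × List ℕ × List ℕ × List (List ℕ × ℕ × List ℕ)} (h : okFix w c = true) :
    (prodw g w)⁻¹ • At c.1 c.2.1 = At c.1 c.2.1 := by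
  simp only [okFix, Bool.and_eq_true, Nat.blt_eq] at h
  exact runB_spec hB (lt_of_all h.2.1) w _ _ _ h.1 (lt_of_all h.2.1) h.2.2

/-- Starts of four traces reach the four base points from the fixed point. -/
def okStarts (hs : List (List ℕ)) : Bool :=
  hs.all (fun h => h.all fun x => Nat.blt x 5) &&
    decide (hs.map (fun h => walk h fixPt) = [0, 208, 252, 1336])

/-- The check of a word. -/
def okOne (hs : List (List ℕ)) (w : List ℕ)
    (cs : List (ℕ × List ℕ × List ℕ × List (List ℕ × ℕ × List ℕ))) : Bool :=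
  decide (cs.map (fun c => (c.1, c.2.1)) = (0, []) :: hs.map (fun h => (1, h))) &&
    cs.all (okFix w)

theorem one_of_okOne (hB : Bound) (hcard : Nat.card Cfsg.Spor.HN = 273030912000000)
    {hs : List (List ℕ)} (hhs : okStarts hs = true) {w : List ℕ}
    {cs : List (ℕ × List ℕ × List ℕ × List (List ℕ × ℕ × List ℕ))} (h : okOne hs w cs = true) :
    prodw g w = 1 := by
  have := hB.1
  simp only [okOne, Bool.and_eq_true, decide_eq_true_eq] at h
  obtain ⟨hm, hall⟩ := h
  simp only [okStarts, Bool.and_eq_true, decide_eq_true_eq] at hhs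
  obtain ⟨hlt, hpts⟩ := hhs
  have hfix : ∀ q ∈ (0, []) :: hs.map (fun h => (1, h)),
      (prodw g w)⁻¹ • At q.1 q.2 = At q.1 q.2 := by
    intro q hq
    rw [← hm] at hq
    obtain ⟨c, hc, rfl⟩ := List.mem_map.mp hq
    exact fix_of_okFix hB (List.all_eq_true.mp hall c hc)
  have h0 := hfix (0, []) List.mem_cons_self
  rw [At, F, base, srep_zero, cert.rep_zero, prodw_nil, prodw_nil, map_one, one_mul, smul_Q,
    one_mul, Q_eq, inv_one, mul_one] at h0
  obtain ⟨p, hp⟩ := h0
  suffices hp1 : p = 1 by rw [← hp, hp1, map_one]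
  refine eq_of_imgs full_ok full_mem (card_top_le hB) (Subgroup.mem_top _) (Subgroup.mem_top _) ?_
  refine List.map_inj_left.mpr fun e he => ?_
  obtain ⟨e', he', rfl⟩ := List.mem_map.mp he
  have hb : e'.1 ∈ fullData.map Prod.fst := List.mem_map_of_mem he'
  rw [base_eq, ← hpts] at hb
  obtain ⟨h, hh, hb⟩ := List.mem_map.mp hb
  have h5 : ∀ x ∈ h, x < 5 := lt_of_all (List.all_eq_true.mp hlt h hh)
  have h1 := hfix (1, h) (List.mem_cons_of_mem _ (List.mem_map_of_mem (f := fun h => (1, h)) hh))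
  simp only at h1
  rw [At, F, smul_Q, Q_eq, ← hp] at h1
  have hmem : prodw pg h * p * (prodw pg h)⁻¹ ∈ SS 1 := by
    rw [mem_SS, map_mul, map_mul, map_inv]
    simpa [mul_assoc] using h1
  have hfx := fix_of_mem hB hcard hmem
  have hq : mv pi (prodw pg h) (pt fixPt) = pt e'.1 := by
    refine Fin.ext ?_
    have hlt' : e'.1 < 1408 := by
      have := List.mem_map_of_mem (f := Prod.fst) he'
      rw [base_eq] at this
      simp at this; omega
    rw [mv_prodw h5, pt_val (show fixPt < 1408 by decide), pt_val hlt', hb]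
  show mv pi p (pt e'.1) = mv pi 1 (pt e'.1)
  rw [mv_one]
  rw [mv_mul, mv_mul, hq] at hfx
  refine mv_inj pi (prodw pg h)⁻¹ ?_
  rw [hfx, ← hq, mv_inv]

end

end CfsgLib.HNAlt
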