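import Cfsg.Agent.HNAlt.Trace

/-!
Traces of the relations involving the two generators with `t`.
-/

set_option autoImplicit false

namespace CfsgLib.HNAlt

/-- Starts in the orbit of length 1408. -/
def starts : List (List ℕ) := [
  [0, 0],
  [0, 4, 2, 4, 3, 3, 1, 4],
  [0, 4, 2, 2, 2, 1, 4, 3, 4, 3],
  [4, 2, 2, 4, 3, 4, 3, 3, 0, 2]]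

/-- Traces for generators 0, 0. -/
def tr00 : List (ℕ × List ℕ × List ℕ × List (List ℕ × ℕ × List ℕ)) := [
  (0, [],
    [0, 0, 0], [
    ([], 0, []),
    ([], 1, [1]),
    ([], 2, [0]),
    ([], 4, [0, 0]),
    ([], 7, []),
    ([], 18, [0]),
    ([], 13, [0, 0]),
    ([], 19, [4]),
    ([], 3, [0, 0, 4]),
    ([], 7, []),
    ([], 21, [0, 4]),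
    ([], 6, []),
    ([], 12, [1, 4]),
    ([], 10, [0]),
    ([], 20, [4]),
    ([], 21, [0, 4]),
    ([], 4, [0, 0]),
    ([], 5, [0])]),
  (1, [0, 0],
    [], [
    ([], 5, [0]),
    ([0, 0, 0], 0, []),
    ([], 1, [1]),
    ([], 2, [0]),
    ([], 6, []),
    ([], 12, [1, 4]),
    ([], 10, [0]),
    ([], 20, [4]),
    ([], 21, [0, 4]),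
    ([], 6, []),
    ([3], 12, [1, 4]),
    ([], 10, [0]),
    ([], 20, [4]),
    ([], 21, [0, 4]),
    ([], 6, []),
    ([], 12, [1, 4]),
    ([], 2, [0]),
    ([], 4, [0, 0])]),
  (1, [0, 4, 2, 4, 3, 3, 1, 4],
    [0, 1, 1, 1, 1, 0, 0, 0, 1, 1, 1, 0, 0, 0, 0, 1, 0, 1, 1, 1, 1, 0, 1, 0, 1, 0, 1, 0, 0, 0, 1,
    0, 0, 1, 1, 0], [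
    ([1, 1, 0, 1, 0, 1, 1, 1, 1], 9, [3, 3, 1, 2, 0, 3, 3, 1, 2, 0, 3, 3, 1, 2, 2, 0, 2, 2, 1, 2,
    0, 2, 1, 3, 0, 3, 1, 3, 3, 0, 3, 1, 2, 0, 2, 1, 3, 0, 3, 1, 2, 0, 2, 2, 1, 3, 0]),
    ([], 69, [3, 3, 1, 2, 0, 3, 3, 1, 2, 0, 3, 3, 1, 2, 0, 2, 2, 1, 3, 0, 2, 2, 1, 2, 0, 2, 1, 3,
    0, 3, 3, 1, 3, 0, 2, 2, 1, 3, 0, 2, 2, 1, 3, 0, 2, 2, 1, 3, 0, 0, 4, 2, 4, 3, 3, 1, 4]),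
    ([], 70, [3, 3, 1, 2, 0, 3, 3, 1, 2, 0, 3, 3, 3, 1, 3, 0, 2, 1, 2, 0, 2, 2, 2, 1, 3, 0, 2, 2,
    2, 1, 3, 0, 3, 1, 2, 0, 2, 1, 2, 2, 2, 0, 0]),
    ([], 57, [3, 1, 2, 2, 0, 2, 1, 3, 3, 0, 3, 1, 2, 2, 0, 2, 1, 2, 2, 0, 2, 0, 4, 2, 4, 3, 3, 1,
    4]),
    ([2, 3, 3], 59, [3, 3, 1, 2, 0, 3, 3, 1, 2, 0, 3, 3, 1, 2, 2, 0, 3, 1, 3, 3, 0, 3, 1, 2, 0, 2,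
    1, 3, 0, 0, 4, 2, 4, 3, 4]),
    ([], 75, [1, 2, 0, 2, 1, 2, 0, 2, 1, 3, 4, 2, 4, 3, 4]),
    ([1, 0], 82, [3, 3, 1, 2, 0, 3, 3, 1, 2, 0, 3, 3, 1, 2, 0, 2, 1, 3, 0, 2, 1, 2, 0, 2, 1, 3, 0,
    3, 1, 2, 0, 3, 1, 3, 0, 2, 2, 2, 2, 2, 1, 3, 3, 0, 2, 0, 4, 3, 0]),
    ([], 56, [1, 2, 0, 2, 1, 3, 0, 3, 3, 1, 2, 0, 3, 1, 3, 0, 3, 3, 3, 3, 1, 2, 0, 2, 2, 1, 3, 3,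
    0, 4, 3, 0, 4, 3, 1]),
    ([1, 0, 2, 0, 1, 3], 30, [1, 3, 3, 0, 3, 1, 3, 3, 0, 3, 1, 2, 0, 2, 1, 2, 2, 0, 2, 1, 2, 0, 2,
    2, 2, 1, 3, 0, 3, 0, 4, 2, 4, 3, 3, 1]),
    ([], 59, [1, 2, 0, 3, 1, 3, 0, 2, 2, 1, 2, 0, 3, 1, 3, 0, 3, 1, 2, 2, 0, 3, 3, 1, 2, 2, 0, 0,
    4, 2, 4, 3, 4]),
    ([], 85, [2, 1, 3, 3, 0, 2, 2, 1, 2, 0, 3, 1, 3, 0, 2, 1, 2, 0, 3, 1, 3, 0, 3, 1, 2, 0, 0, 4,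
    2, 4, 3, 3, 1]),
    ([3, 0, 1], 63, [1, 3, 3, 0, 2, 1, 2, 0, 2, 2, 1, 3, 0, 3, 3, 1, 3, 0, 2, 2, 1, 3, 0, 3, 3, 1,
    2, 0, 3, 1, 3, 0, 4, 2, 0, 2, 4]),
    ([1, 5, 4, 1], 40, [1, 3, 0, 3, 3, 1, 2, 2, 0, 2, 1, 2, 2, 0, 2, 1, 3, 0, 3, 3, 1, 2, 0, 3, 0,
    4, 3, 1, 4]),
    ([4, 1, 5, 1], 46, [3, 3, 1, 2, 0, 3, 3, 1, 2, 0, 3, 3, 1, 2, 0, 3, 1, 2, 2, 2, 0, 3, 1, 3, 0,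
    2, 1, 2, 0, 2, 1, 2, 2, 2, 0, 2, 1, 3, 0, 2, 2, 1, 2, 0, 2, 1, 3, 0, 4, 3, 0, 4, 3, 1]),
    ([3, 2], 66, [3, 3, 1, 2, 0, 3, 3, 1, 2, 0, 3, 3, 1, 2, 0, 2, 1, 3, 0, 2, 1, 2, 0, 2, 1, 3, 3,
    0, 3, 3, 1, 3, 0, 3, 4, 2, 4, 3, 3, 0, 4]),
    ([3, 2], 85, [2, 1, 2, 0, 2, 1, 3, 0, 2, 2, 1, 2, 2, 2, 0, 2, 1, 2, 0, 3, 3, 1, 2, 2, 0, 3, 0,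
    4, 2, 4, 3, 3, 1]),
    ([3], 57, [1, 2, 0, 2, 1, 2, 2, 0, 3, 3, 1, 3, 0, 2, 1, 2, 0, 2, 2, 2, 0, 4, 2, 4, 3, 3, 1,
    4]),
    ([], 58, [2, 2, 1, 3, 0, 3, 1, 2, 2, 0, 2, 1, 3, 0, 3, 3, 3, 3, 1, 2, 0, 0, 4, 2, 4, 3, 3, 1,
    4])]),
  (1, [0, 4, 2, 2, 2, 1, 4, 3, 4, 3],
    [1, 0, 1, 1, 0, 0, 1, 0, 1, 0, 1, 1, 0, 0, 1, 0, 0, 0, 0, 0, 1, 0, 0, 1, 1, 1, 0, 1, 1, 1, 1,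
    1, 1], [
    ([1, 1, 0, 1, 1, 1, 1], 9, [3, 3, 1, 2, 0, 3, 3, 1, 2, 0, 3, 3, 1, 2, 2, 0, 2, 2, 1, 3, 0, 3,
    1, 2, 0, 3, 3, 1, 2, 0, 3]),
    ([], 69, [2, 2, 1, 3, 0, 3, 1, 2, 2, 0, 2, 1, 3, 0, 3, 3, 1, 3, 3, 0, 2, 1, 2, 0, 2, 2, 1, 3,
    3, 0, 3, 0, 4, 2, 2, 2, 1, 4, 3, 4, 3]),
    ([], 70, [2, 1, 2, 0, 2, 1, 3, 0, 2, 1, 2, 2, 0, 2, 1, 3, 3, 0, 3, 3, 3, 1, 2, 0, 2, 2, 0]),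
    ([], 57, [1, 3, 3, 0, 3, 1, 3, 0, 2, 1, 2, 0, 2, 1, 3, 0, 3, 1, 3, 0, 2, 1, 2, 0, 2, 2, 0, 4,
    2, 2, 2, 1, 4, 3, 4, 3]),
    ([0, 1, 3], 65, [3, 3, 1, 2, 0, 3, 3, 1, 2, 0, 3, 3, 3, 1, 2, 0, 3, 3, 1, 3, 0, 3, 1, 2, 0, 3,
    3, 1, 2, 0, 2, 1, 2, 0, 2, 2, 2, 1, 3, 3, 0, 0, 4, 2, 0, 4, 2, 4, 2, 1, 4]),
    ([1, 3], 55, [1, 3, 0, 3, 1, 2, 2, 0, 2, 2, 1, 2, 2, 0, 2, 1, 2, 0, 2, 1, 2, 0, 2, 1, 3, 0, 2,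
    0, 4, 2, 4, 3, 4, 3, 3, 4, 3]),
    ([2, 4, 5, 2], 45, [3, 3, 1, 2, 0, 3, 3, 1, 2, 0, 3, 3, 1, 2, 0, 3, 1, 2, 2, 2, 0, 3, 1, 3, 0,
    2, 1, 2, 0, 2, 1, 2, 2, 2, 0, 2, 1, 3, 0, 3, 3, 1, 2, 0, 4, 3, 0, 4, 3, 3, 0, 3]),
    ([0, 1, 2], 91, [3, 3, 1, 2, 0, 3, 3, 1, 2, 0, 3, 3, 1, 2, 2, 0, 2, 1, 2, 0, 2, 2, 1, 2, 0, 3,
    1, 3, 0, 2, 1, 2, 2, 0, 2, 2, 1, 2, 2, 0, 3, 3, 1, 3, 0, 4]),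
    ([3, 0, 1], 44, [1, 3, 3, 0, 3, 3, 1, 3, 0, 2, 2, 2, 1, 2, 0, 3, 1, 2, 0, 2, 1, 2, 2, 0, 4, 3,
    1, 4, 3, 4, 3, 4, 3]),
    ([3, 1, 1], 65, [1, 3, 0, 3, 1, 2, 0, 3, 3, 1, 3, 0, 3, 1, 2, 0, 2, 2, 2, 1, 3, 3, 3, 0, 2, 2,
    1, 3, 0, 0, 4, 2, 0, 4, 2, 4, 2, 1, 4]),
    ([2, 2, 2], 67, [3, 3, 1, 2, 0, 3, 3, 1, 2, 0, 3, 3, 1, 2, 0, 2, 2, 1, 3, 0, 2, 2, 1, 2, 0, 2,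
    1, 3, 0, 2, 1, 2, 0, 3, 1, 3, 0, 3, 3, 4, 3, 1, 4, 3, 4, 3, 4, 3]),
    ([], 60, [2, 2, 1, 2, 2, 0, 2, 1, 2, 0, 3, 1, 3, 3, 0, 2, 1, 2, 0, 2, 2, 1, 3, 0, 2, 2, 2, 1,
    3, 0, 4, 3, 0, 4, 3, 3, 0, 3]),
    ([], 83, [2, 1, 2, 0, 2, 1, 3, 0, 2, 2, 1, 2, 2, 2, 0, 2, 1, 2, 2, 0, 2, 1, 2, 0, 3, 3, 0, 4,
    2, 2, 2, 0, 4, 3, 4, 3]),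
    ([1, 1, 0, 0, 2, 3], 31, [1, 3, 0, 3, 1, 2, 0, 3, 3, 1, 3, 0, 3, 1, 2, 0, 2, 2, 2, 1, 3, 0, 2,
    1, 2, 0, 2, 2, 1, 2, 2, 0, 2, 1, 3, 0, 0, 4, 2, 2, 2, 0, 3, 1, 3]),
    ([], 93, [3, 3, 1, 2, 0, 3, 3, 1, 2, 0, 3, 3, 1, 2, 0, 2, 1, 2, 2, 2, 0, 2, 1, 3, 3, 0, 2, 1,
    2, 0, 2, 2, 1, 3, 0, 3, 1, 2, 0, 2, 0, 4, 2, 0, 4, 2, 4, 2, 1]),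
    ([], 67, [3, 3, 1, 2, 0, 3, 3, 1, 2, 0, 3, 3, 1, 2, 2, 0, 2, 1, 2, 0, 2, 1, 3, 0, 3, 3, 1, 3,
    3, 0, 2, 1, 2, 0, 2, 2, 1, 3, 0, 3, 1, 2, 0, 4, 3, 1, 4, 3, 4, 3, 4, 3]),
    ([3], 57, [2, 2, 1, 3, 3, 0, 3, 1, 3, 0, 2, 1, 2, 2, 0, 2, 2, 1, 3, 0, 2, 1, 2, 0, 3, 3, 0, 4,
    2, 2, 2, 1, 4, 3, 4, 3]),
    ([], 58, [3, 3, 1, 2, 0, 3, 3, 1, 2, 0, 3, 3, 1, 2, 2, 2, 0, 3, 1, 3, 3, 0, 3, 3, 1, 3, 0, 2,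
    2, 1, 2, 0, 2, 2, 2, 2, 1, 3, 3, 0, 2, 1, 2, 0, 0, 4, 2, 2, 2, 1, 4, 3, 4, 3])]),
  (1, [4, 2, 2, 4, 3, 4, 3, 3, 0, 2],
    [1, 0, 1, 1, 0, 0, 1, 0, 1, 0, 1, 1, 0, 0, 1, 0, 1, 0, 0, 1, 1, 0, 1, 0, 1, 0, 0, 1, 0, 1, 1,
    0, 1, 0, 1, 1, 1, 0, 1, 0, 0, 1, 1, 1], [
    ([0, 1, 0, 0, 0, 0], 9, [3, 3, 1, 2, 0, 3, 3, 1, 2, 0, 3, 3, 1, 2, 0, 3, 1, 2, 2, 2, 0, 2, 1,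
    3, 3, 0, 3, 3, 1, 2, 0, 3, 1, 2, 0, 3, 3, 1, 2, 0]),
    ([], 69, [2, 1, 3, 0, 2, 1, 2, 0, 2, 1, 3, 0, 3, 1, 2, 0, 3, 1, 3, 0, 2, 2, 2, 2, 2, 1, 2, 2,
    2, 0, 2, 4, 2, 2, 4, 3, 4, 3, 3, 0, 2]),
    ([], 70, [1, 2, 0, 2, 1, 3, 0, 3, 3, 1, 2, 0, 3, 1, 3, 0, 3, 3, 3, 1, 2, 2, 0, 2, 2, 1, 3, 0,
    0]),
    ([], 57, [1, 2, 2, 0, 3, 3, 1, 2, 0, 3, 1, 3, 0, 2, 1, 2, 2, 0, 2, 1, 3, 0, 2, 2, 1, 3, 0, 2,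
    1, 2, 0, 4, 2, 2, 4, 3, 4, 3, 3, 0, 2]),
    ([0, 2], 59, [1, 3, 0, 2, 1, 2, 0, 2, 1, 2, 2, 0, 3, 1, 3, 0, 2, 1, 2, 2, 2, 2, 2, 0, 2, 1, 2,
    0, 3, 0, 4, 3, 4, 2, 4]),
    ([], 75, [3, 3, 1, 2, 0, 3, 3, 1, 2, 0, 3, 3, 1, 3, 0, 2, 1, 2, 0, 2, 2, 1, 3, 0, 3, 3, 1, 3,
    0, 2, 1, 2, 2, 0, 3, 3, 1, 3, 3, 0, 3, 1, 4, 3, 4, 2, 4]),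
    ([1, 0], 82, [3, 3, 1, 2, 0, 3, 3, 1, 2, 0, 3, 3, 1, 2, 0, 2, 1, 3, 0, 2, 2, 1, 3, 0, 2, 2, 1,
    3, 0, 3, 1, 2, 0, 2, 4, 2, 2, 2, 0, 2, 1, 3]),
    ([], 56, [2, 2, 1, 2, 0, 3, 3, 1, 2, 2, 0, 2, 2, 2, 1, 3, 3, 0, 0, 4, 2, 2, 2, 0, 4]),
    ([1, 0, 2, 0, 1, 3], 30, [3, 3, 1, 2, 0, 3, 3, 1, 2, 0, 3, 3, 1, 2, 0, 2, 2, 1, 2, 0, 2, 1, 3,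
    0, 2, 2, 1, 2, 0, 3, 3, 1, 3, 0, 3, 3, 0, 4, 2, 2, 2, 1, 3, 4, 3, 3]),
    ([], 59, [3, 3, 1, 2, 0, 3, 3, 1, 2, 0, 3, 3, 1, 2, 2, 0, 2, 2, 1, 3, 0, 3, 1, 2, 0, 3, 3, 1,
    2, 2, 2, 0, 2, 1, 2, 0, 2, 2, 2, 0, 4, 3, 4, 2, 4]),
    ([], 85, [3, 3, 1, 2, 0, 3, 3, 1, 2, 0, 3, 3, 1, 2, 0, 2, 1, 2, 2, 2, 0, 2, 1, 2, 2, 2, 0, 3,
    3, 1, 3, 0, 3, 0, 4, 2, 2, 2, 1, 3, 4, 3, 3]),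
    ([3, 0, 1], 63, [3, 3, 1, 2, 0, 3, 3, 1, 2, 0, 3, 3, 1, 2, 0, 3, 1, 2, 0, 2, 1, 2, 0, 3, 1, 3,
    0, 3, 1, 2, 0, 2, 1, 2, 2, 2, 0, 2, 1, 3, 0, 2, 4, 2, 0, 2, 4]),
    ([1, 5, 4, 1], 40, [2, 2, 2, 1, 2, 2, 0, 3, 4, 2, 2, 2, 0, 2, 0, 3, 4]),
    ([4, 1, 5, 1], 46, [3, 1, 3, 3, 0, 3, 1, 2, 0, 2, 1, 3, 3, 0, 2, 0, 4, 2, 2, 2, 0, 4]),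
    ([3, 2], 66, [3, 1, 2, 0, 3, 3, 1, 2, 0, 2, 2, 1, 3, 0, 3, 1, 2, 0, 2, 2, 1, 2, 0, 4, 2, 2, 2,
    0, 3, 4, 3, 3, 4]),
    ([3, 2], 85, [3, 3, 1, 2, 0, 3, 3, 1, 2, 0, 3, 3, 1, 2, 0, 2, 2, 1, 3, 3, 0, 3, 1, 3, 3, 0, 3,
    1, 2, 0, 2, 2, 1, 3, 0, 2, 2, 1, 3, 0, 3, 1, 3, 0, 2, 1, 2, 0, 0, 4, 2, 2, 2, 1, 3, 4, 3, 3]),
    ([3], 57, [2, 1, 2, 0, 2, 2, 1, 2, 0, 2, 1, 3, 0, 3, 3, 1, 3, 0, 2, 1, 2, 0, 3, 1, 3, 0, 2, 1,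
    2, 0, 3, 4, 2, 2, 4, 3, 4, 3, 3, 0, 2]),
    ([], 58, [3, 3, 1, 2, 0, 3, 3, 1, 2, 0, 3, 3, 1, 2, 0, 2, 2, 1, 2, 0, 3, 3, 1, 3, 0, 2, 2, 1,
    2, 0, 3, 1, 3, 0, 2, 1, 2, 2, 0, 2, 1, 2, 2, 0, 4, 2, 2, 4, 3, 4, 3, 3, 0, 2])])]

/-- Traces for generators 0, 1. -/
def tr01 : List (ℕ × List ℕ × List ℕ × List (List ℕ × ℕ × List ℕ)) := [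
  (0, [],
    [0], [
    ([], 0, []),
    ([], 1, [1]),
    ([], 2, [0]),
    ([], 4, [0, 0]),
    ([], 7, []),
    ([], 18, [0]),
    ([5], 13, [0, 0]),
    ([], 19, [4]),
    ([], 3, [0, 0, 4]),
    ([], 7, []),
    ([], 21, [0, 4]),
    ([], 6, []),
    ([5], 12, [1, 4]),
    ([], 10, [0]),
    ([], 20, [4]),
    ([], 21, [0, 4]),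
    ([], 4, [0, 0]),
    ([], 5, [0])]),
  (1, [0, 0],
    [], [
    ([], 5, [0]),
    ([0, 0, 0], 0, []),
    ([], 1, [1]),
    ([], 2, [0]),
    ([], 6, []),
    ([], 12, [1, 4]),
    ([], 6, []),
    ([], 12, [1, 4]),
    ([], 10, [0]),
    ([], 20, [4]),
    ([], 18, [0]),
    ([], 13, [0, 0]),
    ([], 18, [0]),
    ([], 13, [0, 0]),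
    ([], 19, [4]),
    ([], 3, [0, 0, 4]),
    ([], 5, [0]),
    ([0, 0, 0], 0, [])]),
  (1, [0, 4, 2, 4, 3, 3, 1, 4],
    [1, 0, 1, 0, 1, 0, 0, 0, 1, 1, 1, 1, 1, 1, 1, 0, 1, 1, 0, 0, 1, 0, 1, 1, 0, 1, 1], [
    ([1, 1, 0, 1, 0, 1, 1, 1, 1], 9, [3, 3, 1, 2, 0, 3, 3, 1, 2, 0, 3, 3, 1, 2, 2, 0, 2, 2, 1, 2,
    0, 2, 1, 3, 0, 3, 1, 3, 3, 0, 3, 1, 2, 0, 2, 1, 3, 0, 3, 1, 2, 0, 2, 2, 1, 3, 0]),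
    ([], 69, [3, 3, 1, 2, 0, 3, 3, 1, 2, 0, 3, 3, 1, 2, 0, 2, 2, 1, 3, 0, 2, 2, 1, 2, 0, 2, 1, 3,
    0, 3, 3, 1, 3, 0, 2, 2, 1, 3, 0, 2, 2, 1, 3, 0, 2, 2, 1, 3, 0, 0, 4, 2, 4, 3, 3, 1, 4]),
    ([], 70, [3, 3, 1, 2, 0, 3, 3, 1, 2, 0, 3, 3, 3, 1, 3, 0, 2, 1, 2, 0, 2, 2, 2, 1, 3, 0, 2, 2,
    2, 1, 3, 0, 3, 1, 2, 0, 2, 1, 2, 2, 2, 0, 0]),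
    ([], 57, [3, 1, 2, 2, 0, 2, 1, 3, 3, 0, 3, 1, 2, 2, 0, 2, 1, 2, 2, 0, 2, 0, 4, 2, 4, 3, 3, 1,
    4]),
    ([2, 3, 3], 59, [3, 3, 1, 2, 0, 3, 3, 1, 2, 0, 3, 3, 1, 2, 2, 0, 3, 1, 3, 3, 0, 3, 1, 2, 0, 2,
    1, 3, 0, 0, 4, 2, 4, 3, 4]),
    ([], 75, [1, 2, 0, 2, 1, 2, 0, 2, 1, 3, 4, 2, 4, 3, 4]),
    ([], 75, [3, 3, 1, 2, 0, 3, 3, 1, 2, 0, 3, 3, 1, 2, 2, 0, 2, 2, 1, 3, 0, 3, 1, 2, 0, 3, 3, 1,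
    2, 2, 0, 3, 3, 1, 2, 2, 0, 3, 1, 4, 2, 4, 3, 4]),
    ([1, 0], 82, [3, 3, 1, 2, 0, 3, 3, 1, 2, 0, 3, 3, 1, 2, 0, 2, 2, 1, 2, 0, 3, 3, 1, 2, 2, 0, 2,
    2, 2, 4]),
    ([], 56, [2, 1, 3, 0, 2, 1, 2, 0, 2, 1, 3, 0, 3, 1, 2, 0, 2, 4, 3, 0, 4, 3, 0]),
    ([1, 0, 2, 0, 1, 3], 30, [3, 3, 1, 2, 0, 3, 3, 1, 2, 0, 3, 3, 3, 1, 2, 2, 0, 2, 2, 1, 2, 0, 2,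
    1, 2, 0, 2, 1, 2, 0, 3, 3, 4, 2, 1, 2, 4]),
    ([], 63, [3, 1, 3, 0, 2, 1, 2, 0, 2, 1, 3, 0, 3, 1, 3, 3, 0, 3, 1, 2, 0, 3, 1, 2, 0, 3, 1, 3,
    0, 3, 3, 1, 3, 0, 3, 4, 3, 0, 4, 3, 1]),
    ([1, 5, 4, 1], 40, [3, 3, 1, 2, 0, 3, 3, 1, 2, 0, 3, 1, 2, 0, 2, 1, 2, 2, 0, 3, 1, 3, 0, 2, 1,
    2, 2, 2, 2, 0, 2, 1, 2, 0, 3, 4, 2, 4, 3]),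
    ([1, 0, 4, 5], 40, [1, 3, 0, 2, 2, 1, 2, 0, 2, 1, 3, 0, 3, 1, 2, 0, 2, 1, 2, 0, 2, 4, 3, 0, 4,
    3, 0]),
    ([4, 1, 5, 1], 46, [3, 3, 1, 2, 0, 3, 3, 1, 2, 0, 3, 1, 2, 0, 2, 2, 1, 2, 0, 2, 2, 1, 3, 3, 3,
    0, 3, 1, 2, 0, 2, 0, 4, 3, 0, 4]),
    ([3, 2], 66, [3, 3, 1, 2, 0, 3, 3, 1, 2, 0, 3, 3, 1, 2, 2, 0, 2, 1, 2, 0, 3, 1, 3, 3, 0, 2, 2,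
    1, 2, 0, 2, 1, 3, 0, 3, 3, 1, 2, 2, 0, 3, 1, 3, 0, 3, 4, 2, 4, 3, 3, 1, 4]),
    ([3, 2], 85, [3, 3, 1, 2, 0, 3, 3, 1, 2, 0, 3, 3, 1, 3, 0, 2, 1, 2, 2, 0, 3, 1, 3, 3, 0, 2, 1,
    2, 0, 2, 1, 3, 3, 0, 0, 4, 2, 4, 3, 3, 0]),
    ([3], 57, [1, 2, 0, 2, 1, 3, 3, 0, 3, 3, 1, 2, 0, 3, 1, 3, 0, 3, 1, 3, 3, 0, 2, 2, 1, 2, 2, 2,
    0, 0, 4, 2, 4, 3, 3, 0, 4]),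
    ([], 58, [3, 1, 2, 0, 2, 1, 3, 0, 3, 1, 3, 3, 0, 2, 2, 2, 1, 2, 2, 0, 2, 1, 3, 0, 0, 4, 2, 4,
    3, 3, 0, 4])]),
  (1, [0, 4, 2, 2, 2, 1, 4, 3, 4, 3],
    [0, 0, 1, 0, 1, 0, 1, 1, 0, 0, 1, 0, 1, 0, 1, 1, 0, 1, 1, 1, 1, 0, 1, 0, 1, 0, 1, 1, 1, 1, 0,
    1], [
    ([1, 1, 0, 1, 1, 1, 1], 9, [3, 3, 1, 2, 0, 3, 3, 1, 2, 0, 3, 3, 1, 2, 2, 0, 2, 2, 1, 3, 0, 3,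
    1, 2, 0, 3, 3, 1, 2, 0, 3]),
    ([], 69, [2, 2, 1, 3, 0, 3, 1, 2, 2, 0, 2, 1, 3, 0, 3, 3, 1, 3, 3, 0, 2, 1, 2, 0, 2, 2, 1, 3,
    3, 0, 3, 0, 4, 2, 2, 2, 1, 4, 3, 4, 3]),
    ([], 70, [2, 1, 2, 0, 2, 1, 3, 0, 2, 1, 2, 2, 0, 2, 1, 3, 3, 0, 3, 3, 3, 1, 2, 0, 2, 2, 0]),
    ([], 57, [1, 3, 3, 0, 3, 1, 3, 0, 2, 1, 2, 0, 2, 1, 3, 0, 3, 1, 3, 0, 2, 1, 2, 0, 2, 2, 0, 4,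
    2, 2, 2, 1, 4, 3, 4, 3]),
    ([0, 1, 3], 65, [3, 3, 1, 2, 0, 3, 3, 1, 2, 0, 3, 3, 3, 1, 2, 0, 3, 3, 1, 3, 0, 3, 1, 2, 0, 3,
    3, 1, 2, 0, 2, 1, 2, 0, 2, 2, 2, 1, 3, 3, 0, 0, 4, 2, 0, 4, 2, 4, 2, 1, 4]),
    ([1, 3], 55, [1, 3, 0, 3, 1, 2, 2, 0, 2, 2, 1, 2, 2, 0, 2, 1, 2, 0, 2, 1, 2, 0, 2, 1, 3, 0, 2,
    0, 4, 2, 4, 3, 4, 3, 3, 4, 3]),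
    ([0, 5, 4, 3], 44, [3, 1, 2, 0, 3, 3, 1, 2, 0, 2, 2, 1, 3, 0, 3, 1, 2, 2, 2, 0, 2, 2, 1, 3, 0,
    0, 4, 2, 0, 4, 2, 4, 2, 0, 4]),
    ([3, 1, 1], 65, [3, 3, 1, 2, 0, 3, 3, 1, 2, 0, 3, 3, 1, 2, 2, 0, 2, 2, 1, 3, 0, 2, 1, 2, 0, 3,
    1, 3, 0, 3, 3, 1, 3, 0, 2, 2, 1, 2, 0, 3, 4, 2, 4, 3, 4, 3, 3, 4, 3]),
    ([1, 3], 55, [3, 3, 1, 3, 3, 0, 3, 1, 2, 0, 2, 1, 3, 0, 3, 3, 3, 1, 2, 2, 0, 3, 4, 2, 0, 4, 2,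
    4, 2, 0, 4]),
    ([2, 4, 5, 2], 45, [1, 2, 0, 3, 1, 3, 3, 0, 3, 1, 2, 0, 2, 1, 3, 0, 2, 2, 1, 3, 3, 0, 2, 2, 1,
    3, 0, 2, 2, 2, 1, 2, 0, 4, 3, 0, 4, 3, 3, 1, 3]),
    ([3], 83, [1, 3, 3, 0, 3, 1, 2, 2, 0, 3, 1, 3, 3, 0, 2, 1, 2, 0, 2, 1, 3, 0, 3, 3, 1, 3, 0, 3,
    0, 4, 2, 2, 2, 0, 4, 3, 4, 3]),
    ([1, 1, 0, 0, 2, 3], 31, [3, 3, 1, 2, 0, 3, 3, 1, 2, 0, 3, 3, 1, 2, 0, 2, 1, 2, 2, 2, 0, 2, 1,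
    2, 2, 2, 2, 0, 3, 1, 3, 0, 3, 3, 0, 4, 2, 2, 2, 0, 2, 1, 2]),
    ([0, 1, 0, 3], 83, [3, 3, 1, 2, 0, 3, 3, 1, 2, 0, 3, 3, 1, 2, 2, 0, 2, 2, 1, 2, 0, 2, 1, 3, 0,
    3, 1, 3, 3, 0, 3, 1, 2, 0, 2, 1, 2, 0, 2, 2, 1, 2, 0, 3, 1, 3, 0, 0, 4, 2, 2, 2, 1, 4, 3, 4,
    3]),
    ([1, 1, 0, 0, 2, 3], 31, [3, 3, 1, 2, 0, 3, 3, 1, 2, 0, 3, 3, 1, 2, 0, 2, 2, 1, 3, 0, 3, 1, 3,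
    3, 0, 3, 1, 2, 0, 2, 1, 2, 0, 3, 3, 1, 2, 0, 2, 2, 1, 3, 0, 2, 0, 4, 2, 2, 2, 0, 2, 1, 2]),
    ([], 93, [1, 3, 3, 0, 2, 1, 2, 2, 0, 3, 1, 3, 3, 0, 2, 2, 1, 3, 0, 3, 3, 1, 2, 0, 2, 2, 4, 2,
    1, 4, 2, 4, 2]),
    ([], 67, [3, 3, 1, 2, 0, 3, 3, 1, 2, 0, 3, 3, 1, 2, 0, 2, 2, 1, 2, 0, 3, 3, 1, 3, 0, 2, 2, 1,
    2, 0, 3, 3, 1, 3, 3, 0, 2, 1, 2, 0, 3, 4, 2, 4, 3, 4, 3, 3, 4, 3]),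
    ([3], 57, [3, 3, 1, 2, 0, 3, 3, 1, 2, 0, 3, 3, 1, 2, 0, 2, 1, 3, 3, 0, 2, 2, 1, 2, 0, 3, 1, 3,
    3, 3, 3, 0, 2, 2, 1, 2, 2, 0, 0, 4, 2, 2, 2, 0, 4, 3, 4, 3]),
    ([], 58, [2, 2, 1, 2, 0, 2, 2, 2, 1, 3, 0, 3, 3, 3, 3, 1, 2, 2, 2, 0, 0, 4, 2, 2, 2, 0, 4, 3,
    4, 3])]),
  (1, [4, 2, 2, 4, 3, 4, 3, 3, 0, 2],
    [1, 0, 1, 0, 0, 1, 1, 1, 1, 0, 0, 0, 1, 1, 1, 0, 0, 0, 0, 1, 0, 1, 1, 1, 1, 0, 1, 0, 0, 1, 1,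
    0, 1, 1, 0, 0, 0, 1, 0, 1, 1, 1, 0, 0, 0, 1], [
    ([0, 1, 0, 0, 0, 0], 9, [3, 3, 1, 2, 0, 3, 3, 1, 2, 0, 3, 3, 1, 2, 0, 3, 1, 2, 2, 2, 0, 2, 1,
    3, 3, 0, 3, 3, 1, 2, 0, 3, 1, 2, 0, 3, 3, 1, 2, 0]),
    ([], 69, [2, 1, 3, 0, 2, 1, 2, 0, 2, 1, 3, 0, 3, 1, 2, 0, 3, 1, 3, 0, 2, 2, 2, 2, 2, 1, 2, 2,
    2, 0, 2, 4, 2, 2, 4, 3, 4, 3, 3, 0, 2]),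
    ([], 70, [1, 2, 0, 2, 1, 3, 0, 3, 3, 1, 2, 0, 3, 1, 3, 0, 3, 3, 3, 1, 2, 2, 0, 2, 2, 1, 3, 0,
    0]),
    ([], 57, [1, 2, 2, 0, 3, 3, 1, 2, 0, 3, 1, 3, 0, 2, 1, 2, 2, 0, 2, 1, 3, 0, 2, 2, 1, 3, 0, 2,
    1, 2, 0, 4, 2, 2, 4, 3, 4, 3, 3, 0, 2]),
    ([0, 2], 59, [1, 3, 0, 2, 1, 2, 0, 2, 1, 2, 2, 0, 3, 1, 3, 0, 2, 1, 2, 2, 2, 2, 2, 0, 2, 1, 2,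
    0, 3, 0, 4, 3, 4, 2, 4]),
    ([], 75, [3, 3, 1, 2, 0, 3, 3, 1, 2, 0, 3, 3, 1, 3, 0, 2, 1, 2, 0, 2, 2, 1, 3, 0, 3, 3, 1, 3,
    0, 2, 1, 2, 2, 0, 3, 3, 1, 3, 3, 0, 3, 1, 4, 3, 4, 2, 4]),
    ([], 75, [3, 3, 1, 2, 0, 3, 3, 1, 2, 0, 3, 3, 1, 2, 2, 0, 2, 1, 2, 0, 2, 1, 3, 0, 3, 3, 1, 3,
    3, 0, 2, 1, 2, 0, 2, 1, 2, 2, 0, 3, 3, 1, 4, 3, 4, 2, 4]),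
    ([1, 0], 82, [3, 3, 1, 2, 0, 3, 3, 1, 2, 0, 3, 3, 1, 2, 0, 2, 1, 2, 0, 2, 1, 3, 0, 2, 2, 1, 2,
    2, 2, 0, 2, 1, 2, 2, 2, 0, 2, 1, 2, 0, 3, 4]),
    ([], 56, [3, 3, 1, 2, 0, 3, 3, 1, 2, 0, 3, 3, 1, 2, 0, 3, 1, 2, 2, 2, 0, 2, 1, 3, 3, 0, 3, 3,
    1, 2, 0, 3, 3, 1, 3, 3, 0, 2, 2, 1, 3, 0, 0, 4, 2, 2, 2, 1, 4]),
    ([1, 0, 2, 0, 1, 3], 30, [3, 3, 1, 2, 0, 3, 3, 1, 2, 0, 3, 3, 1, 2, 0, 2, 1, 2, 2, 2, 0, 2, 1,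
    3, 3, 0, 2, 1, 2, 2, 2, 0, 2, 2, 2, 4, 2, 1, 2, 4]),
    ([], 63, [3, 3, 1, 2, 0, 3, 3, 1, 2, 0, 3, 3, 1, 2, 0, 2, 2, 1, 3, 0, 3, 1, 3, 3, 0, 3, 1, 2,
    0, 2, 1, 2, 0, 3, 3, 1, 2, 0, 2, 1, 2, 2, 2, 0, 3, 0, 4, 2, 2, 2, 0, 4]),
    ([1, 5, 4, 1], 40, [3, 1, 2, 2, 0, 2, 1, 3, 0, 2, 2, 1, 2, 2, 0, 3, 3, 1, 3, 0, 2, 1, 2, 2, 0,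
    2, 1, 2, 0, 2, 4, 3, 4, 2]),
    ([1, 0, 4, 5], 40, [1, 3, 3, 0, 2, 1, 2, 0, 2, 2, 1, 3, 0, 3, 3, 1, 3, 0, 2, 2, 1, 2, 2, 0, 0,
    4, 2, 2, 2, 1, 4]),
    ([4, 1, 5, 1], 46, [3, 3, 1, 2, 0, 3, 3, 1, 2, 0, 3, 3, 1, 2, 0, 2, 1, 3, 3, 0, 2, 2, 1, 2, 0,
    3, 1, 3, 3, 0, 2, 2, 1, 2, 2, 0, 2, 1, 3, 0, 2, 4, 2, 2, 2, 0, 2, 1, 3, 4]),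
    ([3, 2], 66, [2, 1, 2, 0, 3, 1, 3, 0, 2, 1, 2, 0, 3, 1, 3, 0, 3, 1, 2, 0, 3, 1, 3, 0, 2, 4, 2,
    2, 2, 1, 3, 4, 3, 3, 4]),
    ([3, 2], 85, [2, 1, 2, 0, 3, 1, 3, 3, 0, 3, 3, 1, 2, 0, 2, 2, 1, 3, 0, 2, 1, 2, 0, 3, 3, 1, 2,
    0, 0, 4, 2, 2, 2, 0, 3, 4, 3, 3]),
    ([3], 57, [1, 2, 2, 0, 3, 1, 3, 3, 0, 3, 3, 1, 3, 0, 2, 2, 1, 2, 0, 2, 2, 2, 1, 2, 2, 0, 2, 4,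
    2, 2, 4, 3, 4, 3, 3, 1, 2]),
    ([], 58, [3, 3, 1, 2, 0, 3, 3, 1, 2, 0, 3, 3, 1, 2, 0, 3, 1, 3, 0, 2, 2, 1, 2, 0, 2, 2, 1, 3,
    3, 0, 3, 1, 2, 0, 2, 2, 2, 2, 1, 3, 3, 0, 3, 1, 2, 2, 0, 4, 2, 2, 4, 3, 4, 3, 3, 1, 2])])]

/-- Traces for generators 0, 2. -/
def tr02 : List (ℕ × List ℕ × List ℕ × List (List ℕ × ℕ × List ℕ)) := [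
  (0, [],
    [0, 2], [
    ([], 0, []),
    ([], 1, [1]),
    ([], 2, [0]),
    ([], 4, [0, 0]),
    ([], 7, []),
    ([], 18, [0]),
    ([], 13, [0, 0]),
    ([3], 20, [4]),
    ([], 21, [0, 4]),
    ([], 4, [0, 0]),
    ([], 5, [0]),
    ([0, 0, 0], 0, []),
    ([], 1, [1]),
    ([], 10, [0]),
    ([], 20, [4]),
    ([], 21, [0, 4]),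
    ([], 4, [0, 0]),
    ([], 5, [0])]),
  (1, [0, 0],
    [], [
    ([], 5, [0]),
    ([0, 0, 0], 0, []),
    ([], 1, [1]),
    ([], 2, [0]),
    ([], 6, []),
    ([], 12, [1, 4]),
    ([], 10, [0]),
    ([3], 19, [4]),
    ([], 3, [0, 0, 4]),
    ([], 5, [0]),
    ([0, 0, 0], 0, []),
    ([], 1, [1]),
    ([], 2, [0]),
    ([], 6, []),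
    ([], 12, [1, 4]),
    ([], 10, [0]),
    ([3], 19, [4]),
    ([], 3, [0, 0, 4])]),
  (1, [0, 4, 2, 4, 3, 3, 1, 4],
    [1, 0, 1, 0, 1, 0, 1, 1, 0, 0, 1, 0, 1, 0, 1, 1, 0, 0, 1, 0, 1, 0, 0, 0, 1, 0, 1, 0, 0, 1, 1,
    0, 1, 1, 0, 1, 1, 0, 1, 1, 1], [
    ([1, 1, 0, 1, 0, 1, 1, 1, 1], 9, [3, 3, 1, 2, 0, 3, 3, 1, 2, 0, 3, 3, 1, 2, 2, 0, 2, 2, 1, 2,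
    0, 2, 1, 3, 0, 3, 1, 3, 3, 0, 3, 1, 2, 0, 2, 1, 3, 0, 3, 1, 2, 0, 2, 2, 1, 3, 0]),
    ([], 69, [3, 3, 1, 2, 0, 3, 3, 1, 2, 0, 3, 3, 1, 2, 0, 2, 2, 1, 3, 0, 2, 2, 1, 2, 0, 2, 1, 3,
    0, 3, 3, 1, 3, 0, 2, 2, 1, 3, 0, 2, 2, 1, 3, 0, 2, 2, 1, 3, 0, 0, 4, 2, 4, 3, 3, 1, 4]),
    ([], 70, [3, 3, 1, 2, 0, 3, 3, 1, 2, 0, 3, 3, 3, 1, 3, 0, 2, 1, 2, 0, 2, 2, 2, 1, 3, 0, 2, 2,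
    2, 1, 3, 0, 3, 1, 2, 0, 2, 1, 2, 2, 2, 0, 0]),
    ([], 57, [3, 1, 2, 2, 0, 2, 1, 3, 3, 0, 3, 1, 2, 2, 0, 2, 1, 2, 2, 0, 2, 0, 4, 2, 4, 3, 3, 1,
    4]),
    ([2, 3, 3], 59, [3, 3, 1, 2, 0, 3, 3, 1, 2, 0, 3, 3, 1, 2, 2, 0, 3, 1, 3, 3, 0, 3, 1, 2, 0, 2,
    1, 3, 0, 0, 4, 2, 4, 3, 4]),
    ([], 75, [1, 2, 0, 2, 1, 2, 0, 2, 1, 3, 4, 2, 4, 3, 4]),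
    ([1, 0], 82, [3, 3, 1, 2, 0, 3, 3, 1, 2, 0, 3, 3, 1, 2, 0, 2, 1, 3, 0, 2, 1, 2, 0, 2, 1, 3, 0,
    3, 1, 2, 0, 3, 1, 3, 0, 2, 2, 2, 2, 2, 1, 3, 3, 0, 2, 0, 4, 3, 0]),
    ([3, 2], 66, [1, 3, 0, 3, 1, 3, 3, 0, 2, 1, 2, 2, 0, 2, 1, 3, 0, 3, 1, 2, 2, 0, 4, 2, 4, 3, 3,
    1, 4]),
    ([3, 2], 85, [3, 3, 1, 2, 0, 3, 3, 1, 2, 0, 3, 3, 1, 2, 0, 2, 2, 2, 1, 3, 0, 3, 1, 3, 3, 0, 3,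
    1, 3, 0, 2, 1, 2, 2, 2, 0, 3, 3, 1, 3, 3, 0, 3, 0, 4, 2, 4, 3, 3, 0]),
    ([3], 57, [3, 3, 1, 2, 0, 3, 3, 1, 2, 0, 3, 3, 1, 2, 0, 2, 2, 1, 2, 0, 2, 1, 3, 0, 2, 2, 1, 2,
    2, 0, 2, 1, 3, 0, 2, 2, 1, 2, 2, 0, 2, 0, 4, 2, 4, 3, 3, 0, 4]),
    ([], 58, [3, 3, 1, 2, 0, 3, 3, 1, 2, 0, 3, 3, 1, 2, 2, 0, 2, 1, 2, 2, 0, 3, 3, 1, 3, 0, 2, 1,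
    2, 0, 2, 1, 2, 0, 3, 1, 2, 0, 2, 1, 3, 0, 0, 4, 2, 4, 3, 3, 0, 4]),
    ([0, 0, 0, 1, 0, 1, 1, 1, 0, 0], 9, [3, 3, 1, 2, 0, 3, 3, 1, 2, 0, 3, 3, 1, 3, 0, 2, 1, 2, 2,
    0, 3, 1, 3, 3, 0, 2, 1, 2, 0, 2, 2]),
    ([], 69, [3, 3, 1, 2, 0, 3, 3, 1, 2, 0, 3, 3, 1, 2, 0, 2, 2, 1, 2, 0, 3, 3, 1, 3, 0, 2, 1, 2,
    0, 2, 1, 3, 0, 3, 1, 3, 0, 2, 1, 2, 0, 2, 1, 2, 0, 3, 0, 4, 2, 4, 3, 3, 0, 4]),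
    ([2, 3], 66, [3, 3, 1, 2, 0, 3, 3, 1, 2, 0, 3, 3, 1, 2, 0, 2, 1, 2, 2, 2, 0, 2, 1, 2, 2, 2, 0,
    3, 1, 2, 0, 2, 1, 3, 0, 2, 2, 1, 3, 0, 4, 2, 4, 3, 3, 1, 4]),
    ([3, 2], 85, [2, 2, 1, 3, 3, 0, 3, 1, 3, 3, 0, 3, 1, 2, 0, 2, 2, 1, 3, 0, 3, 1, 2, 0, 2, 1, 2,
    0, 2, 1, 3, 0, 2, 4, 3, 0, 4, 3, 0]),
    ([3, 0, 1], 63, [1, 2, 0, 2, 1, 3, 3, 0, 3, 3, 1, 2, 0, 2, 2, 1, 2, 2, 0, 0, 4, 3, 0, 4]),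
    ([], 34, [3, 3, 1, 2, 0, 3, 3, 1, 2, 0, 3, 3, 3, 1, 2, 2, 0, 2, 2, 1, 2, 2, 0, 2, 1, 2, 0, 2,
    1, 2, 2, 0, 2, 1, 2, 0, 2, 0, 4, 3, 1]),
    ([0, 0, 0, 1], 27, [3, 3, 1, 2, 0, 3, 3, 1, 2, 0, 3, 3, 3, 1, 2, 2, 0, 2, 1, 3, 3, 0, 2, 1, 2,
    2, 0, 2, 1, 3, 0, 2, 1, 2, 0, 0, 4, 2, 4, 3, 3, 1])]),
  (1, [0, 4, 2, 2, 2, 1, 4, 3, 4, 3],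
    [1, 0, 1, 0, 0, 0, 0, 0, 1, 1, 1, 0, 1, 0, 1, 0, 0, 1, 1, 1, 0, 0, 0, 1, 1, 1, 0, 0, 1, 0, 0], [
    ([1, 1, 0, 1, 1, 1, 1], 9, [3, 3, 1, 2, 0, 3, 3, 1, 2, 0, 3, 3, 1, 2, 2, 0, 2, 2, 1, 3, 0, 3,
    1, 2, 0, 3, 3, 1, 2, 0, 3]),
    ([], 69, [2, 2, 1, 3, 0, 3, 1, 2, 2, 0, 2, 1, 3, 0, 3, 3, 1, 3, 3, 0, 2, 1, 2, 0, 2, 2, 1, 3,
    3, 0, 3, 0, 4, 2, 2, 2, 1, 4, 3, 4, 3]),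
    ([], 70, [2, 1, 2, 0, 2, 1, 3, 0, 2, 1, 2, 2, 0, 2, 1, 3, 3, 0, 3, 3, 3, 1, 2, 0, 2, 2, 0]),
    ([], 57, [1, 3, 3, 0, 3, 1, 3, 0, 2, 1, 2, 0, 2, 1, 3, 0, 3, 1, 3, 0, 2, 1, 2, 0, 2, 2, 0, 4,
    2, 2, 2, 1, 4, 3, 4, 3]),
    ([0, 1, 3], 65, [3, 3, 1, 2, 0, 3, 3, 1, 2, 0, 3, 3, 3, 1, 2, 0, 3, 3, 1, 3, 0, 3, 1, 2, 0, 3,
    3, 1, 2, 0, 2, 1, 2, 0, 2, 2, 2, 1, 3, 3, 0, 0, 4, 2, 0, 4, 2, 4, 2, 1, 4]),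
    ([1, 3], 55, [1, 3, 0, 3, 1, 2, 2, 0, 2, 2, 1, 2, 2, 0, 2, 1, 2, 0, 2, 1, 2, 0, 2, 1, 3, 0, 2,
    0, 4, 2, 4, 3, 4, 3, 3, 4, 3]),
    ([2, 4, 5, 2], 45, [3, 3, 1, 2, 0, 3, 3, 1, 2, 0, 3, 3, 1, 2, 0, 3, 1, 2, 2, 2, 0, 3, 1, 3, 0,
    2, 1, 2, 0, 2, 1, 2, 2, 2, 0, 2, 1, 3, 0, 3, 3, 1, 2, 0, 4, 3, 0, 4, 3, 3, 0, 3]),
    ([0, 1, 2], 93, [3, 3, 1, 2, 0, 3, 3, 1, 2, 0, 3, 3, 1, 2, 0, 3, 1, 2, 0, 2, 1, 2, 0, 3, 1, 3,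
    0, 3, 1, 2, 0, 2, 1, 2, 2, 0, 2, 1, 2, 0, 2, 2, 2, 1, 3, 0, 4, 2, 1, 4, 2, 4, 2]),
    ([], 67, [2, 2, 1, 2, 0, 2, 1, 3, 0, 2, 2, 1, 2, 2, 0, 3, 1, 2, 0, 2, 1, 3, 0, 4, 2, 4, 3, 4,
    3, 3, 4, 3]),
    ([3], 57, [3, 3, 1, 2, 0, 3, 3, 1, 2, 2, 0, 3, 3, 1, 3, 3, 0, 2, 1, 2, 0, 2, 1, 3, 0, 0, 4, 2,
    2, 2, 0, 4, 3, 4, 3]),
    ([], 58, [3, 3, 1, 2, 0, 3, 3, 1, 2, 0, 3, 3, 1, 2, 2, 0, 2, 1, 2, 0, 2, 1, 3, 0, 3, 3, 1, 3,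
    3, 0, 2, 1, 2, 0, 3, 3, 1, 2, 2, 2, 0, 0, 4, 2, 2, 2, 0, 4, 3, 4, 3]),
    ([0, 0, 0, 1, 0, 1, 1, 1, 0, 0], 9, [3, 3, 1, 2, 0, 3, 3, 1, 2, 0, 3, 3, 3, 1, 3, 3, 0, 2, 1,
    2, 2, 0, 3, 3, 1, 2, 2, 0]),
    ([], 69, [3, 3, 1, 2, 0, 3, 3, 1, 2, 0, 3, 3, 1, 2, 0, 3, 1, 3, 0, 2, 1, 2, 0, 2, 1, 3, 0, 3,
    1, 3, 3, 0, 3, 1, 2, 2, 2, 2, 0, 2, 0, 4, 2, 2, 2, 0, 4, 3, 4, 3]),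
    ([2, 1, 3, 2], 67, [1, 2, 0, 2, 1, 3, 0, 3, 3, 1, 2, 0, 3, 1, 3, 0, 3, 3, 1, 2, 0, 3, 1, 3, 0,
    2, 2, 0, 4, 3, 0, 4, 3, 3, 0, 3]),
    ([], 60, [3, 3, 1, 2, 0, 3, 3, 1, 2, 0, 3, 3, 1, 2, 0, 2, 2, 2, 1, 3, 0, 3, 1, 3, 3, 0, 3, 1,
    3, 0, 3, 1, 2, 0, 2, 0, 4, 2, 4, 3, 4, 3, 3, 4, 3]),
    ([], 83, [3, 3, 1, 2, 0, 3, 3, 1, 2, 0, 3, 3, 1, 2, 2, 0, 2, 1, 2, 0, 2, 1, 3, 0, 3, 3, 1, 3,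
    3, 0, 2, 1, 2, 0, 3, 3, 1, 3, 0, 3, 1, 2, 0, 2, 1, 3, 0, 0, 4, 2, 2, 2, 1, 4, 3, 4, 3]),
    ([0, 0, 2], 26, [1, 3, 0, 3, 1, 2, 0, 3, 3, 1, 3, 0, 3, 1, 2, 0, 3, 3, 1, 2, 0, 2, 2, 2, 1, 2,
    2, 0, 2, 1, 3, 0, 3, 0, 4, 2, 1, 4, 2, 4, 2]),
    ([], 32, [3, 3, 1, 2, 0, 3, 3, 1, 2, 0, 3, 3, 1, 2, 0, 3, 1, 3, 3, 0, 3, 3, 1, 2, 0, 3, 1, 3,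
    3, 0, 3, 3, 1, 2, 0, 2, 4, 3, 1, 4, 3, 4, 3, 4, 3])]),
  (1, [4, 2, 2, 4, 3, 4, 3, 3, 0, 2],
    [0, 0, 1, 0, 1, 0, 1, 1, 0, 0, 1, 0, 1, 0, 1, 1, 1, 0, 0, 1, 1, 0, 1, 0, 1, 0, 0, 1, 0, 1, 1,
    0, 1, 1, 0, 0, 0], [
    ([0, 1, 0, 0, 0, 0], 9, [3, 3, 1, 2, 0, 3, 3, 1, 2, 0, 3, 3, 1, 2, 0, 3, 1, 2, 2, 2, 0, 2, 1,
    3, 3, 0, 3, 3, 1, 2, 0, 3, 1, 2, 0, 3, 3, 1, 2, 0]),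
    ([], 69, [2, 1, 3, 0, 2, 1, 2, 0, 2, 1, 3, 0, 3, 1, 2, 0, 3, 1, 3, 0, 2, 2, 2, 2, 2, 1, 2, 2,
    2, 0, 2, 4, 2, 2, 4, 3, 4, 3, 3, 0, 2]),
    ([], 70, [1, 2, 0, 2, 1, 3, 0, 3, 3, 1, 2, 0, 3, 1, 3, 0, 3, 3, 3, 1, 2, 2, 0, 2, 2, 1, 3, 0,
    0]),
    ([], 57, [1, 2, 2, 0, 3, 3, 1, 2, 0, 3, 1, 3, 0, 2, 1, 2, 2, 0, 2, 1, 3, 0, 2, 2, 1, 3, 0, 2,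
    1, 2, 0, 4, 2, 2, 4, 3, 4, 3, 3, 0, 2]),
    ([0, 2], 59, [1, 3, 0, 2, 1, 2, 0, 2, 1, 2, 2, 0, 3, 1, 3, 0, 2, 1, 2, 2, 2, 2, 2, 0, 2, 1, 2,
    0, 3, 0, 4, 3, 4, 2, 4]),
    ([], 75, [3, 3, 1, 2, 0, 3, 3, 1, 2, 0, 3, 3, 1, 3, 0, 2, 1, 2, 0, 2, 2, 1, 3, 0, 3, 3, 1, 3,
    0, 2, 1, 2, 2, 0, 3, 3, 1, 3, 3, 0, 3, 1, 4, 3, 4, 2, 4]),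
    ([1, 0], 82, [3, 3, 1, 2, 0, 3, 3, 1, 2, 0, 3, 3, 1, 2, 0, 2, 1, 3, 0, 2, 2, 1, 3, 0, 2, 2, 1,
    3, 0, 3, 1, 2, 0, 2, 4, 2, 2, 2, 0, 2, 1, 3]),
    ([3, 2], 66, [3, 1, 3, 3, 0, 3, 3, 1, 2, 0, 3, 1, 2, 0, 4, 2, 2, 2, 1, 3, 4, 3, 3, 4]),
    ([3, 2], 85, [3, 3, 1, 2, 0, 3, 3, 1, 2, 0, 3, 3, 3, 1, 3, 0, 2, 1, 2, 0, 2, 2, 2, 1, 3, 0, 2,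
    2, 2, 1, 3, 0, 2, 2, 1, 3, 0, 0, 4, 2, 2, 2, 0, 3, 4, 3, 3]),
    ([3], 57, [3, 3, 1, 2, 0, 3, 3, 1, 2, 0, 3, 1, 2, 0, 2, 2, 1, 2, 0, 2, 2, 1, 3, 3, 0, 2, 1, 2,
    0, 2, 1, 3, 3, 0, 2, 1, 2, 0, 4, 2, 2, 4, 3, 4, 3, 3, 1, 2]),
    ([], 58, [3, 3, 1, 2, 0, 3, 3, 1, 2, 0, 2, 1, 2, 0, 2, 2, 1, 2, 2, 0, 2, 2, 2, 1, 3, 3, 0, 3,
    1, 2, 2, 0, 4, 2, 2, 4, 3, 4, 3, 3, 1, 2]),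
    ([0, 0, 0, 1, 0, 1, 1, 1, 0, 0], 9, [3, 1, 2, 0, 3, 3, 1, 3, 0, 2, 1, 2, 0, 2, 1, 2, 0, 3, 1,
    3, 0]),
    ([], 69, [2, 2, 2, 1, 3, 0, 2, 2, 1, 2, 0, 2, 2, 2, 2, 2, 1, 3, 0, 4, 2, 2, 4, 3, 4, 3, 3, 1,
    2]),
    ([2, 3], 66, [1, 3, 3, 0, 3, 1, 2, 2, 0, 2, 1, 2, 0, 2, 1, 3, 0, 3, 1, 2, 0, 3, 3, 4, 2, 2, 2,
    1, 3, 4, 3, 3, 4]),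
    ([3, 2], 85, [1, 3, 3, 0, 3, 1, 3, 3, 0, 3, 1, 2, 0, 2, 1, 2, 2, 0, 2, 1, 2, 0, 2, 2, 1, 2, 2,
    0, 3, 1, 3, 0, 2, 0, 4, 2, 2, 2, 1, 4]),
    ([3, 0, 1], 63, [1, 3, 0, 3, 3, 1, 3, 3, 0, 3, 1, 3, 3, 0, 2, 1, 2, 0, 2, 2, 2, 1, 2, 2, 0, 2,
    1, 2, 0, 4, 2, 2, 2, 0, 2, 1, 3, 4]),
    ([], 34, [1, 2, 0, 2, 1, 2, 0, 2, 2, 1, 2, 0, 3, 1, 3, 0, 2, 1, 2, 2, 0, 2, 2, 2, 1, 3, 0, 3,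
    1, 3, 0, 2, 1, 2, 0, 4, 2, 2, 2, 0, 2, 0, 3]),
    ([0, 0, 0, 1], 27, [3, 3, 1, 2, 0, 3, 3, 1, 2, 0, 3, 3, 1, 2, 2, 0, 2, 1, 2, 0, 2, 1, 3, 0, 3,
    3, 1, 3, 3, 0, 2, 1, 2, 0, 2, 1, 3, 0, 3, 1, 2, 2, 0, 3, 0, 4, 2, 2, 2, 1, 3, 4, 3, 3])])]

/-- Traces for generators 0, 3. -/
def tr03 : List (ℕ × List ℕ × List ℕ × List (List ℕ × ℕ × List ℕ)) := [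
  (0, [],
    [1, 1, 1, 1, 1, 1, 1, 1, 1, 1, 0, 0, 0, 1, 0, 1, 1, 1, 1, 1, 1, 1, 1, 1, 1, 0, 0, 0, 1, 0, 1,
    1, 1, 1, 1, 1, 1, 1, 1, 1, 0, 0, 0, 1, 0, 1, 1, 0, 0, 0, 1, 0, 1, 1, 1, 1, 1, 1, 1, 1, 1, 1,
    0, 0, 0, 1, 1, 1, 1, 1, 0, 1, 1, 0, 0, 0, 1, 1, 1, 1, 1, 0, 2, 1, 0, 0, 0, 1], [
    ([], 0, []),
    ([], 1, [1]),
    ([], 2, [0]),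
    ([], 4, [0, 0]),
    ([], 7, []),
    ([], 18, [0]),
    ([3, 4, 0, 0, 5], 12, [1, 3, 0, 3, 3, 1, 3, 3, 0, 3, 1, 3, 3, 0, 2, 2, 1, 2, 2, 0, 2, 1, 4]),
    ([], 10, [1, 3, 0, 3, 3, 1, 3, 3, 0, 3, 1, 3, 3, 0, 2, 2, 1, 2, 2, 0, 2, 0]),
    ([], 20, [3, 3, 1, 2, 0, 3, 3, 1, 2, 0, 3, 3, 1, 2, 2, 2, 0, 2, 2, 1, 2, 0, 3, 3, 1, 2, 0, 3,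
    3, 1, 2, 0, 3, 1, 3, 0, 4]),
    ([], 21, [1, 3, 0, 3, 3, 1, 3, 3, 0, 3, 1, 3, 3, 0, 2, 2, 1, 2, 2, 0, 2, 0, 4]),
    ([], 4, [3, 3, 1, 2, 0, 3, 3, 1, 2, 0, 3, 3, 1, 2, 2, 2, 0, 2, 2, 1, 2, 0, 3, 3, 1, 2, 0, 3,
    3, 1, 2, 0, 3, 1, 3, 0, 0, 0]),
    ([], 5, [1, 3, 0, 3, 3, 1, 3, 3, 0, 3, 1, 3, 3, 0, 2, 2, 1, 2, 2, 0, 2, 0])]),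
  (1, [0, 0],
    [1, 0, 1, 0, 1, 0, 1, 1, 0, 0, 1, 0, 1, 0, 1, 1, 0, 0, 1, 0, 1, 0, 0, 0, 1, 1, 1, 1, 1, 0, 0,
    0, 0, 1, 0, 0, 1, 1, 1, 0, 1, 1, 0, 1], [
    ([], 5, [0]),
    ([0, 0, 0], 0, []),
    ([], 1, [1]),
    ([], 2, [0]),
    ([], 6, []),
    ([], 12, [1, 4]),
    ([1, 0], 11, [1, 3, 0, 2, 2, 2, 1, 2, 0, 2, 2, 1, 2, 2, 0, 2, 2, 1, 2, 2, 0, 2, 1, 3, 0, 4, 2,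
    2, 1, 3, 4]),
    ([1, 1, 3], 22, [3, 3, 1, 2, 0, 3, 3, 1, 2, 0, 3, 3, 1, 2, 0, 2, 1, 2, 0, 2, 1, 3, 0, 2, 2, 1,
    2, 2, 2, 0, 2, 2, 1, 3, 0, 2, 1, 2, 0, 2, 2, 1, 3, 0, 3, 0, 4, 2, 2, 1, 3, 4]),
    ([], 37, [1, 2, 0, 2, 1, 2, 0, 3, 1, 2, 0, 0]),
    ([5], 34, [3, 1, 2, 0, 2, 2, 1, 2, 2, 2, 0, 3, 3, 1, 3, 0, 2, 1, 3, 3, 0, 2, 0, 0, 4]),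
    ([], 19, [3, 1, 2, 0, 2, 2, 1, 2, 2, 2, 0, 3, 3, 1, 3, 0, 2, 1, 3, 3, 0, 2, 2, 1, 3, 3, 0, 0,
    4, 2, 2, 0, 3]),
    ([], 3, [3, 1, 2, 0, 2, 2, 1, 2, 2, 2, 0, 3, 3, 1, 3, 0, 2, 1, 3, 3, 0, 2, 2, 1, 3, 3, 0, 0,
    4, 2, 2, 1, 3])]),
  (1, [0, 4, 2, 4, 3, 3, 1, 4],
    [1, 0, 1, 0, 0, 1, 1, 1, 1, 0, 0, 0, 1, 1, 1, 0, 0, 0, 0, 1, 1, 0, 0, 0, 1, 1, 1, 1, 1, 1, 0,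
    0, 1, 1, 0, 1, 0, 0, 0, 0, 0, 1], [
    ([1, 1, 0, 1, 0, 1, 1, 1, 1], 9, [3, 3, 1, 2, 0, 3, 3, 1, 2, 0, 3, 3, 1, 2, 2, 0, 2, 2, 1, 2,
    0, 2, 1, 3, 0, 3, 1, 3, 3, 0, 3, 1, 2, 0, 2, 1, 3, 0, 3, 1, 2, 0, 2, 2, 1, 3, 0]),
    ([], 69, [3, 3, 1, 2, 0, 3, 3, 1, 2, 0, 3, 3, 1, 2, 0, 2, 2, 1, 3, 0, 2, 2, 1, 2, 0, 2, 1, 3,
    0, 3, 3, 1, 3, 0, 2, 2, 1, 3, 0, 2, 2, 1, 3, 0, 2, 2, 1, 3, 0, 0, 4, 2, 4, 3, 3, 1, 4]),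
    ([], 70, [3, 3, 1, 2, 0, 3, 3, 1, 2, 0, 3, 3, 3, 1, 3, 0, 2, 1, 2, 0, 2, 2, 2, 1, 3, 0, 2, 2,
    2, 1, 3, 0, 3, 1, 2, 0, 2, 1, 2, 2, 2, 0, 0]),
    ([], 57, [3, 1, 2, 2, 0, 2, 1, 3, 3, 0, 3, 1, 2, 2, 0, 2, 1, 2, 2, 0, 2, 0, 4, 2, 4, 3, 3, 1,
    4]),
    ([2, 3, 3], 59, [3, 3, 1, 2, 0, 3, 3, 1, 2, 0, 3, 3, 1, 2, 2, 0, 3, 1, 3, 3, 0, 3, 1, 2, 0, 2,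
    1, 3, 0, 0, 4, 2, 4, 3, 4]),
    ([], 75, [1, 2, 0, 2, 1, 2, 0, 2, 1, 3, 4, 2, 4, 3, 4]),
    ([0, 1, 2, 3], 93, [3, 3, 1, 2, 0, 3, 3, 1, 2, 0, 3, 3, 1, 2, 0, 3, 1, 2, 0, 2, 1, 3, 0, 3, 1,
    3, 3, 0, 2, 2, 1, 2, 0, 3, 1, 3, 4]),
    ([], 67, [2, 2, 1, 2, 0, 3, 3, 1, 3, 0, 2, 2, 1, 2, 2, 0, 2, 2, 1, 2, 0, 2, 1, 2, 0, 3, 0, 4,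
    2, 4, 3]),
    ([], 60, [2, 2, 2, 1, 3, 0, 3, 1, 3, 3, 0, 3, 1, 3, 0, 2, 1, 2, 0, 2, 1, 2, 0, 2, 1, 3, 0, 3,
    1, 2, 0, 3, 3, 0, 4, 2, 2, 2, 0, 2, 4, 2, 2]),
    ([], 83, [1, 3, 3, 0, 3, 1, 3, 3, 0, 3, 1, 2, 0, 2, 1, 2, 2, 0, 2, 1, 2, 0, 2, 4, 2, 2, 2, 1,
    2, 4, 2, 2, 4]),
    ([0, 0, 2], 26, [3, 3, 1, 2, 0, 3, 3, 1, 2, 0, 3, 3, 1, 2, 2, 2, 0, 2, 2, 1, 2, 0, 3, 3, 1, 2,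
    0, 3, 3, 1, 2, 0, 3, 1, 2, 0, 3, 3, 1, 2, 2, 0, 4, 2, 2, 2, 0, 3, 1, 2]),
    ([], 32, [2, 2, 1, 3, 3, 0, 3, 1, 3, 0, 2, 1, 2, 2, 0, 2, 2, 1, 3, 0, 2, 1, 3, 0, 2, 1, 2, 0,
    2, 2, 1, 3, 0, 4, 2, 2, 2, 1, 2, 4, 2, 2])]),
  (1, [0, 4, 2, 2, 2, 1, 4, 3, 4, 3],
    [1, 0, 0, 1, 1, 0, 0, 1, 0, 0, 0, 1, 1, 0], [
    ([1, 1, 0, 1, 1, 1, 1], 9, [3, 3, 1, 2, 0, 3, 3, 1, 2, 0, 3, 3, 1, 2, 2, 0, 2, 2, 1, 3, 0, 3,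
    1, 2, 0, 3, 3, 1, 2, 0, 3]),
    ([], 69, [2, 2, 1, 3, 0, 3, 1, 2, 2, 0, 2, 1, 3, 0, 3, 3, 1, 3, 3, 0, 2, 1, 2, 0, 2, 2, 1, 3,
    3, 0, 3, 0, 4, 2, 2, 2, 1, 4, 3, 4, 3]),
    ([], 70, [2, 1, 2, 0, 2, 1, 3, 0, 2, 1, 2, 2, 0, 2, 1, 3, 3, 0, 3, 3, 3, 1, 2, 0, 2, 2, 0]),
    ([], 57, [1, 3, 3, 0, 3, 1, 3, 0, 2, 1, 2, 0, 2, 1, 3, 0, 3, 1, 3, 0, 2, 1, 2, 0, 2, 2, 0, 4,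
    2, 2, 2, 1, 4, 3, 4, 3]),
    ([0, 1, 3], 65, [3, 3, 1, 2, 0, 3, 3, 1, 2, 0, 3, 3, 3, 1, 2, 0, 3, 3, 1, 3, 0, 3, 1, 2, 0, 3,
    3, 1, 2, 0, 2, 1, 2, 0, 2, 2, 2, 1, 3, 3, 0, 0, 4, 2, 0, 4, 2, 4, 2, 1, 4]),
    ([1, 3], 55, [1, 3, 0, 3, 1, 2, 2, 0, 2, 2, 1, 2, 2, 0, 2, 1, 2, 0, 2, 1, 2, 0, 2, 1, 3, 0, 2,
    0, 4, 2, 4, 3, 4, 3, 3, 4, 3]),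
    ([1, 0, 3], 46, [2, 1, 2, 0, 2, 1, 3, 0, 2, 1, 2, 2, 0, 2, 1, 3, 3, 0, 3, 1, 3, 3, 0, 2, 2, 1,
    2, 0, 3, 3, 0, 4, 2, 2, 2, 0, 2, 4, 2]),
    ([3, 2], 66, [3, 3, 1, 2, 0, 3, 3, 1, 2, 0, 3, 3, 1, 2, 0, 2, 2, 1, 3, 0, 2, 2, 1, 2, 0, 2, 1,
    3, 0, 2, 1, 2, 0, 3, 1, 3, 0, 2, 2, 2, 1, 2, 2, 0, 2, 2, 0, 4, 2, 1, 4, 2, 2, 4, 2]),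
    ([3, 2], 85, [3, 3, 1, 2, 0, 3, 3, 1, 2, 0, 3, 3, 1, 2, 2, 0, 2, 1, 3, 3, 0, 3, 1, 2, 0, 2, 1,
    3, 0, 3, 3, 1, 3, 0, 2, 2, 1, 3, 0, 2, 1, 2, 0, 2, 2, 0, 4, 2, 2, 2, 1, 3, 4]),
    ([3, 0, 1], 63, [3, 3, 1, 2, 0, 3, 3, 1, 2, 0, 3, 3, 1, 3, 0, 3, 1, 2, 2, 0, 2, 1, 2, 0, 3, 1,
    2, 0, 2, 2, 1, 3, 0, 2, 4, 2, 2, 2, 0, 3, 1, 4]),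
    ([], 34, [3, 3, 1, 2, 0, 3, 3, 1, 2, 0, 3, 3, 3, 1, 3, 3, 0, 3, 1, 3, 0, 2, 1, 2, 2, 0, 2, 1,
    2, 2, 2, 0, 3, 1, 3, 3, 0, 2, 1, 2, 0, 2, 4, 2, 2, 2, 0, 3, 0]),
    ([0, 0, 0, 1], 27, [1, 3, 0, 3, 1, 2, 0, 3, 3, 1, 3, 0, 3, 1, 2, 0, 2, 2, 2, 1, 3, 0, 3, 1, 2,
    0, 3, 1, 3, 0, 3, 3, 1, 3, 0, 3, 0, 4, 2, 2, 2, 1, 2, 4, 2])]),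
  (1, [4, 2, 2, 4, 3, 4, 3, 3, 0, 2],
    [1, 0, 0, 1, 1, 1, 1, 0, 0, 0, 1, 1, 0, 0, 1, 0, 0, 1, 1, 1, 1, 0, 1, 1, 0, 0, 1, 1, 0, 1, 0,
    0, 0, 0, 1, 0, 0, 1], [
    ([0, 1, 0, 0, 0, 0], 9, [3, 3, 1, 2, 0, 3, 3, 1, 2, 0, 3, 3, 1, 2, 0, 3, 1, 2, 2, 2, 0, 2, 1,
    3, 3, 0, 3, 3, 1, 2, 0, 3, 1, 2, 0, 3, 3, 1, 2, 0]),
    ([], 69, [2, 1, 3, 0, 2, 1, 2, 0, 2, 1, 3, 0, 3, 1, 2, 0, 3, 1, 3, 0, 2, 2, 2, 2, 2, 1, 2, 2,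
    2, 0, 2, 4, 2, 2, 4, 3, 4, 3, 3, 0, 2]),
    ([], 70, [1, 2, 0, 2, 1, 3, 0, 3, 3, 1, 2, 0, 3, 1, 3, 0, 3, 3, 3, 1, 2, 2, 0, 2, 2, 1, 3, 0,
    0]),
    ([], 57, [1, 2, 2, 0, 3, 3, 1, 2, 0, 3, 1, 3, 0, 2, 1, 2, 2, 0, 2, 1, 3, 0, 2, 2, 1, 3, 0, 2,
    1, 2, 0, 4, 2, 2, 4, 3, 4, 3, 3, 0, 2]),
    ([0, 2], 59, [1, 3, 0, 2, 1, 2, 0, 2, 1, 2, 2, 0, 3, 1, 3, 0, 2, 1, 2, 2, 2, 2, 2, 0, 2, 1, 2,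
    0, 3, 0, 4, 3, 4, 2, 4]),
    ([], 75, [3, 3, 1, 2, 0, 3, 3, 1, 2, 0, 3, 3, 1, 3, 0, 2, 1, 2, 0, 2, 2, 1, 3, 0, 3, 3, 1, 3,
    0, 2, 1, 2, 2, 0, 3, 3, 1, 3, 3, 0, 3, 1, 4, 3, 4, 2, 4]),
    ([3], 93, [3, 1, 2, 2, 2, 0, 3, 1, 3, 0, 2, 1, 2, 0, 2, 1, 2, 2, 2, 0, 2, 2, 1, 2, 0, 2, 1, 3,
    3, 4]),
    ([], 67, [3, 3, 1, 2, 0, 3, 3, 1, 2, 0, 3, 3, 1, 2, 0, 2, 1, 2, 0, 2, 1, 3, 0, 2, 2, 1, 2, 2,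
    2, 0, 3, 1, 2, 0, 2, 1, 2, 0, 3, 1, 3, 0, 0, 4, 3, 4, 2]),
    ([], 60, [3, 3, 1, 2, 0, 3, 3, 1, 2, 0, 3, 3, 1, 2, 2, 0, 2, 1, 2, 0, 2, 1, 3, 0, 3, 3, 1, 3,
    3, 0, 2, 1, 2, 0, 2, 2, 1, 3, 0, 0, 4, 3, 4, 2, 2, 0]),
    ([], 83, [2, 2, 1, 2, 0, 2, 2, 1, 3, 0, 2, 1, 2, 2, 0, 2, 2, 1, 2, 2, 0, 2, 1, 2, 2, 0, 2, 4,
    3, 4, 2, 2, 1, 4]),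
    ([0, 0, 2], 26, [1, 2, 0, 2, 2, 1, 3, 0, 3, 1, 2, 0, 3, 3, 1, 2, 0, 2, 1, 3, 0, 2, 1, 2, 2, 0,
    0, 4, 2, 0]),
    ([], 32, [3, 3, 1, 2, 0, 3, 3, 1, 2, 0, 3, 3, 1, 2, 0, 2, 1, 2, 2, 0, 2, 2, 1, 3, 0, 3, 3, 1,
    2, 0, 3, 1, 2, 0, 2, 1, 3, 0, 4, 3, 4, 2, 2, 1])])]

/-- Traces for generators 0, 4. -/
def tr04 : List (ℕ × List ℕ × List ℕ × List (List ℕ × ℕ × List ℕ)) := [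
  (0, [],
    [0, 0, 2], [
    ([], 0, []),
    ([], 1, [1]),
    ([], 2, [0]),
    ([], 4, [0, 0]),
    ([], 7, []),
    ([], 18, [0]),
    ([3, 5], 12, [1, 2, 0, 2, 1, 2, 0, 2, 2, 1, 2, 0, 2, 1, 2, 4]),
    ([], 10, [1, 2, 0, 2, 1, 2, 0, 2, 2, 1, 2, 0, 2, 1, 2, 0, 0]),
    ([], 20, [1, 2, 0, 2, 1, 2, 0, 2, 2, 1, 2, 0, 2, 1, 2, 0, 4]),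
    ([], 21, [1, 2, 0, 2, 1, 2, 0, 2, 2, 1, 2, 0, 2, 1, 2, 0, 0, 4]),
    ([], 4, [1, 2, 0, 2, 1, 2, 0, 2, 2, 1, 2, 0, 2, 1, 2, 0, 0, 0]),
    ([], 5, [1, 2, 0, 2, 1, 2, 0, 2, 2, 1, 2, 0, 2, 1, 2, 0, 0])]),
  (1, [0, 0],
    [], [
    ([], 5, [0]),
    ([0, 0, 0], 0, []),
    ([], 1, [1]),
    ([], 2, [0]),
    ([], 6, []),
    ([], 12, [1, 4]),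
    ([], 5, [1, 2, 0, 2, 1, 2, 0, 2, 2, 1, 2, 0, 2, 1, 2, 0, 0]),
    ([0, 0, 0], 0, [1, 2, 0, 2, 1, 2, 0, 2, 2, 1, 2, 0, 2, 1, 2, 0]),
    ([], 1, [1, 2, 0, 2, 1, 2, 0, 2, 2, 1, 2, 0, 2, 1, 2]),
    ([], 2, [1, 2, 0, 2, 1, 2, 0, 2, 2, 1, 2, 0, 2, 1, 2, 0, 0]),
    ([], 6, [1, 2, 0, 2, 1, 2, 0, 2, 2, 1, 2, 0, 2, 1, 2, 0]),
    ([], 12, [1, 2, 0, 2, 1, 2, 0, 2, 2, 1, 2, 0, 2, 1, 2, 4])]),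
  (1, [0, 4, 2, 4, 3, 3, 1, 4],
    [1, 0, 1, 0, 0, 0, 0, 0, 1, 0, 0, 1, 1, 1, 0, 1, 1, 0, 0, 0, 1, 0, 0, 1, 0, 0], [
    ([1, 1, 0, 1, 0, 1, 1, 1, 1], 9, [3, 3, 1, 2, 0, 3, 3, 1, 2, 0, 3, 3, 1, 2, 2, 0, 2, 2, 1, 2,
    0, 2, 1, 3, 0, 3, 1, 3, 3, 0, 3, 1, 2, 0, 2, 1, 3, 0, 3, 1, 2, 0, 2, 2, 1, 3, 0]),
    ([], 69, [3, 3, 1, 2, 0, 3, 3, 1, 2, 0, 3, 3, 1, 2, 0, 2, 2, 1, 3, 0, 2, 2, 1, 2, 0, 2, 1, 3,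
    0, 3, 3, 1, 3, 0, 2, 2, 1, 3, 0, 2, 2, 1, 3, 0, 2, 2, 1, 3, 0, 0, 4, 2, 4, 3, 3, 1, 4]),
    ([], 70, [3, 3, 1, 2, 0, 3, 3, 1, 2, 0, 3, 3, 3, 1, 3, 0, 2, 1, 2, 0, 2, 2, 2, 1, 3, 0, 2, 2,
    2, 1, 3, 0, 3, 1, 2, 0, 2, 1, 2, 2, 2, 0, 0]),
    ([], 57, [3, 1, 2, 2, 0, 2, 1, 3, 3, 0, 3, 1, 2, 2, 0, 2, 1, 2, 2, 0, 2, 0, 4, 2, 4, 3, 3, 1,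
    4]),
    ([2, 3, 3], 59, [3, 3, 1, 2, 0, 3, 3, 1, 2, 0, 3, 3, 1, 2, 2, 0, 3, 1, 3, 3, 0, 3, 1, 2, 0, 2,
    1, 3, 0, 0, 4, 2, 4, 3, 4]),
    ([], 75, [1, 2, 0, 2, 1, 2, 0, 2, 1, 3, 4, 2, 4, 3, 4]),
    ([1, 0, 3], 93, [3, 3, 1, 2, 0, 3, 3, 1, 2, 2, 0, 3, 3, 1, 3, 3, 0, 3, 1, 2, 0, 3, 3, 1, 3, 0,
    2, 1, 4]),
    ([], 67, [3, 3, 1, 2, 0, 3, 3, 1, 2, 0, 3, 3, 1, 2, 0, 2, 1, 2, 0, 2, 1, 3, 0, 2, 2, 1, 2, 2,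
    2, 0, 2, 1, 2, 0, 3, 1, 3, 0, 3, 1, 2, 0, 0, 4, 2, 4, 3]),
    ([], 60, [3, 3, 1, 2, 0, 3, 3, 1, 2, 0, 3, 3, 1, 2, 2, 0, 2, 1, 2, 0, 2, 1, 3, 0, 3, 3, 1, 3,
    3, 0, 2, 1, 2, 2, 2, 0, 2, 1, 2, 2, 0, 3, 4, 2, 2, 0, 4, 2, 1, 2]),
    ([], 83, [3, 3, 1, 2, 0, 3, 3, 1, 2, 0, 3, 3, 1, 2, 0, 2, 1, 2, 0, 2, 2, 1, 2, 0, 2, 1, 3, 0,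
    3, 3, 1, 2, 2, 0, 3, 0, 4, 2, 2, 0, 4, 2, 1, 2, 4]),
    ([0, 0, 2], 26, [3, 3, 1, 2, 0, 3, 3, 1, 2, 0, 3, 3, 1, 2, 0, 2, 2, 1, 2, 0, 3, 3, 1, 2, 2, 0,
    2, 2, 1, 3, 0, 2, 2, 1, 3, 0, 2, 1, 2, 0, 2, 2, 1, 3, 0, 4, 2, 2, 0, 2, 1, 2]),
    ([], 32, [3, 3, 1, 2, 0, 3, 3, 1, 2, 0, 3, 3, 1, 2, 0, 2, 1, 3, 0, 2, 2, 1, 3, 0, 2, 2, 1, 3,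
    0, 3, 3, 1, 3, 3, 0, 2, 2, 1, 3, 0, 2, 0, 4, 2, 2, 0, 4, 2, 1, 2])]),
  (1, [0, 4, 2, 2, 2, 1, 4, 3, 4, 3],
    [1, 0, 1, 0, 0, 0, 0, 0, 1, 1, 1, 0, 1, 0, 1, 0, 0, 0, 0, 1, 0, 0, 0, 1, 0, 1, 1, 0, 1, 1, 1,
    0], [
    ([1, 1, 0, 1, 1, 1, 1], 9, [3, 3, 1, 2, 0, 3, 3, 1, 2, 0, 3, 3, 1, 2, 2, 0, 2, 2, 1, 3, 0, 3,
    1, 2, 0, 3, 3, 1, 2, 0, 3]),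
    ([], 69, [2, 2, 1, 3, 0, 3, 1, 2, 2, 0, 2, 1, 3, 0, 3, 3, 1, 3, 3, 0, 2, 1, 2, 0, 2, 2, 1, 3,
    3, 0, 3, 0, 4, 2, 2, 2, 1, 4, 3, 4, 3]),
    ([], 70, [2, 1, 2, 0, 2, 1, 3, 0, 2, 1, 2, 2, 0, 2, 1, 3, 3, 0, 3, 3, 3, 1, 2, 0, 2, 2, 0]),
    ([], 57, [1, 3, 3, 0, 3, 1, 3, 0, 2, 1, 2, 0, 2, 1, 3, 0, 3, 1, 3, 0, 2, 1, 2, 0, 2, 2, 0, 4,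
    2, 2, 2, 1, 4, 3, 4, 3]),
    ([0, 1, 3], 65, [3, 3, 1, 2, 0, 3, 3, 1, 2, 0, 3, 3, 3, 1, 2, 0, 3, 3, 1, 3, 0, 3, 1, 2, 0, 3,
    3, 1, 2, 0, 2, 1, 2, 0, 2, 2, 2, 1, 3, 3, 0, 0, 4, 2, 0, 4, 2, 4, 2, 1, 4]),
    ([1, 3], 55, [1, 3, 0, 3, 1, 2, 2, 0, 2, 2, 1, 2, 2, 0, 2, 1, 2, 0, 2, 1, 2, 0, 2, 1, 3, 0, 2,
    0, 4, 2, 4, 3, 4, 3, 3, 4, 3]),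
    ([5, 5, 0], 46, [2, 2, 1, 3, 0, 2, 2, 1, 2, 0, 2, 1, 3, 0, 2, 1, 2, 0, 3, 1, 3, 0, 3, 1, 2, 0,
    2, 1, 3, 0, 2, 2, 2, 0, 4, 2, 0, 4, 2, 4, 2, 4, 2]),
    ([3, 2], 66, [1, 2, 0, 3, 3, 1, 2, 0, 2, 2, 1, 2, 0, 2, 1, 3, 0, 2, 2, 1, 2, 0, 3, 1, 3, 3, 0,
    3, 0, 4, 2, 2, 2, 1, 4, 2, 4, 2]),
    ([3, 2], 85, [3, 3, 1, 2, 0, 3, 3, 1, 2, 0, 3, 3, 1, 2, 2, 0, 3, 3, 1, 2, 0, 2, 2, 2, 1, 2, 2,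
    0, 2, 1, 2, 0, 3, 3, 1, 2, 2, 0, 3, 4, 2, 2, 2, 0, 2, 1, 4, 2]),
    ([3, 0, 1], 63, [2, 2, 1, 3, 0, 2, 2, 1, 2, 0, 2, 1, 3, 0, 2, 1, 2, 0, 3, 1, 3, 0, 2, 1, 2, 0,
    2, 2, 1, 2, 2, 0, 3, 0, 4, 3, 1, 4, 3, 4, 3, 4]),
    ([], 34, [3, 3, 1, 2, 0, 3, 3, 1, 2, 2, 0, 2, 1, 3, 0, 3, 1, 2, 0, 3, 3, 1, 3, 0, 2, 2, 2, 1,
    2, 0, 2, 1, 3, 0, 3, 0, 4, 2, 4, 3, 4, 3, 3]),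
    ([0, 0, 0, 1], 27, [1, 3, 0, 3, 1, 2, 0, 2, 1, 3, 0, 2, 2, 2, 1, 2, 2, 0, 2, 1, 3, 0, 2, 1, 2,
    2, 0, 2, 0, 4, 2, 1, 4, 2, 4, 2, 4, 2])]),
  (1, [4, 2, 2, 4, 3, 4, 3, 3, 0, 2],
    [1, 0, 1, 0, 1, 0, 0, 1, 1, 1, 1, 0, 0, 0, 1, 1, 0, 0, 1, 0, 0, 0, 1, 1, 0, 1, 1, 0, 0, 0, 1,
    0, 1, 0, 0, 1, 1, 1], [
    ([0, 1, 0, 0, 0, 0], 9, [3, 3, 1, 2, 0, 3, 3, 1, 2, 0, 3, 3, 1, 2, 0, 3, 1, 2, 2, 2, 0, 2, 1,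
    3, 3, 0, 3, 3, 1, 2, 0, 3, 1, 2, 0, 3, 3, 1, 2, 0]),
    ([], 69, [2, 1, 3, 0, 2, 1, 2, 0, 2, 1, 3, 0, 3, 1, 2, 0, 3, 1, 3, 0, 2, 2, 2, 2, 2, 1, 2, 2,
    2, 0, 2, 4, 2, 2, 4, 3, 4, 3, 3, 0, 2]),
    ([], 70, [1, 2, 0, 2, 1, 3, 0, 3, 3, 1, 2, 0, 3, 1, 3, 0, 3, 3, 3, 1, 2, 2, 0, 2, 2, 1, 3, 0,
    0]),
    ([], 57, [1, 2, 2, 0, 3, 3, 1, 2, 0, 3, 1, 3, 0, 2, 1, 2, 2, 0, 2, 1, 3, 0, 2, 2, 1, 3, 0, 2,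
    1, 2, 0, 4, 2, 2, 4, 3, 4, 3, 3, 0, 2]),
    ([0, 2], 59, [1, 3, 0, 2, 1, 2, 0, 2, 1, 2, 2, 0, 3, 1, 3, 0, 2, 1, 2, 2, 2, 2, 2, 0, 2, 1, 2,
    0, 3, 0, 4, 3, 4, 2, 4]),
    ([], 75, [3, 3, 1, 2, 0, 3, 3, 1, 2, 0, 3, 3, 1, 3, 0, 2, 1, 2, 0, 2, 2, 1, 3, 0, 3, 3, 1, 3,
    0, 2, 1, 2, 2, 0, 3, 3, 1, 3, 3, 0, 3, 1, 4, 3, 4, 2, 4]),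
    ([1, 0, 3], 93, [2, 1, 2, 0, 2, 1, 3, 0, 2, 2, 1, 2, 2, 0, 3, 1, 3, 3, 0, 2, 2, 1, 2, 2, 4]),
    ([], 67, [3, 3, 1, 2, 0, 3, 3, 1, 2, 0, 3, 3, 1, 2, 0, 3, 1, 3, 3, 0, 3, 1, 2, 0, 2, 1, 3, 0,
    2, 1, 2, 2, 0, 2, 1, 3, 0, 3, 0, 4, 3, 4, 2]),
    ([], 60, [3, 3, 1, 2, 0, 3, 3, 1, 2, 0, 3, 1, 2, 0, 2, 1, 2, 2, 0, 3, 1, 3, 0, 2, 1, 2, 2, 0,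
    3, 3, 1, 2, 0, 2, 1, 3, 0, 4, 2, 0, 4, 2, 2, 0, 3, 3]),
    ([], 83, [3, 3, 1, 2, 0, 3, 3, 1, 2, 0, 3, 3, 1, 2, 0, 2, 2, 2, 1, 3, 0, 3, 1, 3, 3, 0, 3, 1,
    3, 0, 2, 1, 2, 0, 2, 2, 2, 1, 2, 2, 0, 3, 1, 4, 3, 4, 3, 3, 4, 2, 2, 2]),
    ([0, 0, 2], 26, [3, 1, 2, 0, 2, 2, 1, 2, 2, 2, 0, 3, 3, 1, 3, 0, 2, 1, 3, 0, 3, 1, 2, 0, 2, 4,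
    2, 2, 2, 0, 3, 1, 2, 2]),
    ([], 32, [1, 2, 0, 2, 1, 3, 0, 2, 2, 1, 3, 3, 0, 3, 1, 2, 0, 2, 1, 3, 3, 0, 2, 1, 2, 0, 2, 0,
    4, 2, 0, 4, 2, 2, 0, 3, 3])])]

/-- Traces for generators 0, 5. -/
def tr05 : List (ℕ × List ℕ × List ℕ × List (List ℕ × ℕ × List ℕ)) := [
  (0, [],
    [0, 0, 2], [
    ([], 0, []),
    ([], 1, [1]),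
    ([], 2, [0]),
    ([], 4, [0, 0]),
    ([], 7, []),
    ([], 18, [0]),
    ([3, 5], 12, [3, 3, 1, 2, 0, 3, 3, 1, 2, 0, 3, 3, 1, 2, 2, 0, 3, 3, 1, 2, 0, 3, 1, 3, 3, 0, 3,
    1, 2, 0, 2, 1, 3, 0, 2, 1, 3, 0, 3, 3, 1, 2, 0, 3, 1, 3, 0, 2, 1, 4]),
    ([], 10, [3, 3, 1, 2, 0, 3, 3, 1, 2, 0, 3, 3, 1, 2, 2, 0, 3, 3, 1, 2, 0, 3, 1, 3, 3, 0, 3, 1,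
    2, 0, 2, 1, 3, 0, 2, 1, 3, 0, 3, 3, 1, 2, 0, 3, 1, 3, 0, 2, 0]),
    ([], 20, [3, 3, 1, 2, 0, 3, 3, 1, 2, 0, 3, 3, 1, 2, 2, 0, 3, 3, 1, 2, 0, 3, 1, 3, 3, 0, 3, 1,
    2, 0, 2, 1, 3, 0, 2, 1, 3, 0, 3, 3, 1, 2, 0, 3, 1, 3, 0, 2, 4]),
    ([], 21, [3, 3, 1, 2, 0, 3, 3, 1, 2, 0, 3, 3, 1, 2, 2, 0, 3, 3, 1, 2, 0, 3, 1, 3, 3, 0, 3, 1,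
    2, 0, 2, 1, 3, 0, 2, 1, 3, 0, 3, 3, 1, 2, 0, 3, 1, 3, 0, 2, 0, 4]),
    ([], 4, [3, 3, 1, 2, 0, 3, 3, 1, 2, 0, 3, 3, 1, 2, 2, 0, 3, 3, 1, 2, 0, 3, 1, 3, 3, 0, 3, 1,
    2, 0, 2, 1, 3, 0, 2, 1, 3, 0, 3, 3, 1, 2, 0, 3, 1, 3, 0, 2, 0, 0]),
    ([], 5, [3, 3, 1, 2, 0, 3, 3, 1, 2, 0, 3, 3, 1, 2, 2, 0, 3, 3, 1, 2, 0, 3, 1, 3, 3, 0, 3, 1,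
    2, 0, 2, 1, 3, 0, 2, 1, 3, 0, 3, 3, 1, 2, 0, 3, 1, 3, 0, 2, 0])]),
  (1, [0, 0],
    [], [
    ([], 5, [0]),
    ([0, 0, 0], 0, []),
    ([], 1, [1]),
    ([], 2, [0]),
    ([], 6, []),
    ([], 12, [1, 4]),
    ([], 5, [3, 3, 1, 2, 0, 3, 3, 1, 2, 0, 3, 3, 1, 2, 2, 0, 3, 3, 1, 2, 0, 3, 1, 3, 3, 0, 3, 1,
    2, 0, 2, 1, 3, 0, 2, 1, 3, 0, 3, 3, 1, 2, 0, 3, 1, 3, 0, 2, 0]),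
    ([0, 0, 0], 0, [3, 3, 1, 2, 0, 3, 3, 1, 2, 0, 3, 3, 1, 2, 2, 0, 3, 3, 1, 2, 0, 3, 1, 3, 3, 0,
    3, 1, 2, 0, 2, 1, 3, 0, 2, 1, 3, 0, 3, 3, 1, 2, 0, 3, 1, 3, 0, 2]),
    ([], 1, [3, 3, 1, 2, 0, 3, 3, 1, 2, 0, 3, 3, 1, 2, 2, 0, 3, 3, 1, 2, 0, 3, 1, 3, 3, 0, 3, 1,
    2, 0, 2, 1, 3, 0, 2, 1, 3, 0, 3, 3, 1, 2, 0, 3, 1, 3, 0, 2, 1]),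
    ([], 2, [3, 3, 1, 2, 0, 3, 3, 1, 2, 0, 3, 3, 1, 2, 2, 0, 3, 3, 1, 2, 0, 3, 1, 3, 3, 0, 3, 1,
    2, 0, 2, 1, 3, 0, 2, 1, 3, 0, 3, 3, 1, 2, 0, 3, 1, 3, 0, 2, 0]),
    ([], 6, [3, 3, 1, 2, 0, 3, 3, 1, 2, 0, 3, 3, 1, 2, 2, 0, 3, 3, 1, 2, 0, 3, 1, 3, 3, 0, 3, 1,
    2, 0, 2, 1, 3, 0, 2, 1, 3, 0, 3, 3, 1, 2, 0, 3, 1, 3, 0, 2]),
    ([], 12, [3, 3, 1, 2, 0, 3, 3, 1, 2, 0, 3, 3, 1, 2, 2, 0, 3, 3, 1, 2, 0, 3, 1, 3, 3, 0, 3, 1,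
    2, 0, 2, 1, 3, 0, 2, 1, 3, 0, 3, 3, 1, 2, 0, 3, 1, 3, 0, 2, 1, 4])]),
  (1, [0, 4, 2, 4, 3, 3, 1, 4],
    [1, 0, 1, 0, 0, 0, 0, 0, 1, 0, 0, 1, 1, 1, 0, 1, 1, 0, 0, 0, 1, 0, 0, 1, 0, 0], [
    ([1, 1, 0, 1, 0, 1, 1, 1, 1], 9, [3, 3, 1, 2, 0, 3, 3, 1, 2, 0, 3, 3, 1, 2, 2, 0, 2, 2, 1, 2,
    0, 2, 1, 3, 0, 3, 1, 3, 3, 0, 3, 1, 2, 0, 2, 1, 3, 0, 3, 1, 2, 0, 2, 2, 1, 3, 0]),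
    ([], 69, [3, 3, 1, 2, 0, 3, 3, 1, 2, 0, 3, 3, 1, 2, 0, 2, 2, 1, 3, 0, 2, 2, 1, 2, 0, 2, 1, 3,
    0, 3, 3, 1, 3, 0, 2, 2, 1, 3, 0, 2, 2, 1, 3, 0, 2, 2, 1, 3, 0, 0, 4, 2, 4, 3, 3, 1, 4]),
    ([], 70, [3, 3, 1, 2, 0, 3, 3, 1, 2, 0, 3, 3, 3, 1, 3, 0, 2, 1, 2, 0, 2, 2, 2, 1, 3, 0, 2, 2,
    2, 1, 3, 0, 3, 1, 2, 0, 2, 1, 2, 2, 2, 0, 0]),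
    ([], 57, [3, 1, 2, 2, 0, 2, 1, 3, 3, 0, 3, 1, 2, 2, 0, 2, 1, 2, 2, 0, 2, 0, 4, 2, 4, 3, 3, 1,
    4]),
    ([2, 3, 3], 59, [3, 3, 1, 2, 0, 3, 3, 1, 2, 0, 3, 3, 1, 2, 2, 0, 3, 1, 3, 3, 0, 3, 1, 2, 0, 2,
    1, 3, 0, 0, 4, 2, 4, 3, 4]),
    ([], 75, [1, 2, 0, 2, 1, 2, 0, 2, 1, 3, 4, 2, 4, 3, 4]),
    ([1, 0, 3], 93, [3, 3, 1, 2, 0, 3, 3, 1, 2, 0, 3, 3, 1, 2, 0, 3, 1, 2, 0, 2, 2, 1, 2, 0, 2, 1,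
    2, 2, 0, 3, 1, 3, 0, 2, 1, 2, 0, 3, 1, 2, 0, 3, 1, 3, 4]),
    ([], 67, [3, 3, 1, 2, 0, 3, 3, 1, 2, 0, 3, 3, 1, 2, 0, 3, 1, 2, 2, 0, 2, 1, 3, 0, 2, 2, 1, 2,
    2, 0, 3, 3, 1, 3, 0, 2, 1, 3, 0, 3, 1, 2, 0, 2, 2, 1, 3, 0, 3, 0, 4, 2, 2, 4, 3, 3]),
    ([], 60, [1, 3, 3, 0, 3, 1, 3, 3, 0, 2, 2, 1, 2, 0, 2, 2, 2, 1, 2, 2, 2, 0, 2, 1, 3, 0, 0, 0,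
    4, 3, 4, 3]),
    ([], 83, [1, 2, 0, 2, 2, 1, 2, 2, 0, 2, 2, 1, 3, 0, 3, 1, 2, 0, 2, 1, 2, 0, 3, 1, 3, 0, 3, 3,
    1, 4, 3, 4, 3, 4]),
    ([0, 0, 2], 26, [3, 3, 1, 2, 0, 3, 3, 1, 2, 0, 3, 3, 1, 2, 0, 2, 2, 2, 1, 3, 0, 3, 1, 3, 3, 0,
    3, 1, 3, 0, 2, 1, 2, 0, 3, 1, 2, 0, 3, 1, 3, 0, 4, 3, 3]),
    ([], 32, [3, 3, 1, 2, 0, 3, 3, 1, 2, 0, 3, 3, 1, 2, 0, 2, 2, 2, 1, 3, 0, 2, 2, 1, 2, 0, 2, 2,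
    2, 1, 2, 0, 2, 1, 4, 3, 4, 3])]),
  (1, [0, 4, 2, 2, 2, 1, 4, 3, 4, 3],
    [1, 0, 1, 0, 0, 0, 0, 0, 1, 1, 1, 0, 1, 0, 1, 0, 0, 0, 0, 1, 0, 0, 0, 1, 0, 1, 1, 0, 1, 1, 1,
    0], [
    ([1, 1, 0, 1, 1, 1, 1], 9, [3, 3, 1, 2, 0, 3, 3, 1, 2, 0, 3, 3, 1, 2, 2, 0, 2, 2, 1, 3, 0, 3,
    1, 2, 0, 3, 3, 1, 2, 0, 3]),
    ([], 69, [2, 2, 1, 3, 0, 3, 1, 2, 2, 0, 2, 1, 3, 0, 3, 3, 1, 3, 3, 0, 2, 1, 2, 0, 2, 2, 1, 3,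
    3, 0, 3, 0, 4, 2, 2, 2, 1, 4, 3, 4, 3]),
    ([], 70, [2, 1, 2, 0, 2, 1, 3, 0, 2, 1, 2, 2, 0, 2, 1, 3, 3, 0, 3, 3, 3, 1, 2, 0, 2, 2, 0]),
    ([], 57, [1, 3, 3, 0, 3, 1, 3, 0, 2, 1, 2, 0, 2, 1, 3, 0, 3, 1, 3, 0, 2, 1, 2, 0, 2, 2, 0, 4,
    2, 2, 2, 1, 4, 3, 4, 3]),
    ([0, 1, 3], 65, [3, 3, 1, 2, 0, 3, 3, 1, 2, 0, 3, 3, 3, 1, 2, 0, 3, 3, 1, 3, 0, 3, 1, 2, 0, 3,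
    3, 1, 2, 0, 2, 1, 2, 0, 2, 2, 2, 1, 3, 3, 0, 0, 4, 2, 0, 4, 2, 4, 2, 1, 4]),
    ([1, 3], 55, [1, 3, 0, 3, 1, 2, 2, 0, 2, 2, 1, 2, 2, 0, 2, 1, 2, 0, 2, 1, 2, 0, 2, 1, 3, 0, 2,
    0, 4, 2, 4, 3, 4, 3, 3, 4, 3]),
    ([5, 5, 0], 46, [3, 3, 1, 2, 0, 3, 3, 1, 2, 0, 3, 3, 1, 2, 0, 2, 1, 2, 2, 0, 2, 2, 1, 3, 0, 3,
    3, 1, 2, 2, 0, 3, 3, 1, 3, 0, 3, 1, 2, 0, 2, 4, 2, 2, 0, 2, 0, 3, 4, 3, 3]),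
    ([3, 2], 66, [3, 3, 1, 2, 0, 3, 3, 1, 2, 0, 3, 3, 1, 2, 0, 3, 3, 1, 2, 0, 2, 1, 3, 0, 2, 1, 2,
    0, 3, 1, 3, 0, 3, 3, 1, 2, 0, 2, 1, 3, 4, 2, 4, 2, 2, 4, 2, 2]),
    ([3, 2], 85, [3, 3, 1, 2, 0, 3, 3, 1, 2, 0, 3, 3, 1, 2, 0, 3, 1, 2, 0, 3, 3, 1, 2, 0, 2, 1, 2,
    2, 0, 3, 3, 1, 3, 0, 3, 1, 2, 2, 0, 2, 2, 1, 2, 0, 0, 4, 3, 3, 1, 3, 4]),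
    ([3, 0, 1], 63, [3, 3, 1, 2, 0, 3, 3, 1, 2, 0, 3, 3, 1, 3, 0, 3, 3, 1, 3, 0, 2, 2, 2, 1, 2, 0,
    2, 1, 2, 0, 2, 1, 3, 0, 4, 3, 3, 0, 3, 1, 4]),
    ([], 34, [3, 3, 1, 2, 0, 3, 3, 1, 2, 0, 3, 3, 1, 2, 0, 2, 2, 1, 3, 0, 2, 2, 1, 2, 0, 2, 1, 3,
    0, 3, 3, 1, 3, 0, 2, 1, 3, 3, 0, 4, 3, 3, 0, 3, 0]),
    ([0, 0, 0, 1], 27, [1, 3, 3, 0, 3, 3, 1, 3, 0, 2, 2, 2, 1, 2, 0, 2, 1, 2, 2, 2, 0, 3, 3, 4, 2,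
    4, 2, 2, 4, 2, 2, 4])]),
  (1, [4, 2, 2, 4, 3, 4, 3, 3, 0, 2],
    [1, 0, 1, 0, 1, 0, 0, 1, 1, 1, 1, 0, 0, 0, 1, 1, 0, 0, 1, 0, 0, 0, 1, 1, 0, 1, 1, 0, 0, 0, 1,
    0, 1, 0, 0, 1, 1, 1], [
    ([0, 1, 0, 0, 0, 0], 9, [3, 3, 1, 2, 0, 3, 3, 1, 2, 0, 3, 3, 1, 2, 0, 3, 1, 2, 2, 2, 0, 2, 1,
    3, 3, 0, 3, 3, 1, 2, 0, 3, 1, 2, 0, 3, 3, 1, 2, 0]),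
    ([], 69, [2, 1, 3, 0, 2, 1, 2, 0, 2, 1, 3, 0, 3, 1, 2, 0, 3, 1, 3, 0, 2, 2, 2, 2, 2, 1, 2, 2,
    2, 0, 2, 4, 2, 2, 4, 3, 4, 3, 3, 0, 2]),
    ([], 70, [1, 2, 0, 2, 1, 3, 0, 3, 3, 1, 2, 0, 3, 1, 3, 0, 3, 3, 3, 1, 2, 2, 0, 2, 2, 1, 3, 0,
    0]),
    ([], 57, [1, 2, 2, 0, 3, 3, 1, 2, 0, 3, 1, 3, 0, 2, 1, 2, 2, 0, 2, 1, 3, 0, 2, 2, 1, 3, 0, 2,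
    1, 2, 0, 4, 2, 2, 4, 3, 4, 3, 3, 0, 2]),
    ([0, 2], 59, [1, 3, 0, 2, 1, 2, 0, 2, 1, 2, 2, 0, 3, 1, 3, 0, 2, 1, 2, 2, 2, 2, 2, 0, 2, 1, 2,
    0, 3, 0, 4, 3, 4, 2, 4]),
    ([], 75, [3, 3, 1, 2, 0, 3, 3, 1, 2, 0, 3, 3, 1, 3, 0, 2, 1, 2, 0, 2, 2, 1, 3, 0, 3, 3, 1, 3,
    0, 2, 1, 2, 2, 0, 3, 3, 1, 3, 3, 0, 3, 1, 4, 3, 4, 2, 4]),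
    ([1, 0, 3], 93, [3, 3, 1, 2, 0, 3, 3, 1, 2, 0, 3, 3, 1, 2, 2, 2, 0, 2, 2, 1, 2, 0, 3, 3, 1, 2,
    0, 3, 1, 2, 0, 2, 2, 1, 3, 0, 3, 1, 4]),
    ([], 67, [3, 3, 1, 2, 0, 3, 3, 1, 2, 0, 3, 3, 1, 2, 0, 3, 1, 2, 0, 2, 2, 1, 2, 0, 3, 3, 1, 3,
    0, 3, 1, 2, 2, 0, 3, 1, 2, 0, 3, 1, 3, 0, 2, 0, 4, 3, 4, 2]),
    ([], 60, [3, 3, 1, 2, 0, 3, 3, 1, 2, 0, 3, 3, 1, 2, 0, 3, 1, 2, 0, 2, 1, 3, 0, 3, 1, 3, 3, 0,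
    2, 2, 2, 1, 2, 0, 2, 1, 2, 0, 2, 2, 1, 3, 3, 0, 3, 0, 0, 4, 3, 4, 2, 2]),
    ([], 83, [3, 3, 1, 2, 0, 3, 3, 1, 2, 0, 3, 3, 1, 3, 0, 3, 1, 3, 3, 0, 2, 2, 1, 2, 0, 2, 1, 3,
    0, 3, 1, 2, 0, 3, 3, 1, 4, 3, 4, 2, 2, 4]),
    ([0, 0, 2], 26, [3, 3, 1, 2, 0, 3, 3, 1, 2, 0, 3, 3, 1, 2, 0, 3, 1, 2, 0, 2, 1, 3, 0, 3, 1, 3,
    3, 0, 2, 2, 2, 1, 2, 0, 3, 1, 2, 0, 3, 1, 3, 0, 4, 2]),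
    ([], 32, [3, 1, 2, 0, 2, 2, 1, 2, 0, 2, 1, 2, 2, 0, 3, 1, 3, 0, 2, 1, 2, 0, 2, 2, 1, 3, 0, 3,
    1, 3, 4, 3, 4, 2, 2])])]

/-- Traces for generators 0, 6. -/
def tr06 : List (ℕ × List ℕ × List ℕ × List (List ℕ × ℕ × List ℕ)) := [
  (0, [],
    [0, 0, 2], [
    ([], 0, []),
    ([], 1, [1]),
    ([], 2, [0]),
    ([], 4, [0, 0]),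
    ([], 7, []),
    ([], 18, [0]),
    ([3, 5], 12, [2, 1, 3, 3, 0, 2, 2, 2, 1, 2, 2, 0, 3, 1, 3, 0, 3, 1, 2, 0, 2, 1, 4]),
    ([], 10, [2, 1, 3, 3, 0, 2, 2, 2, 1, 2, 2, 0, 3, 1, 3, 0, 3, 1, 2, 0, 2, 0]),
    ([], 20, [3, 1, 2, 0, 3, 3, 1, 2, 0, 2, 1, 2, 2, 0, 3, 3, 1, 3, 0, 2, 1, 3, 0, 2, 1, 2, 0, 2,
    2, 4]),
    ([], 21, [2, 1, 3, 3, 0, 2, 2, 2, 1, 2, 2, 0, 3, 1, 3, 0, 3, 1, 2, 0, 2, 0, 4]),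
    ([], 4, [3, 1, 2, 0, 3, 3, 1, 2, 0, 2, 1, 2, 2, 0, 3, 3, 1, 3, 0, 2, 1, 3, 0, 2, 1, 2, 0, 2,
    2, 0, 0]),
    ([], 5, [2, 1, 3, 3, 0, 2, 2, 2, 1, 2, 2, 0, 3, 1, 3, 0, 3, 1, 2, 0, 2, 0])]),
  (1, [0, 0],
    [], [
    ([], 5, [0]),
    ([0, 0, 0], 0, []),
    ([], 1, [1]),
    ([], 2, [0]),
    ([], 6, []),
    ([], 12, [1, 4]),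
    ([], 5, [2, 1, 3, 3, 0, 2, 2, 2, 1, 2, 2, 0, 3, 1, 3, 0, 3, 1, 2, 0, 2, 0]),
    ([0, 0, 0], 0, [3, 1, 2, 0, 3, 3, 1, 2, 0, 2, 1, 2, 2, 0, 3, 3, 1, 3, 0, 2, 1, 3, 0, 2, 1, 2,
    0, 2, 2]),
    ([], 1, [2, 1, 3, 3, 0, 2, 2, 2, 1, 2, 2, 0, 3, 1, 3, 0, 3, 1, 2, 0, 2, 1]),
    ([], 2, [2, 1, 3, 3, 0, 2, 2, 2, 1, 2, 2, 0, 3, 1, 3, 0, 3, 1, 2, 0, 2, 0]),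
    ([], 6, [3, 1, 2, 0, 3, 3, 1, 2, 0, 2, 1, 2, 2, 0, 3, 3, 1, 3, 0, 2, 1, 3, 0, 2, 1, 2, 0, 2,
    2]),
    ([], 12, [2, 1, 3, 3, 0, 2, 2, 2, 1, 2, 2, 0, 3, 1, 3, 0, 3, 1, 2, 0, 2, 1, 4])]),
  (1, [0, 4, 2, 4, 3, 3, 1, 4],
    [1, 0, 1, 0, 0, 0, 0, 0, 1, 0, 0, 1, 1, 1, 0, 1, 1, 0, 0, 0, 1, 0, 0, 1, 0, 0], [
    ([1, 1, 0, 1, 0, 1, 1, 1, 1], 9, [3, 3, 1, 2, 0, 3, 3, 1, 2, 0, 3, 3, 1, 2, 2, 0, 2, 2, 1, 2,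
    0, 2, 1, 3, 0, 3, 1, 3, 3, 0, 3, 1, 2, 0, 2, 1, 3, 0, 3, 1, 2, 0, 2, 2, 1, 3, 0]),
    ([], 69, [3, 3, 1, 2, 0, 3, 3, 1, 2, 0, 3, 3, 1, 2, 0, 2, 2, 1, 3, 0, 2, 2, 1, 2, 0, 2, 1, 3,
    0, 3, 3, 1, 3, 0, 2, 2, 1, 3, 0, 2, 2, 1, 3, 0, 2, 2, 1, 3, 0, 0, 4, 2, 4, 3, 3, 1, 4]),
    ([], 70, [3, 3, 1, 2, 0, 3, 3, 1, 2, 0, 3, 3, 3, 1, 3, 0, 2, 1, 2, 0, 2, 2, 2, 1, 3, 0, 2, 2,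
    2, 1, 3, 0, 3, 1, 2, 0, 2, 1, 2, 2, 2, 0, 0]),
    ([], 57, [3, 1, 2, 2, 0, 2, 1, 3, 3, 0, 3, 1, 2, 2, 0, 2, 1, 2, 2, 0, 2, 0, 4, 2, 4, 3, 3, 1,
    4]),
    ([2, 3, 3], 59, [3, 3, 1, 2, 0, 3, 3, 1, 2, 0, 3, 3, 1, 2, 2, 0, 3, 1, 3, 3, 0, 3, 1, 2, 0, 2,
    1, 3, 0, 0, 4, 2, 4, 3, 4]),
    ([], 75, [1, 2, 0, 2, 1, 2, 0, 2, 1, 3, 4, 2, 4, 3, 4]),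
    ([1, 0, 3], 93, [3, 3, 1, 2, 0, 3, 3, 1, 2, 0, 3, 3, 1, 2, 0, 2, 2, 1, 2, 0, 3, 3, 1, 3, 0, 2,
    2, 1, 2, 2, 0, 2, 1, 2, 0, 3, 3, 1, 3, 0, 2, 1, 4]),
    ([], 67, [3, 3, 1, 2, 0, 3, 3, 1, 2, 0, 3, 3, 1, 2, 0, 3, 1, 2, 0, 2, 1, 2, 0, 3, 1, 3, 0, 3,
    1, 2, 0, 2, 1, 2, 2, 0, 3, 1, 2, 0, 2, 1, 2, 0, 3, 0, 4, 3, 0, 4, 3, 3, 0, 3]),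
    ([], 60, [3, 3, 1, 2, 0, 3, 3, 1, 2, 0, 3, 3, 1, 3, 0, 3, 1, 3, 3, 0, 2, 2, 1, 2, 0, 2, 1, 2,
    0, 2, 1, 3, 0, 3, 1, 2, 0, 3, 1, 3, 0, 4, 2, 4, 2, 2]),
    ([], 83, [2, 2, 1, 3, 0, 3, 1, 2, 2, 0, 2, 1, 3, 0, 3, 3, 1, 3, 3, 3, 0, 2, 2, 1, 2, 2, 0, 2,
    0, 4, 2, 4, 2, 2, 4]),
    ([0, 0, 2], 26, [1, 2, 0, 2, 2, 2, 1, 3, 0, 3, 1, 2, 0, 2, 1, 2, 0, 3, 1, 3, 0, 2, 2, 1, 2, 0,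
    3, 1, 3, 0, 0, 4, 2, 1, 4, 2, 4, 2]),
    ([], 32, [3, 3, 1, 2, 0, 3, 3, 1, 2, 0, 3, 3, 1, 2, 2, 0, 2, 1, 3, 0, 2, 2, 1, 3, 3, 0, 3, 1,
    2, 0, 2, 2, 2, 2, 1, 2, 0, 2, 0, 4, 2, 4, 2, 2])]),
  (1, [0, 4, 2, 2, 2, 1, 4, 3, 4, 3],
    [1, 0, 1, 0, 0, 0, 0, 0, 1, 1, 1, 0, 1, 0, 1, 0, 0, 0, 0, 1, 0, 0, 0, 1, 0, 1, 1, 0, 1, 1, 1,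
    0], [
    ([1, 1, 0, 1, 1, 1, 1], 9, [3, 3, 1, 2, 0, 3, 3, 1, 2, 0, 3, 3, 1, 2, 2, 0, 2, 2, 1, 3, 0, 3,
    1, 2, 0, 3, 3, 1, 2, 0, 3]),
    ([], 69, [2, 2, 1, 3, 0, 3, 1, 2, 2, 0, 2, 1, 3, 0, 3, 3, 1, 3, 3, 0, 2, 1, 2, 0, 2, 2, 1, 3,
    3, 0, 3, 0, 4, 2, 2, 2, 1, 4, 3, 4, 3]),
    ([], 70, [2, 1, 2, 0, 2, 1, 3, 0, 2, 1, 2, 2, 0, 2, 1, 3, 3, 0, 3, 3, 3, 1, 2, 0, 2, 2, 0]),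
    ([], 57, [1, 3, 3, 0, 3, 1, 3, 0, 2, 1, 2, 0, 2, 1, 3, 0, 3, 1, 3, 0, 2, 1, 2, 0, 2, 2, 0, 4,
    2, 2, 2, 1, 4, 3, 4, 3]),
    ([0, 1, 3], 65, [3, 3, 1, 2, 0, 3, 3, 1, 2, 0, 3, 3, 3, 1, 2, 0, 3, 3, 1, 3, 0, 3, 1, 2, 0, 3,
    3, 1, 2, 0, 2, 1, 2, 0, 2, 2, 2, 1, 3, 3, 0, 0, 4, 2, 0, 4, 2, 4, 2, 1, 4]),
    ([1, 3], 55, [1, 3, 0, 3, 1, 2, 2, 0, 2, 2, 1, 2, 2, 0, 2, 1, 2, 0, 2, 1, 2, 0, 2, 1, 3, 0, 2,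
    0, 4, 2, 4, 3, 4, 3, 3, 4, 3]),
    ([5, 5, 0], 46, [3, 3, 1, 2, 0, 3, 3, 1, 2, 0, 3, 3, 1, 2, 0, 3, 3, 1, 2, 0, 2, 1, 3, 0, 2, 1,
    2, 0, 3, 1, 3, 0, 3, 1, 2, 0, 3, 3, 1, 2, 0, 2, 2, 2, 0, 4, 2, 2, 2, 1, 4, 2]),
    ([3, 2], 66, [1, 2, 2, 0, 2, 2, 1, 2, 0, 3, 3, 1, 2, 0, 3, 3, 1, 2, 0, 3, 3, 1, 2, 0, 3, 3, 1,
    2, 0, 4, 2, 2, 2, 0, 4, 2, 4]),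
    ([3, 2], 85, [1, 3, 0, 2, 2, 1, 2, 0, 2, 1, 3, 0, 3, 1, 2, 0, 3, 3, 1, 3, 3, 0, 3, 1, 2, 0, 2,
    1, 3, 0, 0, 4, 3, 1, 4]),
    ([3, 0, 1], 63, [3, 3, 1, 2, 0, 3, 3, 1, 2, 0, 3, 3, 3, 1, 3, 3, 0, 3, 1, 3, 0, 2, 1, 2, 2, 0,
    2, 1, 2, 2, 0, 2, 1, 3, 0, 2, 1, 2, 0, 2, 2, 1, 3, 0, 3, 0, 4, 2, 2, 2, 0, 2, 4]),
    ([], 34, [1, 2, 0, 2, 2, 1, 2, 0, 2, 1, 3, 0, 3, 1, 3, 3, 0, 3, 1, 2, 0, 2, 2, 2, 1, 3, 0, 3,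
    1, 2, 0, 0, 4, 2, 2, 2, 1, 2]),
    ([0, 0, 0, 1], 27, [3, 3, 1, 2, 0, 3, 3, 1, 2, 0, 3, 3, 1, 2, 0, 2, 2, 1, 3, 0, 2, 2, 1, 2, 0,
    2, 1, 3, 0, 3, 3, 1, 3, 0, 2, 2, 1, 3, 0, 2, 1, 3, 0, 2, 1, 2, 2, 0, 3, 0, 4, 2, 2, 2, 0, 4,
    2])]),
  (1, [4, 2, 2, 4, 3, 4, 3, 3, 0, 2],
    [1, 0, 1, 0, 1, 0, 0, 1, 1, 1, 1, 0, 0, 0, 1, 1, 0, 0, 1, 0, 0, 0, 1, 1, 0, 1, 1, 0, 0, 0, 1,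
    0, 1, 0, 0, 1, 1, 1], [
    ([0, 1, 0, 0, 0, 0], 9, [3, 3, 1, 2, 0, 3, 3, 1, 2, 0, 3, 3, 1, 2, 0, 3, 1, 2, 2, 2, 0, 2, 1,
    3, 3, 0, 3, 3, 1, 2, 0, 3, 1, 2, 0, 3, 3, 1, 2, 0]),
    ([], 69, [2, 1, 3, 0, 2, 1, 2, 0, 2, 1, 3, 0, 3, 1, 2, 0, 3, 1, 3, 0, 2, 2, 2, 2, 2, 1, 2, 2,
    2, 0, 2, 4, 2, 2, 4, 3, 4, 3, 3, 0, 2]),
    ([], 70, [1, 2, 0, 2, 1, 3, 0, 3, 3, 1, 2, 0, 3, 1, 3, 0, 3, 3, 3, 1, 2, 2, 0, 2, 2, 1, 3, 0,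
    0]),
    ([], 57, [1, 2, 2, 0, 3, 3, 1, 2, 0, 3, 1, 3, 0, 2, 1, 2, 2, 0, 2, 1, 3, 0, 2, 2, 1, 3, 0, 2,
    1, 2, 0, 4, 2, 2, 4, 3, 4, 3, 3, 0, 2]),
    ([0, 2], 59, [1, 3, 0, 2, 1, 2, 0, 2, 1, 2, 2, 0, 3, 1, 3, 0, 2, 1, 2, 2, 2, 2, 2, 0, 2, 1, 2,
    0, 3, 0, 4, 3, 4, 2, 4]),
    ([], 75, [3, 3, 1, 2, 0, 3, 3, 1, 2, 0, 3, 3, 1, 3, 0, 2, 1, 2, 0, 2, 2, 1, 3, 0, 3, 3, 1, 3,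
    0, 2, 1, 2, 2, 0, 3, 3, 1, 3, 3, 0, 3, 1, 4, 3, 4, 2, 4]),
    ([1, 0, 3], 93, [3, 1, 2, 2, 2, 0, 3, 1, 3, 0, 2, 1, 2, 0, 2, 1, 2, 2, 2, 0, 2, 2, 1, 2, 0, 2,
    1, 3, 3, 4]),
    ([], 67, [3, 3, 1, 2, 0, 3, 3, 1, 2, 0, 3, 3, 1, 2, 0, 2, 1, 2, 0, 2, 1, 3, 0, 2, 2, 1, 2, 2,
    2, 0, 3, 1, 2, 0, 2, 1, 2, 0, 3, 1, 3, 0, 0, 4, 3, 4, 2]),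
    ([], 60, [3, 3, 1, 2, 0, 3, 3, 1, 2, 0, 3, 3, 1, 2, 2, 0, 2, 1, 2, 0, 2, 1, 3, 0, 3, 3, 1, 3,
    3, 0, 2, 1, 2, 0, 2, 2, 1, 3, 0, 0, 4, 3, 4, 2, 2, 0]),
    ([], 83, [2, 2, 1, 2, 0, 2, 2, 1, 3, 0, 2, 1, 2, 2, 0, 2, 2, 1, 2, 2, 0, 2, 1, 2, 2, 0, 2, 4,
    3, 4, 2, 2, 1, 4]),
    ([0, 0, 2], 26, [1, 2, 0, 2, 2, 1, 3, 0, 3, 1, 2, 0, 3, 3, 1, 2, 0, 2, 1, 3, 0, 2, 1, 2, 2, 0,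
    0, 4, 2, 0]),
    ([], 32, [3, 3, 1, 2, 0, 3, 3, 1, 2, 0, 3, 3, 1, 2, 0, 2, 1, 2, 2, 0, 2, 2, 1, 3, 0, 3, 3, 1,
    2, 0, 3, 1, 2, 0, 2, 1, 3, 0, 4, 3, 4, 2, 2, 1])])]

/-- Traces for generators 0, 7. -/
def tr07 : List (ℕ × List ℕ × List ℕ × List (List ℕ × ℕ × List ℕ)) := [
  (0, [],
    [0, 0, 2], [
    ([], 0, []),
    ([], 1, [1]),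
    ([], 2, [0]),
    ([], 4, [0, 0]),
    ([], 7, []),
    ([], 18, [0]),
    ([3, 5], 12, [1, 4]),
    ([], 10, [0]),
    ([], 20, [4]),
    ([], 21, [0, 4]),
    ([], 4, [0, 0]),
    ([], 5, [0])]),
  (1, [0, 0],
    [], [
    ([], 5, [0]),
    ([0, 0, 0], 0, []),
    ([], 1, [1]),
    ([], 2, [0]),
    ([], 6, []),
    ([], 12, [1, 4]),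
    ([], 5, [0]),
    ([0, 0, 0], 0, []),
    ([], 1, [1]),
    ([], 2, [0]),
    ([], 6, []),
    ([], 12, [1, 4])]),
  (1, [0, 4, 2, 4, 3, 3, 1, 4],
    [1, 0, 1, 0, 0, 0, 0, 0, 1, 0, 0, 1, 1, 1, 0, 1, 1, 0, 0, 0, 1, 0, 0, 1, 0, 0], [
    ([1, 1, 0, 1, 0, 1, 1, 1, 1], 9, [3, 3, 1, 2, 0, 3, 3, 1, 2, 0, 3, 3, 1, 2, 2, 0, 2, 2, 1, 2,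
    0, 2, 1, 3, 0, 3, 1, 3, 3, 0, 3, 1, 2, 0, 2, 1, 3, 0, 3, 1, 2, 0, 2, 2, 1, 3, 0]),
    ([], 69, [3, 3, 1, 2, 0, 3, 3, 1, 2, 0, 3, 3, 1, 2, 0, 2, 2, 1, 3, 0, 2, 2, 1, 2, 0, 2, 1, 3,
    0, 3, 3, 1, 3, 0, 2, 2, 1, 3, 0, 2, 2, 1, 3, 0, 2, 2, 1, 3, 0, 0, 4, 2, 4, 3, 3, 1, 4]),
    ([], 70, [3, 3, 1, 2, 0, 3, 3, 1, 2, 0, 3, 3, 3, 1, 3, 0, 2, 1, 2, 0, 2, 2, 2, 1, 3, 0, 2, 2,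
    2, 1, 3, 0, 3, 1, 2, 0, 2, 1, 2, 2, 2, 0, 0]),
    ([], 57, [3, 1, 2, 2, 0, 2, 1, 3, 3, 0, 3, 1, 2, 2, 0, 2, 1, 2, 2, 0, 2, 0, 4, 2, 4, 3, 3, 1,
    4]),
    ([2, 3, 3], 59, [3, 3, 1, 2, 0, 3, 3, 1, 2, 0, 3, 3, 1, 2, 2, 0, 3, 1, 3, 3, 0, 3, 1, 2, 0, 2,
    1, 3, 0, 0, 4, 2, 4, 3, 4]),
    ([], 75, [1, 2, 0, 2, 1, 2, 0, 2, 1, 3, 4, 2, 4, 3, 4]),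
    ([1, 0, 3], 93, [2, 2, 1, 2, 0, 3, 3, 1, 2, 2, 0, 2, 2, 1, 3, 0, 2, 1, 2, 0, 2, 1, 4]),
    ([], 67, [1, 3, 0, 2, 1, 2, 2, 0, 2, 1, 2, 0, 3, 1, 3, 0, 3, 3, 1, 3, 3, 0, 2, 2, 2, 0, 4, 2,
    4, 3]),
    ([], 60, [3, 3, 1, 2, 0, 3, 3, 1, 2, 0, 3, 3, 1, 2, 2, 0, 2, 1, 2, 0, 2, 1, 3, 0, 3, 3, 1, 3,
    3, 0, 2, 1, 2, 2, 2, 0, 3, 0, 0, 4, 2, 4, 3, 3]),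
    ([], 83, [1, 3, 0, 3, 3, 1, 2, 2, 0, 2, 1, 2, 2, 0, 2, 2, 2, 1, 2, 0, 2, 1, 2, 4, 2, 4, 3, 3,
    4]),
    ([0, 0, 2], 26, [2, 2, 2, 1, 3, 0, 2, 1, 2, 0, 2, 1, 2, 0, 3, 1, 3, 0, 2, 2, 1, 2, 0, 2, 2, 2,
    4, 3]),
    ([], 32, [3, 3, 1, 2, 0, 3, 3, 1, 2, 0, 3, 3, 1, 2, 0, 2, 1, 2, 2, 0, 2, 2, 1, 3, 0, 3, 3, 1,
    2, 0, 2, 1, 3, 0, 3, 1, 2, 4, 2, 4, 3, 3])]),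
  (1, [0, 4, 2, 2, 2, 1, 4, 3, 4, 3],
    [1, 0, 1, 0, 0, 0, 0, 0, 1, 1, 1, 0, 1, 0, 1, 0, 0, 0, 0, 1, 0, 0, 0, 1, 0, 1, 1, 0, 1, 1, 1,
    0], [
    ([1, 1, 0, 1, 1, 1, 1], 9, [3, 3, 1, 2, 0, 3, 3, 1, 2, 0, 3, 3, 1, 2, 2, 0, 2, 2, 1, 3, 0, 3,
    1, 2, 0, 3, 3, 1, 2, 0, 3]),
    ([], 69, [2, 2, 1, 3, 0, 3, 1, 2, 2, 0, 2, 1, 3, 0, 3, 3, 1, 3, 3, 0, 2, 1, 2, 0, 2, 2, 1, 3,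
    3, 0, 3, 0, 4, 2, 2, 2, 1, 4, 3, 4, 3]),
    ([], 70, [2, 1, 2, 0, 2, 1, 3, 0, 2, 1, 2, 2, 0, 2, 1, 3, 3, 0, 3, 3, 3, 1, 2, 0, 2, 2, 0]),
    ([], 57, [1, 3, 3, 0, 3, 1, 3, 0, 2, 1, 2, 0, 2, 1, 3, 0, 3, 1, 3, 0, 2, 1, 2, 0, 2, 2, 0, 4,
    2, 2, 2, 1, 4, 3, 4, 3]),
    ([0, 1, 3], 65, [3, 3, 1, 2, 0, 3, 3, 1, 2, 0, 3, 3, 3, 1, 2, 0, 3, 3, 1, 3, 0, 3, 1, 2, 0, 3,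
    3, 1, 2, 0, 2, 1, 2, 0, 2, 2, 2, 1, 3, 3, 0, 0, 4, 2, 0, 4, 2, 4, 2, 1, 4]),
    ([1, 3], 55, [1, 3, 0, 3, 1, 2, 2, 0, 2, 2, 1, 2, 2, 0, 2, 1, 2, 0, 2, 1, 2, 0, 2, 1, 3, 0, 2,
    0, 4, 2, 4, 3, 4, 3, 3, 4, 3]),
    ([5, 5, 0], 46, [2, 1, 2, 2, 2, 0, 2, 1, 3, 3, 0, 2, 1, 2, 0, 2, 1, 3, 0, 3, 1, 3, 0, 0, 4, 2,
    4, 3, 4, 3, 3, 4, 3]),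
    ([3, 2], 66, [3, 3, 1, 2, 0, 3, 3, 1, 2, 0, 3, 3, 1, 2, 0, 3, 1, 3, 3, 0, 2, 2, 2, 1, 3, 0, 2,
    2, 1, 3, 0, 2, 1, 2, 2, 0, 2, 1, 3, 0, 0, 4, 2, 2, 2, 1, 4, 3, 4, 3]),
    ([3, 2], 85, [2, 1, 2, 0, 2, 1, 3, 0, 2, 1, 2, 2, 0, 2, 1, 3, 3, 0, 2, 1, 2, 2, 2, 0, 2, 4, 2,
    0, 4, 2, 4, 2, 1, 4]),
    ([3, 0, 1], 63, [3, 3, 1, 3, 3, 0, 2, 2, 1, 2, 0, 2, 1, 3, 0, 3, 3, 1, 2, 0, 3, 3, 1, 2, 2, 0,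
    3, 0, 4, 2, 1, 4, 2, 4, 2, 4]),
    ([], 34, [3, 3, 1, 2, 0, 3, 3, 1, 2, 0, 3, 3, 1, 2, 0, 3, 1, 2, 0, 3, 3, 1, 2, 0, 2, 1, 2, 2,
    0, 3, 3, 1, 3, 0, 2, 2, 1, 3, 0, 2, 1, 2, 0, 3, 0, 4, 2, 0, 4, 2, 4, 2]),
    ([0, 0, 0, 1], 27, [1, 3, 0, 3, 1, 3, 3, 0, 2, 1, 2, 2, 0, 3, 1, 2, 2, 0, 2, 2, 2, 1, 3, 0, 0,
    4, 3, 1, 4, 3, 4, 3, 4, 3])]),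
  (1, [4, 2, 2, 4, 3, 4, 3, 3, 0, 2],
    [1, 0, 1, 0, 1, 0, 0, 1, 1, 1, 1, 0, 0, 0, 1, 1, 0, 0, 1, 0, 0, 0, 1, 1, 0, 1, 1, 0, 0, 0, 1,
    0, 1, 0, 0, 1, 1, 1], [
    ([0, 1, 0, 0, 0, 0], 9, [3, 3, 1, 2, 0, 3, 3, 1, 2, 0, 3, 3, 1, 2, 0, 3, 1, 2, 2, 2, 0, 2, 1,
    3, 3, 0, 3, 3, 1, 2, 0, 3, 1, 2, 0, 3, 3, 1, 2, 0]),
    ([], 69, [2, 1, 3, 0, 2, 1, 2, 0, 2, 1, 3, 0, 3, 1, 2, 0, 3, 1, 3, 0, 2, 2, 2, 2, 2, 1, 2, 2,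
    2, 0, 2, 4, 2, 2, 4, 3, 4, 3, 3, 0, 2]),
    ([], 70, [1, 2, 0, 2, 1, 3, 0, 3, 3, 1, 2, 0, 3, 1, 3, 0, 3, 3, 3, 1, 2, 2, 0, 2, 2, 1, 3, 0,
    0]),
    ([], 57, [1, 2, 2, 0, 3, 3, 1, 2, 0, 3, 1, 3, 0, 2, 1, 2, 2, 0, 2, 1, 3, 0, 2, 2, 1, 3, 0, 2,
    1, 2, 0, 4, 2, 2, 4, 3, 4, 3, 3, 0, 2]),
    ([0, 2], 59, [1, 3, 0, 2, 1, 2, 0, 2, 1, 2, 2, 0, 3, 1, 3, 0, 2, 1, 2, 2, 2, 2, 2, 0, 2, 1, 2,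
    0, 3, 0, 4, 3, 4, 2, 4]),
    ([], 75, [3, 3, 1, 2, 0, 3, 3, 1, 2, 0, 3, 3, 1, 3, 0, 2, 1, 2, 0, 2, 2, 1, 3, 0, 3, 3, 1, 3,
    0, 2, 1, 2, 2, 0, 3, 3, 1, 3, 3, 0, 3, 1, 4, 3, 4, 2, 4]),
    ([1, 0, 3], 93, [3, 3, 1, 2, 0, 3, 3, 1, 2, 0, 3, 3, 1, 2, 0, 2, 2, 1, 2, 0, 2, 2, 1, 3, 0, 2,
    1, 2, 2, 0, 2, 2, 1, 3, 0, 2, 2, 1, 2, 2, 4]),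
    ([], 67, [3, 3, 1, 2, 0, 3, 3, 1, 2, 0, 3, 3, 1, 2, 0, 3, 1, 2, 0, 2, 2, 1, 2, 0, 3, 3, 1, 3,
    0, 3, 1, 2, 2, 0, 2, 1, 3, 0, 2, 1, 2, 0, 0, 4, 3, 4, 2]),
    ([], 60, [3, 3, 1, 2, 0, 3, 3, 1, 2, 0, 3, 3, 1, 3, 0, 3, 1, 3, 3, 0, 2, 2, 1, 2, 0, 2, 1, 2,
    0, 2, 1, 3, 0, 3, 1, 2, 0, 3, 1, 3, 0, 4, 2, 0, 4, 2, 2, 0, 3, 3]),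
    ([], 83, [3, 1, 2, 2, 0, 2, 1, 3, 3, 0, 3, 1, 2, 2, 0, 2, 1, 3, 0, 3, 3, 1, 2, 0, 3, 1, 4, 3,
    4, 3, 3, 4, 2, 2, 2]),
    ([0, 0, 2], 26, [3, 3, 1, 2, 0, 3, 3, 1, 2, 0, 3, 3, 1, 2, 0, 2, 2, 1, 3, 0, 2, 2, 1, 2, 0, 2,
    1, 3, 0, 3, 3, 1, 3, 0, 2, 2, 1, 3, 3, 3, 0, 2, 1, 2, 0, 3, 4, 2, 2, 2, 0, 3, 1, 2, 2]),
    ([], 32, [3, 3, 1, 2, 0, 3, 3, 1, 2, 0, 3, 3, 1, 2, 2, 0, 2, 1, 3, 0, 2, 2, 1, 3, 3, 0, 3, 1,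
    2, 0, 2, 2, 2, 2, 1, 2, 0, 2, 0, 4, 2, 0, 4, 2, 2, 0, 3, 3])])]

/-- Traces for generators 0, 8. -/
def tr08 : List (ℕ × List ℕ × List ℕ × List (List ℕ × ℕ × List ℕ)) := [
  (0, [],
    [0, 0, 2], [
    ([], 0, []),
    ([], 1, [1]),
    ([], 2, [0]),
    ([], 4, [0, 0]),
    ([], 7, []),
    ([], 18, [0]),
    ([3, 5], 12, [2, 2, 1, 2, 0, 3, 3, 1, 3, 0, 2, 1, 2, 0, 2, 1, 3, 0, 3, 3, 1, 2, 0, 2, 2, 1,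
    4]),
    ([], 10, [2, 2, 1, 2, 0, 3, 3, 1, 3, 0, 2, 1, 2, 0, 2, 1, 3, 0, 3, 3, 1, 2, 0, 2, 2, 0]),
    ([], 20, [1, 2, 0, 2, 1, 3, 0, 3, 3, 1, 2, 0, 3, 1, 3, 3, 0, 2, 2, 1, 3, 3, 0, 4]),
    ([], 21, [2, 2, 1, 2, 0, 3, 3, 1, 3, 0, 2, 1, 2, 0, 2, 1, 3, 0, 3, 3, 1, 2, 0, 2, 2, 0, 4]),
    ([], 4, [1, 2, 0, 2, 1, 3, 0, 3, 3, 1, 2, 0, 3, 1, 3, 3, 0, 2, 2, 1, 3, 3, 0, 0, 0]),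
    ([], 5, [2, 2, 1, 2, 0, 3, 3, 1, 3, 0, 2, 1, 2, 0, 2, 1, 3, 0, 3, 3, 1, 2, 0, 2, 2, 0])]),
  (1, [0, 0],
    [], [
    ([], 5, [0]),
    ([0, 0, 0], 0, []),
    ([], 1, [1]),
    ([], 2, [0]),
    ([], 6, []),
    ([], 12, [1, 4]),
    ([], 5, [2, 2, 1, 2, 0, 3, 3, 1, 3, 0, 2, 1, 2, 0, 2, 1, 3, 0, 3, 3, 1, 2, 0, 2, 2, 0]),
    ([0, 0, 0], 0, [1, 2, 0, 2, 1, 3, 0, 3, 3, 1, 2, 0, 3, 1, 3, 3, 0, 2, 2, 1, 3, 3, 0]),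
    ([], 1, [2, 2, 1, 2, 0, 3, 3, 1, 3, 0, 2, 1, 2, 0, 2, 1, 3, 0, 3, 3, 1, 2, 0, 2, 2, 1]),
    ([], 2, [2, 2, 1, 2, 0, 3, 3, 1, 3, 0, 2, 1, 2, 0, 2, 1, 3, 0, 3, 3, 1, 2, 0, 2, 2, 0]),
    ([], 6, [1, 2, 0, 2, 1, 3, 0, 3, 3, 1, 2, 0, 3, 1, 3, 3, 0, 2, 2, 1, 3, 3, 0]),
    ([], 12, [2, 2, 1, 2, 0, 3, 3, 1, 3, 0, 2, 1, 2, 0, 2, 1, 3, 0, 3, 3, 1, 2, 0, 2, 2, 1, 4])]),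
  (1, [0, 4, 2, 4, 3, 3, 1, 4],
    [1, 0, 1, 0, 0, 0, 0, 0, 1, 0, 0, 1, 1, 1, 0, 1, 1, 0, 0, 0, 1, 0, 0, 1, 0, 0], [
    ([1, 1, 0, 1, 0, 1, 1, 1, 1], 9, [3, 3, 1, 2, 0, 3, 3, 1, 2, 0, 3, 3, 1, 2, 2, 0, 2, 2, 1, 2,
    0, 2, 1, 3, 0, 3, 1, 3, 3, 0, 3, 1, 2, 0, 2, 1, 3, 0, 3, 1, 2, 0, 2, 2, 1, 3, 0]),
    ([], 69, [3, 3, 1, 2, 0, 3, 3, 1, 2, 0, 3, 3, 1, 2, 0, 2, 2, 1, 3, 0, 2, 2, 1, 2, 0, 2, 1, 3,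
    0, 3, 3, 1, 3, 0, 2, 2, 1, 3, 0, 2, 2, 1, 3, 0, 2, 2, 1, 3, 0, 0, 4, 2, 4, 3, 3, 1, 4]),
    ([], 70, [3, 3, 1, 2, 0, 3, 3, 1, 2, 0, 3, 3, 3, 1, 3, 0, 2, 1, 2, 0, 2, 2, 2, 1, 3, 0, 2, 2,
    2, 1, 3, 0, 3, 1, 2, 0, 2, 1, 2, 2, 2, 0, 0]),
    ([], 57, [3, 1, 2, 2, 0, 2, 1, 3, 3, 0, 3, 1, 2, 2, 0, 2, 1, 2, 2, 0, 2, 0, 4, 2, 4, 3, 3, 1,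
    4]),
    ([2, 3, 3], 59, [3, 3, 1, 2, 0, 3, 3, 1, 2, 0, 3, 3, 1, 2, 2, 0, 3, 1, 3, 3, 0, 3, 1, 2, 0, 2,
    1, 3, 0, 0, 4, 2, 4, 3, 4]),
    ([], 75, [1, 2, 0, 2, 1, 2, 0, 2, 1, 3, 4, 2, 4, 3, 4]),
    ([1, 0, 3], 93, [1, 2, 0, 3, 3, 1, 2, 0, 2, 2, 1, 2, 0, 2, 1, 3, 0, 3, 3, 3, 1, 3, 3, 4]),
    ([], 67, [1, 3, 0, 3, 3, 1, 3, 3, 0, 2, 2, 2, 2, 1, 3, 0, 0, 4, 2, 4, 3]),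
    ([], 60, [1, 2, 0, 2, 2, 1, 2, 2, 0, 2, 2, 1, 3, 0, 3, 3, 1, 3, 3, 3, 0, 2, 1, 2, 0, 4, 3, 4,
    3, 4, 3, 4, 2]),
    ([], 83, [2, 1, 2, 0, 2, 1, 3, 0, 2, 1, 2, 2, 0, 2, 1, 3, 3, 0, 2, 1, 3, 0, 2, 1, 2, 0, 2, 1,
    3, 0, 4, 2, 0, 4, 2, 2, 4, 3, 1]),
    ([0, 0, 2], 26, [1, 2, 0, 2, 1, 2, 0, 2, 1, 2, 0, 2, 2, 1, 2, 0, 4, 2, 2, 0, 2, 1, 2]),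
    ([], 32, [1, 2, 0, 3, 0, 4, 3, 4, 3, 4, 3, 4, 2])]),
  (1, [0, 4, 2, 2, 2, 1, 4, 3, 4, 3],
    [1, 0, 1, 0, 0, 0, 0, 0, 1, 1, 1, 0, 1, 0, 1, 0, 0, 0, 0, 1, 0, 0, 0, 1, 0, 1, 1, 0, 1, 1, 1,
    0], [
    ([1, 1, 0, 1, 1, 1, 1], 9, [3, 3, 1, 2, 0, 3, 3, 1, 2, 0, 3, 3, 1, 2, 2, 0, 2, 2, 1, 3, 0, 3,
    1, 2, 0, 3, 3, 1, 2, 0, 3]),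
    ([], 69, [2, 2, 1, 3, 0, 3, 1, 2, 2, 0, 2, 1, 3, 0, 3, 3, 1, 3, 3, 0, 2, 1, 2, 0, 2, 2, 1, 3,
    3, 0, 3, 0, 4, 2, 2, 2, 1, 4, 3, 4, 3]),
    ([], 70, [2, 1, 2, 0, 2, 1, 3, 0, 2, 1, 2, 2, 0, 2, 1, 3, 3, 0, 3, 3, 3, 1, 2, 0, 2, 2, 0]),
    ([], 57, [1, 3, 3, 0, 3, 1, 3, 0, 2, 1, 2, 0, 2, 1, 3, 0, 3, 1, 3, 0, 2, 1, 2, 0, 2, 2, 0, 4,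
    2, 2, 2, 1, 4, 3, 4, 3]),
    ([0, 1, 3], 65, [3, 3, 1, 2, 0, 3, 3, 1, 2, 0, 3, 3, 3, 1, 2, 0, 3, 3, 1, 3, 0, 3, 1, 2, 0, 3,
    3, 1, 2, 0, 2, 1, 2, 0, 2, 2, 2, 1, 3, 3, 0, 0, 4, 2, 0, 4, 2, 4, 2, 1, 4]),
    ([1, 3], 55, [1, 3, 0, 3, 1, 2, 2, 0, 2, 2, 1, 2, 2, 0, 2, 1, 2, 0, 2, 1, 2, 0, 2, 1, 3, 0, 2,
    0, 4, 2, 4, 3, 4, 3, 3, 4, 3]),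
    ([5, 5, 0], 46, [3, 3, 1, 2, 0, 3, 3, 1, 2, 0, 3, 3, 1, 3, 0, 3, 1, 2, 2, 0, 2, 1, 2, 0, 2, 1,
    2, 0, 2, 2, 1, 2, 0, 2, 0, 4, 3, 4, 3, 3, 0]),
    ([3, 2], 66, [3, 3, 1, 2, 0, 3, 3, 1, 2, 0, 3, 3, 1, 2, 0, 2, 2, 1, 3, 0, 3, 1, 2, 2, 0, 2, 1,
    3, 0, 3, 3, 1, 3, 3, 0, 2, 2, 2, 1, 2, 0, 3, 1, 3, 3, 0, 3, 4, 3, 4, 3, 3, 1, 4]),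
    ([3, 2], 85, [3, 3, 1, 2, 0, 3, 3, 1, 2, 0, 3, 3, 1, 3, 0, 3, 1, 3, 3, 0, 3, 1, 2, 0, 2, 1, 2,
    2, 0, 2, 1, 2, 2, 0, 3, 3, 1, 2, 2, 0, 4, 2, 2, 2, 0, 2, 1, 4, 2]),
    ([3, 0, 1], 63, [3, 3, 1, 2, 0, 3, 3, 1, 2, 0, 3, 3, 1, 2, 0, 2, 2, 1, 2, 0, 2, 1, 3, 0, 2, 2,
    1, 2, 0, 3, 1, 3, 0, 2, 1, 3, 0, 2, 2, 2, 0, 4, 2, 2, 2, 0, 4]),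
    ([], 34, [3, 3, 1, 2, 0, 3, 3, 1, 2, 0, 3, 3, 1, 2, 2, 0, 2, 1, 2, 0, 2, 1, 3, 0, 3, 3, 1, 3,
    3, 0, 2, 1, 2, 0, 2, 2, 1, 3, 3, 0, 2, 2, 0, 4, 2, 2, 2, 1]),
    ([0, 0, 0, 1], 27, [3, 3, 1, 2, 0, 3, 3, 1, 2, 0, 3, 3, 1, 2, 0, 2, 1, 3, 0, 2, 1, 2, 0, 2, 1,
    3, 3, 0, 3, 3, 1, 3, 0, 2, 1, 2, 0, 3, 0, 4, 3, 4, 3, 3, 1])]),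
  (1, [4, 2, 2, 4, 3, 4, 3, 3, 0, 2],
    [1, 0, 1, 0, 1, 0, 0, 1, 1, 1, 1, 0, 0, 0, 1, 1, 0, 0, 1, 0, 0, 0, 1, 1, 0, 1, 1, 0, 0, 0, 1,
    0, 1, 0, 0, 1, 1, 1], [
    ([0, 1, 0, 0, 0, 0], 9, [3, 3, 1, 2, 0, 3, 3, 1, 2, 0, 3, 3, 1, 2, 0, 3, 1, 2, 2, 2, 0, 2, 1,
    3, 3, 0, 3, 3, 1, 2, 0, 3, 1, 2, 0, 3, 3, 1, 2, 0]),
    ([], 69, [2, 1, 3, 0, 2, 1, 2, 0, 2, 1, 3, 0, 3, 1, 2, 0, 3, 1, 3, 0, 2, 2, 2, 2, 2, 1, 2, 2,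
    2, 0, 2, 4, 2, 2, 4, 3, 4, 3, 3, 0, 2]),
    ([], 70, [1, 2, 0, 2, 1, 3, 0, 3, 3, 1, 2, 0, 3, 1, 3, 0, 3, 3, 3, 1, 2, 2, 0, 2, 2, 1, 3, 0,
    0]),
    ([], 57, [1, 2, 2, 0, 3, 3, 1, 2, 0, 3, 1, 3, 0, 2, 1, 2, 2, 0, 2, 1, 3, 0, 2, 2, 1, 3, 0, 2,
    1, 2, 0, 4, 2, 2, 4, 3, 4, 3, 3, 0, 2]),
    ([0, 2], 59, [1, 3, 0, 2, 1, 2, 0, 2, 1, 2, 2, 0, 3, 1, 3, 0, 2, 1, 2, 2, 2, 2, 2, 0, 2, 1, 2,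
    0, 3, 0, 4, 3, 4, 2, 4]),
    ([], 75, [3, 3, 1, 2, 0, 3, 3, 1, 2, 0, 3, 3, 1, 3, 0, 2, 1, 2, 0, 2, 2, 1, 3, 0, 3, 3, 1, 3,
    0, 2, 1, 2, 2, 0, 3, 3, 1, 3, 3, 0, 3, 1, 4, 3, 4, 2, 4]),
    ([1, 0, 3], 93, [3, 3, 1, 2, 0, 3, 3, 1, 2, 0, 3, 3, 1, 3, 0, 3, 1, 2, 2, 0, 2, 1, 2, 2, 0, 3,
    1, 3, 3, 0, 2, 1, 2, 0, 3, 1, 4]),
    ([], 67, [3, 1, 2, 2, 0, 2, 1, 2, 0, 2, 2, 1, 3, 0, 3, 3, 1, 3, 0, 2, 1, 3, 0, 2, 2, 1, 2, 0,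
    3, 0, 4, 3, 4, 2]),
    ([], 60, [2, 2, 1, 2, 0, 3, 1, 3, 0, 3, 3, 1, 2, 2, 0, 2, 2, 2, 2, 1, 3, 0, 2, 2, 2, 1, 3, 0,
    4, 3, 3, 0, 3, 0, 4, 3]),
    ([], 83, [3, 3, 1, 2, 0, 3, 3, 1, 2, 0, 2, 1, 3, 0, 3, 1, 3, 3, 0, 3, 1, 3, 0, 2, 2, 2, 1, 2,
    2, 0, 2, 1, 2, 0, 3, 0, 4, 2, 2, 1, 4, 2, 4, 2]),
    ([0, 0, 2], 26, [3, 3, 1, 2, 0, 3, 3, 1, 2, 0, 3, 3, 3, 3, 1, 3, 3, 0, 2, 1, 2, 2, 0, 3, 1, 3,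
    3, 0, 4, 3, 3, 0, 3, 1, 3]),
    ([], 32, [1, 2, 0, 2, 1, 3, 3, 0, 3, 3, 1, 2, 0, 3, 1, 3, 0, 3, 1, 2, 2, 0, 2, 2, 1, 2, 0, 2,
    0, 4, 3, 3, 0, 3, 0, 4, 3])])]

/-- Traces for generators 0, 9. -/
def tr09 : List (ℕ × List ℕ × List ℕ × List (List ℕ × ℕ × List ℕ)) := [
  (0, [],
    [0, 0, 2], [
    ([], 0, []),
    ([], 1, [1]),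
    ([], 2, [0]),
    ([], 4, [0, 0]),
    ([], 7, []),
    ([], 18, [0]),
    ([3, 5], 12, [2, 1, 3, 3, 0, 3, 1, 3, 0, 2, 1, 2, 0, 2, 2, 2, 1, 2, 0, 2, 1, 2, 0, 2, 1, 2, 0,
    2, 1, 4]),
    ([], 10, [2, 1, 3, 3, 0, 3, 1, 3, 0, 2, 1, 2, 0, 2, 2, 2, 1, 2, 0, 2, 1, 2, 0, 2, 1, 2, 0, 2,
    0]),
    ([], 20, [2, 1, 3, 3, 0, 3, 1, 3, 0, 2, 1, 2, 0, 2, 2, 2, 1, 2, 0, 2, 1, 2, 0, 2, 1, 2, 0, 2,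
    4]),
    ([], 21, [2, 1, 3, 3, 0, 3, 1, 3, 0, 2, 1, 2, 0, 2, 2, 2, 1, 2, 0, 2, 1, 2, 0, 2, 1, 2, 0, 2,
    0, 4]),
    ([], 4, [2, 1, 3, 3, 0, 3, 1, 3, 0, 2, 1, 2, 0, 2, 2, 2, 1, 2, 0, 2, 1, 2, 0, 2, 1, 2, 0, 2,
    0, 0]),
    ([], 5, [2, 1, 3, 3, 0, 3, 1, 3, 0, 2, 1, 2, 0, 2, 2, 2, 1, 2, 0, 2, 1, 2, 0, 2, 1, 2, 0, 2,
    0])]),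
  (1, [0, 0],
    [], [
    ([], 5, [0]),
    ([0, 0, 0], 0, []),
    ([], 1, [1]),
    ([], 2, [0]),
    ([], 6, []),
    ([], 12, [1, 4]),
    ([], 5, [2, 1, 3, 3, 0, 3, 1, 3, 0, 2, 1, 2, 0, 2, 2, 2, 1, 2, 0, 2, 1, 2, 0, 2, 1, 2, 0, 2,
    0]),
    ([0, 0, 0], 0, [2, 1, 3, 3, 0, 3, 1, 3, 0, 2, 1, 2, 0, 2, 2, 2, 1, 2, 0, 2, 1, 2, 0, 2, 1, 2,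
    0, 2]),
    ([], 1, [2, 1, 3, 3, 0, 3, 1, 3, 0, 2, 1, 2, 0, 2, 2, 2, 1, 2, 0, 2, 1, 2, 0, 2, 1, 2, 0, 2,
    1]),
    ([], 2, [2, 1, 3, 3, 0, 3, 1, 3, 0, 2, 1, 2, 0, 2, 2, 2, 1, 2, 0, 2, 1, 2, 0, 2, 1, 2, 0, 2,
    0]),
    ([], 6, [2, 1, 3, 3, 0, 3, 1, 3, 0, 2, 1, 2, 0, 2, 2, 2, 1, 2, 0, 2, 1, 2, 0, 2, 1, 2, 0, 2]),
    ([], 12, [2, 1, 3, 3, 0, 3, 1, 3, 0, 2, 1, 2, 0, 2, 2, 2, 1, 2, 0, 2, 1, 2, 0, 2, 1, 2, 0, 2,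
    1, 4])]),
  (1, [0, 4, 2, 4, 3, 3, 1, 4],
    [1, 0, 1, 0, 0, 0, 0, 0, 1, 0, 0, 1, 1, 1, 0, 1, 1, 0, 0, 0, 1, 0, 0, 1, 0, 0], [
    ([1, 1, 0, 1, 0, 1, 1, 1, 1], 9, [3, 3, 1, 2, 0, 3, 3, 1, 2, 0, 3, 3, 1, 2, 2, 0, 2, 2, 1, 2,
    0, 2, 1, 3, 0, 3, 1, 3, 3, 0, 3, 1, 2, 0, 2, 1, 3, 0, 3, 1, 2, 0, 2, 2, 1, 3, 0]),
    ([], 69, [3, 3, 1, 2, 0, 3, 3, 1, 2, 0, 3, 3, 1, 2, 0, 2, 2, 1, 3, 0, 2, 2, 1, 2, 0, 2, 1, 3,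
    0, 3, 3, 1, 3, 0, 2, 2, 1, 3, 0, 2, 2, 1, 3, 0, 2, 2, 1, 3, 0, 0, 4, 2, 4, 3, 3, 1, 4]),
    ([], 70, [3, 3, 1, 2, 0, 3, 3, 1, 2, 0, 3, 3, 3, 1, 3, 0, 2, 1, 2, 0, 2, 2, 2, 1, 3, 0, 2, 2,
    2, 1, 3, 0, 3, 1, 2, 0, 2, 1, 2, 2, 2, 0, 0]),
    ([], 57, [3, 1, 2, 2, 0, 2, 1, 3, 3, 0, 3, 1, 2, 2, 0, 2, 1, 2, 2, 0, 2, 0, 4, 2, 4, 3, 3, 1,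
    4]),
    ([2, 3, 3], 59, [3, 3, 1, 2, 0, 3, 3, 1, 2, 0, 3, 3, 1, 2, 2, 0, 3, 1, 3, 3, 0, 3, 1, 2, 0, 2,
    1, 3, 0, 0, 4, 2, 4, 3, 4]),
    ([], 75, [1, 2, 0, 2, 1, 2, 0, 2, 1, 3, 4, 2, 4, 3, 4]),
    ([1, 0, 3], 93, [3, 3, 1, 2, 0, 3, 3, 1, 2, 0, 3, 3, 1, 2, 0, 2, 2, 1, 2, 0, 3, 3, 1, 3, 0, 2,
    2, 1, 2, 0, 3, 1, 3, 3, 0, 2, 2, 2, 1, 3, 4]),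
    ([], 67, [1, 2, 0, 2, 1, 2, 0, 2, 2, 2, 2, 1, 3, 0, 2, 0, 4, 2, 4, 3]),
    ([], 60, [3, 3, 1, 2, 0, 3, 3, 1, 2, 0, 2, 1, 3, 0, 3, 1, 3, 3, 0, 3, 1, 3, 0, 2, 2, 1, 3, 0,
    2, 1, 2, 0, 2, 2, 1, 3, 0, 4, 2, 2, 4, 3, 4, 2, 2, 4]),
    ([], 83, [3, 3, 1, 2, 0, 3, 3, 1, 2, 0, 3, 3, 1, 2, 0, 2, 1, 2, 0, 2, 2, 1, 2, 0, 2, 1, 3, 0,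
    3, 3, 1, 3, 0, 2, 1, 2, 0, 3, 1, 3, 0, 2, 1, 2, 2, 0, 0, 4, 2, 2, 4, 3, 4, 2, 2]),
    ([0, 0, 2], 26, [3, 3, 1, 2, 0, 3, 3, 1, 2, 0, 3, 3, 1, 3, 0, 3, 1, 3, 0, 2, 1, 2, 0, 2, 1, 3,
    0, 3, 1, 3, 0, 2, 1, 3, 0, 2, 2, 1, 3, 3, 0, 3, 0, 4, 2, 2, 0, 2, 0, 2, 1]),
    ([], 32, [1, 3, 3, 0, 3, 1, 3, 3, 0, 3, 1, 2, 0, 2, 1, 2, 2, 0, 2, 1, 2, 0, 2, 2, 1, 2, 2, 0,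
    2, 1, 2, 2, 0, 0, 4, 2, 2, 4, 3, 4, 2, 2, 4])]),
  (1, [0, 4, 2, 2, 2, 1, 4, 3, 4, 3],
    [1, 0, 1, 0, 0, 0, 0, 0, 1, 1, 1, 0, 1, 0, 1, 0, 0, 0, 0, 1, 0, 0, 0, 1, 0, 1, 1, 0, 1, 1, 1,
    0], [
    ([1, 1, 0, 1, 1, 1, 1], 9, [3, 3, 1, 2, 0, 3, 3, 1, 2, 0, 3, 3, 1, 2, 2, 0, 2, 2, 1, 3, 0, 3,
    1, 2, 0, 3, 3, 1, 2, 0, 3]),
    ([], 69, [2, 2, 1, 3, 0, 3, 1, 2, 2, 0, 2, 1, 3, 0, 3, 3, 1, 3, 3, 0, 2, 1, 2, 0, 2, 2, 1, 3,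
    3, 0, 3, 0, 4, 2, 2, 2, 1, 4, 3, 4, 3]),
    ([], 70, [2, 1, 2, 0, 2, 1, 3, 0, 2, 1, 2, 2, 0, 2, 1, 3, 3, 0, 3, 3, 3, 1, 2, 0, 2, 2, 0]),
    ([], 57, [1, 3, 3, 0, 3, 1, 3, 0, 2, 1, 2, 0, 2, 1, 3, 0, 3, 1, 3, 0, 2, 1, 2, 0, 2, 2, 0, 4,
    2, 2, 2, 1, 4, 3, 4, 3]),
    ([0, 1, 3], 65, [3, 3, 1, 2, 0, 3, 3, 1, 2, 0, 3, 3, 3, 1, 2, 0, 3, 3, 1, 3, 0, 3, 1, 2, 0, 3,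
    3, 1, 2, 0, 2, 1, 2, 0, 2, 2, 2, 1, 3, 3, 0, 0, 4, 2, 0, 4, 2, 4, 2, 1, 4]),
    ([1, 3], 55, [1, 3, 0, 3, 1, 2, 2, 0, 2, 2, 1, 2, 2, 0, 2, 1, 2, 0, 2, 1, 2, 0, 2, 1, 3, 0, 2,
    0, 4, 2, 4, 3, 4, 3, 3, 4, 3]),
    ([5, 5, 0], 46, [3, 3, 1, 2, 0, 3, 3, 1, 2, 0, 3, 3, 3, 1, 3, 3, 0, 2, 1, 2, 2, 2, 0, 3, 3, 1,
    3, 3, 0, 4, 3, 4, 3, 3, 4, 3, 3, 4]),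
    ([3, 2], 66, [1, 3, 0, 2, 2, 2, 1, 3, 0, 3, 1, 3, 3, 0, 3, 1, 3, 0, 2, 2, 1, 3, 3, 0, 2, 1, 2,
    2, 0, 2, 0, 4, 3, 4, 3, 3, 4, 3, 3]),
    ([3, 2], 85, [3, 3, 1, 2, 0, 3, 3, 1, 2, 0, 3, 3, 1, 2, 0, 2, 2, 1, 2, 0, 3, 3, 1, 2, 2, 0, 2,
    2, 1, 3, 0, 2, 1, 3, 3, 0, 2, 2, 4, 2, 2, 0, 2, 0, 4]),
    ([3, 0, 1], 63, [3, 3, 1, 2, 0, 3, 3, 1, 2, 0, 3, 3, 1, 2, 2, 0, 2, 1, 2, 0, 3, 1, 3, 3, 0, 2,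
    2, 1, 2, 0, 2, 1, 3, 0, 3, 3, 3, 1, 2, 0, 3, 1, 3, 0, 2, 0, 4, 2, 2, 0, 2, 4]),
    ([], 34, [1, 2, 0, 3, 1, 3, 3, 0, 3, 1, 2, 0, 2, 1, 3, 0, 2, 2, 1, 3, 3, 0, 2, 2, 1, 3, 0, 3,
    3, 0, 4, 2, 2, 1, 2]),
    ([0, 0, 0, 1], 27, [1, 3, 3, 0, 3, 1, 3, 3, 0, 2, 2, 1, 2, 0, 3, 3, 1, 2, 0, 2, 1, 3, 3, 0, 4,
    2, 4, 2, 4, 2, 4, 2, 2, 2])]),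
  (1, [4, 2, 2, 4, 3, 4, 3, 3, 0, 2],
    [1, 0, 1, 0, 1, 0, 0, 1, 1, 1, 1, 0, 0, 0, 1, 1, 0, 0, 1, 0, 0, 0, 1, 1, 0, 1, 1, 0, 0, 0, 1,
    0, 1, 0, 0, 1, 1, 1], [
    ([0, 1, 0, 0, 0, 0], 9, [3, 3, 1, 2, 0, 3, 3, 1, 2, 0, 3, 3, 1, 2, 0, 3, 1, 2, 2, 2, 0, 2, 1,
    3, 3, 0, 3, 3, 1, 2, 0, 3, 1, 2, 0, 3, 3, 1, 2, 0]),
    ([], 69, [2, 1, 3, 0, 2, 1, 2, 0, 2, 1, 3, 0, 3, 1, 2, 0, 3, 1, 3, 0, 2, 2, 2, 2, 2, 1, 2, 2,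
    2, 0, 2, 4, 2, 2, 4, 3, 4, 3, 3, 0, 2]),
    ([], 70, [1, 2, 0, 2, 1, 3, 0, 3, 3, 1, 2, 0, 3, 1, 3, 0, 3, 3, 3, 1, 2, 2, 0, 2, 2, 1, 3, 0,
    0]),
    ([], 57, [1, 2, 2, 0, 3, 3, 1, 2, 0, 3, 1, 3, 0, 2, 1, 2, 2, 0, 2, 1, 3, 0, 2, 2, 1, 3, 0, 2,
    1, 2, 0, 4, 2, 2, 4, 3, 4, 3, 3, 0, 2]),
    ([0, 2], 59, [1, 3, 0, 2, 1, 2, 0, 2, 1, 2, 2, 0, 3, 1, 3, 0, 2, 1, 2, 2, 2, 2, 2, 0, 2, 1, 2,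
    0, 3, 0, 4, 3, 4, 2, 4]),
    ([], 75, [3, 3, 1, 2, 0, 3, 3, 1, 2, 0, 3, 3, 1, 3, 0, 2, 1, 2, 0, 2, 2, 1, 3, 0, 3, 3, 1, 3,
    0, 2, 1, 2, 2, 0, 3, 3, 1, 3, 3, 0, 3, 1, 4, 3, 4, 2, 4]),
    ([1, 0, 3], 93, [3, 3, 1, 2, 0, 3, 3, 1, 2, 0, 3, 3, 1, 2, 2, 0, 2, 1, 2, 0, 3, 1, 3, 3, 0, 2,
    2, 1, 2, 0, 2, 1, 3, 0, 3, 1, 3, 0, 3, 1, 2, 0, 3, 3, 1, 2, 0, 2, 1, 4]),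
    ([], 67, [3, 3, 1, 2, 0, 3, 3, 1, 2, 0, 3, 3, 1, 2, 0, 3, 3, 1, 3, 3, 0, 2, 2, 1, 2, 0, 2, 1,
    3, 0, 3, 3, 1, 2, 0, 2, 1, 3, 3, 0, 0, 4, 2, 1, 2, 4]),
    ([], 60, [1, 3, 0, 3, 3, 1, 2, 2, 0, 2, 1, 2, 2, 0, 3, 1, 2, 0, 2, 2, 1, 3, 0, 0, 4, 2, 2, 2,
    1, 3, 4, 3, 3]),
    ([], 83, [3, 3, 1, 2, 0, 3, 3, 1, 2, 0, 3, 3, 1, 3, 0, 3, 1, 3, 0, 2, 1, 2, 0, 2, 1, 3, 0, 3,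
    1, 3, 0, 2, 2, 1, 3, 0, 3, 3, 4, 2, 2, 2, 0, 3, 4, 3, 3, 4]),
    ([0, 0, 2], 26, [1, 2, 0, 2, 1, 3, 3, 0, 3, 1, 2, 0, 2, 1, 3, 0, 3, 3, 1, 3, 0, 2, 1, 3, 0, 3,
    1, 2, 0, 2, 1, 3, 0, 0, 4, 2, 2, 2, 0]),
    ([], 32, [3, 3, 1, 2, 0, 3, 3, 1, 2, 0, 3, 3, 1, 2, 0, 2, 2, 1, 3, 3, 0, 3, 1, 3, 0, 2, 1, 2,
    2, 0, 2, 2, 1, 3, 0, 3, 3, 1, 3, 0, 3, 1, 2, 0, 2, 1, 3, 0, 4, 2, 2, 2, 0, 3, 4, 3, 3])])]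

/-- Traces for generators 1, 2. -/
def tr12 : List (ℕ × List ℕ × List ℕ × List (List ℕ × ℕ × List ℕ)) := [
  (0, [],
    [0, 2], [
    ([0, 0], 0, []),
    ([], 3, [0, 0, 4]),
    ([], 7, []),
    ([3], 20, [4]),
    ([], 18, [0]),
    ([], 13, [0, 0]),
    ([], 21, [0, 4]),
    ([], 4, [0, 0]),
    ([], 5, [0])]),
  (1, [0, 0],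
    [], [
    ([], 1, [1]),
    ([], 10, [0]),
    ([], 20, [4]),
    ([], 19, [4]),
    ([], 1, [1]),
    ([], 2, [0]),
    ([], 10, [0]),
    ([3], 19, [4]),
    ([], 3, [0, 0, 4])]),
  (1, [0, 4, 2, 4, 3, 3, 1, 4],
    [1, 0, 1, 0, 0, 1, 1, 1, 1, 0, 0, 0, 1, 1, 1, 0, 0, 0, 0, 1, 1, 0, 0, 0, 1, 0, 1, 0, 0, 1, 1,
    0, 1, 1, 1, 0, 0, 1, 0, 1, 0, 0, 0, 0, 1, 0, 0, 0, 1, 0, 0, 1, 0, 0], [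
    ([0, 0, 0, 1, 1, 1, 0, 1, 1, 1, 0], 9, [3, 3, 1, 2, 0, 3, 3, 1, 2, 0, 3, 3, 1, 2, 0, 3, 1, 3,
    3, 0, 3, 3, 1, 2, 0, 3, 1, 2, 2, 0, 2]),
    ([1, 0, 2, 1], 56, [3, 3, 1, 2, 0, 3, 3, 1, 2, 0, 3, 3, 1, 2, 0, 2, 1, 3, 3, 0, 2, 2, 2, 1, 2,
    2, 0, 2, 1, 2, 2, 0, 2, 1, 2, 0, 4, 3, 0, 4, 3, 0]),
    ([1, 0, 2, 0, 1, 3], 30, [3, 3, 1, 2, 0, 3, 3, 1, 2, 0, 3, 3, 1, 2, 0, 3, 1, 2, 0, 2, 2, 1, 2,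
    2, 2, 0, 3, 3, 1, 3, 0, 2, 2, 1, 3, 0, 3, 3, 1, 2, 2, 0, 4, 2, 1, 2, 4]),
    ([2, 0, 1, 2], 66, [2, 1, 3, 3, 0, 2, 2, 1, 2, 0, 3, 1, 3, 0, 2, 1, 2, 0, 2, 2, 1, 3, 0, 3, 1,
    2, 0, 2, 2, 4, 2, 4, 3, 3, 1, 4]),
    ([3, 2], 75, [3, 3, 1, 2, 0, 3, 3, 1, 2, 0, 3, 3, 1, 2, 2, 0, 2, 2, 1, 2, 0, 2, 1, 3, 0, 3, 1,
    3, 3, 0, 3, 1, 2, 0, 2, 2, 1, 2, 2, 2, 0, 2, 1, 3, 0, 0, 4, 2, 0, 2]),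
    ([1, 0], 82, [2, 2, 1, 2, 0, 2, 1, 3, 0, 3, 1, 3, 0, 2, 2, 1, 3, 0, 2, 2, 2, 1, 2, 0, 3, 1, 3,
    3, 0, 4, 2, 4, 3, 4, 3, 0]),
    ([0, 1, 3, 2], 63, [2, 2, 1, 2, 0, 3, 1, 3, 0, 3, 3, 1, 2, 2, 0, 2, 2, 2, 2, 1, 2, 2, 0, 2, 1,
    2, 0, 3, 0, 4, 3, 0, 4]),
    ([], 34, [3, 3, 1, 2, 0, 3, 3, 1, 2, 0, 3, 3, 3, 3, 1, 3, 3, 0, 3, 1, 3, 3, 0, 2, 1, 2, 0, 2,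
    2, 2, 1, 2, 2, 2, 0, 2, 1, 3, 3, 0, 0, 4, 3, 1]),
    ([0, 0, 0, 1], 27, [3, 3, 1, 2, 0, 3, 3, 1, 2, 0, 3, 3, 1, 2, 0, 2, 2, 1, 2, 0, 3, 1, 3, 0, 2,
    1, 2, 2, 0, 2, 1, 3, 0, 3, 1, 3, 0, 2, 1, 2, 0, 2, 1, 3, 3, 0, 3, 0, 4, 2, 4, 3, 3, 1])]),
  (1, [0, 4, 2, 2, 2, 1, 4, 3, 4, 3],
    [1, 0, 1, 0, 1, 0, 0, 0, 1, 1, 1, 1, 1, 0, 1, 0, 0, 1, 1, 1, 1, 1, 1, 1, 0, 1, 0], [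
    ([0, 0, 0, 1, 0], 9, [3, 3, 1, 2, 0, 3, 3, 1, 2, 0, 3, 3, 1, 2, 0, 2, 2, 1, 2, 0, 2, 1, 2, 2,
    0, 2, 2, 1, 3, 0, 2, 2, 1, 2, 2, 2, 0, 3]),
    ([0, 3, 3], 55, [3, 3, 1, 2, 0, 3, 3, 1, 2, 0, 3, 3, 1, 2, 0, 2, 1, 3, 0, 2, 1, 2, 0, 2, 1, 3,
    3, 0, 3, 3, 1, 3, 3, 3, 3, 0, 2, 1, 2, 2, 0, 2, 4, 2, 0, 4, 2, 4, 2, 0, 4]),
    ([2, 4, 5, 2], 45, [2, 2, 2, 1, 3, 0, 2, 1, 2, 0, 2, 1, 2, 0, 3, 1, 3, 0, 2, 2, 2, 2, 1, 3, 0,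
    2, 2, 2, 1, 2, 0, 4, 3, 0, 4, 3, 3, 1, 3]),
    ([1, 2], 93, [1, 3, 3, 0, 2, 1, 2, 2, 0, 3, 1, 3, 3, 0, 2, 2, 1, 3, 0, 3, 3, 1, 2, 0, 2, 2, 4,
    2, 1, 4, 2, 4, 2]),
    ([1, 0, 2, 3], 55, [1, 3, 0, 2, 1, 2, 0, 2, 2, 1, 2, 0, 2, 2, 1, 3, 3, 0, 3, 1, 2, 2, 0, 3, 1,
    3, 3, 0, 0, 4, 3, 1, 4, 3, 4, 3, 4, 3]),
    ([2, 4, 5, 2], 45, [3, 3, 1, 2, 0, 3, 3, 1, 2, 0, 3, 3, 1, 2, 0, 2, 2, 2, 1, 3, 0, 2, 1, 2, 0,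
    2, 2, 1, 3, 3, 0, 3, 3, 1, 2, 0, 2, 1, 2, 2, 0, 3, 3, 4, 2, 0, 4, 2, 2, 0, 2]),
    ([3, 0], 83, [1, 3, 0, 3, 3, 1, 2, 2, 0, 2, 1, 2, 2, 2, 2, 2, 0, 2, 0, 4, 2, 2, 2, 1, 4, 3, 4,
    3]),
    ([0, 0, 2], 26, [2, 2, 2, 1, 2, 0, 3, 3, 1, 3, 3, 0, 2, 1, 3, 3, 0, 2, 0, 4, 2, 1, 4, 2, 4,
    2]),
    ([], 32, [3, 3, 1, 2, 0, 3, 3, 1, 2, 0, 3, 3, 1, 2, 0, 2, 1, 2, 0, 2, 1, 3, 0, 2, 2, 1, 2, 2,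
    2, 0, 2, 1, 2, 0, 3, 3, 1, 3, 0, 3, 4, 3, 1, 4, 3, 4, 3, 4, 3])]),
  (1, [4, 2, 2, 4, 3, 4, 3, 3, 0, 2],
    [1, 0, 0, 0, 1, 1, 1, 1, 1, 0, 1, 1, 0, 1, 0, 1, 1, 1, 0, 1, 0, 0, 1, 1, 1], [
    ([1, 1, 0, 0, 1, 0, 0, 0], 9, [3, 1, 2, 2, 2, 0, 3, 1, 3, 0, 2, 1, 2, 0, 2, 1, 2, 2, 2, 0, 2,
    1, 3, 0, 3, 1, 2, 0, 2, 1, 2, 0]),
    ([1, 2, 0, 2], 56, [3, 3, 1, 2, 0, 3, 3, 1, 2, 0, 3, 3, 1, 2, 2, 0, 2, 1, 3, 0, 2, 2, 2, 1, 3,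
    0, 2, 2, 1, 3, 0, 2, 1, 2, 0, 2, 1, 3, 3, 0, 0, 4, 2, 2, 2, 1, 4]),
    ([1, 0, 2, 0, 1, 3], 30, [1, 2, 0, 2, 2, 1, 2, 0, 2, 2, 1, 3, 0, 3, 3, 1, 2, 0, 2, 2, 1, 2, 0,
    2, 2, 4, 2, 1, 2, 4]),
    ([2, 0, 1, 2], 66, [3, 3, 1, 2, 0, 3, 3, 1, 2, 0, 3, 3, 1, 2, 0, 2, 2, 2, 1, 3, 0, 2, 1, 2, 0,
    2, 1, 2, 0, 3, 1, 3, 0, 2, 2, 1, 2, 2, 0, 2, 2, 1, 2, 0, 4, 2, 2, 2, 1, 3, 4, 3, 3, 4]),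
    ([3, 2], 75, [3, 3, 1, 2, 0, 3, 3, 1, 2, 0, 3, 3, 1, 2, 0, 3, 1, 3, 0, 2, 2, 1, 2, 0, 2, 2, 1,
    3, 3, 0, 3, 1, 2, 0, 2, 2, 2, 1, 2, 2, 0, 2, 1, 3, 3, 0, 0, 4, 2, 0, 2]),
    ([1, 0], 82, [1, 3, 0, 3, 1, 3, 0, 2, 1, 2, 0, 2, 2, 2, 1, 3, 0, 2, 1, 2, 2, 0, 2, 2, 0, 4, 2,
    2, 2, 0]),
    ([0, 1, 3, 2], 63, [1, 2, 0, 2, 1, 2, 0, 2, 1, 3, 0, 3, 3, 1, 3, 3, 0, 2, 1, 2, 0, 2, 2, 2, 1,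
    2, 0, 2, 2, 4, 2, 2, 2, 0, 2, 1, 3, 4]),
    ([], 34, [3, 3, 1, 2, 0, 3, 3, 1, 2, 0, 3, 3, 1, 2, 2, 2, 0, 3, 3, 1, 3, 0, 3, 3, 1, 3, 0, 3,
    1, 2, 0, 2, 1, 3, 0, 2, 1, 2, 0, 2, 2, 1, 3, 0, 4, 2, 2, 2, 0, 2, 0, 3]),
    ([0, 0, 0, 1], 27, [2, 2, 1, 2, 0, 2, 1, 3, 0, 2, 2, 1, 2, 0, 3, 1, 3, 3, 3, 0, 3, 0, 4, 2, 2,
    2, 1, 3, 4, 3, 3])])]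

/-- Traces for generators 2, 2. -/
def tr22 : List (ℕ × List ℕ × List ℕ × List (List ℕ × ℕ × List ℕ)) := [
  (0, [],
    [0, 2], [
    ([], 0, []),
    ([], 3, [0, 0, 4]),
    ([], 7, []),
    ([], 21, [0, 4]),
    ([], 4, [0, 0]),
    ([], 5, [0])]),
  (1, [0, 0],
    [], [
    ([], 5, [0]),
    ([0, 2], 0, []),
    ([], 1, [1]),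
    ([], 10, [0]),
    ([3], 19, [4]),
    ([], 3, [0, 0, 4])]),
  (1, [0, 4, 2, 4, 3, 3, 1, 4],
    [1, 0, 1, 1, 0, 0, 1, 0, 1, 0, 1, 1, 0, 0, 1, 0, 1, 0, 0, 0, 1, 0, 1, 0, 0, 1, 1, 0, 1, 1, 1,
    0, 0, 1, 0, 1, 0, 0, 0, 0, 1, 0, 0, 0, 1, 0, 0, 1, 0, 0], [
    ([1, 1, 0, 1, 0, 1, 1, 1, 1], 9, [3, 3, 1, 2, 0, 3, 3, 1, 2, 0, 3, 3, 1, 2, 2, 0, 2, 2, 1, 2,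
    0, 2, 1, 3, 0, 3, 1, 3, 3, 0, 3, 1, 2, 0, 2, 1, 3, 0, 3, 1, 2, 0, 2, 2, 1, 3, 0]),
    ([2, 0, 2], 56, [2, 2, 1, 3, 0, 3, 1, 3, 3, 0, 3, 1, 2, 0, 2, 1, 2, 0, 3, 3, 1, 2, 0, 2, 2, 1,
    3, 0, 2, 2, 1, 3, 0, 3, 1, 3, 0, 0, 4, 3, 1, 4]),
    ([1, 0, 2, 0, 1, 3], 30, [3, 3, 1, 2, 0, 3, 3, 1, 2, 0, 3, 3, 1, 2, 2, 0, 2, 2, 1, 2, 2, 0, 2,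
    2, 1, 3, 0, 3, 3, 1, 3, 0, 2, 2, 2, 1, 3, 0, 3, 4, 2, 4, 3]),
    ([], 63, [3, 3, 1, 2, 0, 3, 3, 1, 2, 0, 3, 3, 1, 2, 0, 3, 1, 3, 0, 2, 1, 2, 0, 2, 2, 1, 3, 0,
    3, 3, 1, 2, 0, 2, 2, 2, 1, 3, 0, 2, 2, 1, 3, 3, 0, 0, 4, 3, 0, 4]),
    ([], 34, [2, 2, 1, 2, 0, 2, 1, 3, 0, 2, 2, 1, 2, 0, 3, 1, 3, 0, 2, 2, 2, 1, 2, 2, 2, 0, 2, 1,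
    3, 3, 0, 0, 4, 3, 1]),
    ([0, 0, 0, 1], 27, [3, 3, 1, 2, 0, 3, 3, 1, 2, 0, 3, 3, 1, 2, 0, 2, 1, 2, 2, 2, 0, 2, 1, 3, 3,
    0, 2, 1, 2, 0, 2, 2, 1, 2, 0, 2, 1, 3, 3, 0, 0, 4, 2, 4, 3, 3, 1])]),
  (1, [0, 4, 2, 2, 2, 1, 4, 3, 4, 3],
    [0, 1, 1, 1, 1, 0, 0, 0, 1, 1, 1, 0, 0, 0, 0, 1, 1, 0, 0, 0, 1, 0, 1, 0, 0, 1, 1, 0, 1, 1, 0,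
    1, 0, 1, 0, 1, 0], [
    ([1, 1, 0, 1, 1, 1, 1], 9, [3, 3, 1, 2, 0, 3, 3, 1, 2, 0, 3, 3, 1, 2, 2, 0, 2, 2, 1, 3, 0, 3,
    1, 2, 0, 3, 3, 1, 2, 0, 3]),
    ([], 55, [2, 1, 3, 0, 2, 1, 2, 0, 2, 1, 3, 3, 0, 3, 3, 1, 3, 3, 0, 2, 1, 3, 0, 2, 2, 2, 1, 3,
    0, 0, 4, 2, 1, 4, 2, 4, 2, 4]),
    ([2, 4, 5, 2], 45, [2, 2, 1, 2, 0, 3, 3, 1, 3, 0, 2, 2, 1, 2, 0, 3, 1, 3, 0, 2, 2, 2, 1, 3, 3,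
    0, 2, 2, 4, 2, 0, 4, 2, 2, 1, 2]),
    ([3], 83, [3, 3, 1, 2, 0, 3, 3, 1, 2, 0, 3, 3, 1, 2, 2, 0, 2, 1, 2, 0, 2, 2, 1, 2, 0, 2, 2, 1,
    2, 2, 0, 3, 3, 0, 4, 2, 2, 2, 1, 4, 3, 4, 3]),
    ([0, 0, 2], 26, [3, 3, 1, 2, 0, 3, 3, 1, 2, 0, 3, 3, 3, 1, 2, 0, 3, 3, 1, 3, 0, 3, 1, 2, 0, 3,
    3, 1, 2, 0, 2, 1, 2, 2, 0, 2, 1, 2, 2, 0, 3, 0, 4, 2, 1, 4, 2, 4, 2]),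
    ([], 32, [3, 3, 1, 2, 0, 3, 3, 1, 2, 0, 3, 3, 1, 2, 2, 0, 2, 1, 3, 3, 0, 3, 3, 1, 2, 0, 3, 1,
    3, 0, 3, 1, 2, 0, 2, 1, 3, 0, 2, 4, 3, 1, 4, 3, 4, 3, 4, 3])]),
  (1, [4, 2, 2, 4, 3, 4, 3, 3, 0, 2],
    [1, 0, 1, 1, 0, 0, 1, 0, 1, 0, 1, 1, 0, 0, 1, 0, 0, 0, 0, 0, 1, 1, 1, 0, 1, 0, 1, 0, 0, 0, 1,
    0, 1, 1, 1, 0, 0, 0, 1, 0], [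
    ([0, 1, 0, 0, 0, 0], 9, [3, 3, 1, 2, 0, 3, 3, 1, 2, 0, 3, 3, 1, 2, 0, 3, 1, 2, 2, 2, 0, 2, 1,
    3, 3, 0, 3, 3, 1, 2, 0, 3, 1, 2, 0, 3, 3, 1, 2, 0]),
    ([1, 2, 2, 2], 56, [2, 2, 1, 2, 0, 2, 2, 2, 1, 3, 0, 3, 3, 1, 2, 2, 0, 3, 1, 3, 0, 3, 4, 2, 2,
    2, 0, 2, 0, 3, 4]),
    ([1, 0, 2, 0, 1, 3], 30, [3, 1, 2, 2, 2, 0, 2, 1, 3, 3, 0, 3, 3, 1, 2, 0, 3, 1, 2, 2, 0, 2, 1,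
    2, 0, 4, 3, 4, 2]),
    ([], 63, [3, 3, 1, 2, 0, 3, 3, 1, 2, 0, 3, 3, 1, 2, 0, 2, 2, 1, 2, 0, 3, 1, 3, 0, 3, 3, 1, 2,
    2, 0, 2, 2, 2, 2, 1, 3, 0, 3, 3, 4, 2, 2, 2, 0, 2, 1, 3, 4]),
    ([], 34, [3, 3, 1, 2, 0, 3, 3, 1, 2, 0, 3, 3, 1, 2, 0, 2, 2, 1, 3, 0, 2, 2, 1, 2, 0, 2, 1, 3,
    0, 2, 1, 2, 0, 3, 1, 3, 0, 2, 1, 3, 0, 2, 1, 2, 0, 2, 2, 1, 3, 0, 4, 2, 2, 2, 0, 2, 0, 3]),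
    ([0, 0, 0, 1], 27, [3, 3, 1, 2, 0, 3, 3, 1, 2, 0, 3, 3, 1, 2, 2, 0, 2, 1, 3, 3, 0, 3, 3, 1, 2,
    0, 3, 1, 3, 0, 2, 1, 2, 2, 0, 2, 1, 2, 0, 0, 4, 2, 2, 2, 1, 3, 4, 3, 3])])]

/-- Traces for generators 2, 3. -/
def tr23 : List (ℕ × List ℕ × List ℕ × List (List ℕ × ℕ × List ℕ)) := [
  (0, [],
    [0, 0, 0, 1, 1, 1, 1, 1, 1, 1, 1, 1, 1, 0, 1, 1, 1, 1, 1, 0, 0, 0, 1, 1, 0, 1, 0, 0, 0, 1, 0,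
    1, 0, 0, 0, 1, 1, 1, 1, 1, 0, 1, 1, 0, 0, 0, 1, 1, 1, 1, 1, 0, 2, 1, 0, 1, 2], [
    ([], 0, []),
    ([], 3, [0, 0, 4]),
    ([], 7, []),
    ([2], 26, [1, 2, 2, 0, 3, 1, 3, 3, 0, 3, 3, 1, 3, 0, 2, 2, 1, 2, 0, 2, 1, 3, 3, 0, 2, 2, 1, 2,
    2, 2, 0, 0, 4, 2, 2, 0, 3]),
    ([], 37, [3, 3, 1, 2, 0, 3, 3, 1, 2, 0, 3, 3, 1, 3, 0, 2, 1, 2, 0, 2, 2, 1, 3, 0, 3, 3, 1, 3,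
    0, 2, 1, 3, 0, 2, 2, 1, 3, 3, 0, 3, 0]),
    ([5], 34, [3, 1, 3, 3, 0, 3, 3, 1, 2, 0, 3, 1, 3, 0, 2, 1, 3, 3, 0, 3, 0, 4, 2, 2, 1, 3]),
    ([], 21, [3, 3, 1, 2, 0, 3, 3, 1, 2, 0, 3, 3, 1, 2, 2, 0, 2, 2, 1, 3, 0, 3, 1, 2, 0, 3, 3, 1,
    2, 0, 3, 1, 2, 0, 2, 1, 3, 0, 2, 0, 4]),
    ([], 4, [1, 2, 0, 2, 1, 2, 2, 0, 3, 3, 1, 3, 0, 2, 1, 2, 0, 2, 1, 2, 0, 3, 3, 1, 2, 2, 0, 2,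
    2, 2, 1, 3, 0, 0, 0]),
    ([], 5, [3, 3, 1, 2, 0, 3, 3, 1, 2, 0, 3, 3, 1, 2, 2, 0, 2, 2, 1, 3, 0, 3, 1, 2, 0, 3, 3, 1,
    2, 0, 3, 1, 2, 0, 2, 1, 3, 0, 2, 0])]),
  (1, [0, 0],
    [0, 1, 1, 1, 1, 0, 1, 0, 1, 1, 0, 1, 0, 1, 1, 1, 1, 0, 0, 1], [
    ([], 5, [0]),
    ([0, 2], 0, []),
    ([], 1, [1]),
    ([1, 0], 11, [1, 3, 0, 2, 2, 2, 1, 2, 0, 2, 2, 1, 2, 2, 0, 2, 2, 1, 2, 2, 0, 2, 1, 3, 0, 4, 2,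
    2, 1, 3, 4]),
    ([1, 0], 24, [3, 3, 1, 2, 0, 3, 3, 1, 2, 0, 3, 3, 1, 2, 0, 2, 1, 3, 0, 2, 2, 1, 3, 0, 2, 2, 1,
    3, 0, 3, 3, 1, 3, 0, 0, 4, 2, 2, 0, 3, 4]),
    ([], 26, [1, 3, 0, 3, 3, 1, 3, 3, 0, 3, 1, 3, 3, 0, 2, 4]),
    ([], 34, [3, 3, 1, 2, 0, 3, 3, 1, 2, 0, 3, 3, 1, 2, 0, 3, 1, 2, 0, 3, 3, 1, 2, 0, 2, 2, 1, 3,
    0, 3, 3, 1, 2, 0, 2, 1, 2, 0, 0, 4, 2, 2, 1, 3]),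
    ([1], 26, [1, 3, 3, 0, 3, 3, 1, 3, 0, 2, 2, 2, 1, 3, 0, 2, 1, 2, 0, 3, 0, 4, 2, 2, 0, 3]),
    ([], 32, [3, 1, 3, 0, 2, 2, 1, 2, 0, 2, 2, 1, 3, 3, 0, 3, 1, 2, 0, 2, 1, 2, 0, 2, 2, 2, 1, 2,
    0, 0, 4, 2, 2, 1, 3, 4])]),
  (1, [0, 4, 2, 4, 3, 3, 1, 4],
    [1, 0, 1, 0, 1, 0, 1, 1, 0, 0, 1, 0, 1, 0, 1, 1, 0, 0, 1, 0, 1, 0, 0, 1, 1, 0, 1, 0, 1, 0, 0,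
    1, 0, 1, 1, 1, 0, 1, 1, 0, 1, 1, 0, 0, 1, 1, 0, 1], [
    ([1, 1, 0, 1, 0, 1, 1, 1, 1], 9, [3, 3, 1, 2, 0, 3, 3, 1, 2, 0, 3, 3, 1, 2, 2, 0, 2, 2, 1, 2,
    0, 2, 1, 3, 0, 3, 1, 3, 3, 0, 3, 1, 2, 0, 2, 1, 3, 0, 3, 1, 2, 0, 2, 2, 1, 3, 0]),
    ([2, 0, 2], 56, [2, 2, 1, 3, 0, 3, 1, 3, 3, 0, 3, 1, 2, 0, 2, 1, 2, 0, 3, 3, 1, 2, 0, 2, 2, 1,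
    3, 0, 2, 2, 1, 3, 0, 3, 1, 3, 0, 0, 4, 3, 1, 4]),
    ([1, 0, 2, 0, 1, 3], 30, [3, 3, 1, 2, 0, 3, 3, 1, 2, 0, 3, 3, 1, 2, 2, 0, 2, 2, 1, 2, 2, 0, 2,
    2, 1, 3, 0, 3, 3, 1, 3, 0, 2, 2, 2, 1, 3, 0, 3, 4, 2, 4, 3]),
    ([1, 3, 2, 2], 68, [3, 3, 1, 2, 0, 3, 3, 1, 2, 0, 3, 3, 1, 2, 2, 0, 2, 2, 1, 3, 0, 3, 1, 2, 0,
    3, 3, 1, 2, 0, 2, 2, 1, 2, 2, 0, 2, 1, 2, 0, 4, 2, 2, 0, 2, 0, 3, 0, 2, 4]),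
    ([2, 2, 1], 50, [1, 2, 0, 2, 1, 3, 0, 3, 3, 1, 2, 0, 3, 1, 3, 0, 3, 3, 1, 2, 0, 3, 1, 3, 0, 2,
    1, 2, 0, 2, 4, 2, 2, 2, 0, 3, 1, 2, 4]),
    ([0, 1, 2], 90, [2, 2, 1, 2, 0, 3, 1, 3, 0, 2, 1, 2, 2, 0, 2, 1, 2, 0, 2, 1, 3, 0, 2, 2, 2, 4,
    2, 4, 3]),
    ([1, 3, 2], 67, [3, 3, 1, 2, 0, 3, 3, 1, 2, 0, 3, 3, 1, 2, 0, 2, 2, 1, 2, 0, 3, 1, 3, 0, 2, 1,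
    2, 2, 0, 2, 1, 3, 0, 3, 1, 3, 0, 2, 1, 2, 0, 2, 1, 3, 3, 0, 2, 1, 2, 0, 4, 2, 2, 2, 1, 2, 4,
    2, 2]),
    ([3], 57, [3, 3, 1, 2, 0, 3, 3, 1, 2, 0, 3, 3, 1, 3, 0, 3, 1, 3, 3, 0, 3, 1, 2, 0, 2, 1, 2, 2,
    0, 2, 1, 2, 0, 2, 2, 1, 2, 0, 3, 1, 3, 0, 4, 2, 2, 2, 1, 2, 4, 2, 2, 4]),
    ([], 58, [3, 3, 1, 2, 0, 3, 3, 1, 2, 0, 3, 3, 1, 2, 0, 3, 1, 2, 0, 3, 3, 1, 3, 0, 2, 1, 2, 0,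
    2, 1, 2, 0, 3, 1, 3, 3, 0, 2, 2, 4, 2, 2, 2, 1, 2, 4, 2, 2, 4])]),
  (1, [0, 4, 2, 2, 2, 1, 4, 3, 4, 3],
    [1, 0, 1, 0, 0, 0, 1, 0, 1, 0, 1, 1, 0, 0, 1, 0, 1, 0, 1, 1, 0, 0, 0, 0, 1, 1, 1, 0, 1, 0, 1,
    0, 0, 0, 1, 0, 0, 0, 1, 1, 1, 0, 1, 0, 0, 0, 1, 0, 0, 1, 1], [
    ([1, 1, 0, 1, 1, 1, 1], 9, [3, 3, 1, 2, 0, 3, 3, 1, 2, 0, 3, 3, 1, 2, 2, 0, 2, 2, 1, 3, 0, 3,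
    1, 2, 0, 3, 3, 1, 2, 0, 3]),
    ([], 55, [2, 1, 3, 0, 2, 1, 2, 0, 2, 1, 3, 3, 0, 3, 3, 1, 3, 3, 0, 2, 1, 3, 0, 2, 2, 2, 1, 3,
    0, 0, 4, 2, 1, 4, 2, 4, 2, 4]),
    ([2, 4, 5, 2], 45, [2, 2, 1, 2, 0, 3, 3, 1, 3, 0, 2, 2, 1, 2, 0, 3, 1, 3, 0, 2, 2, 2, 1, 3, 3,
    0, 2, 2, 4, 2, 0, 4, 2, 2, 1, 2]),
    ([0], 84, [3, 1, 2, 2, 0, 2, 1, 3, 0, 2, 2, 1, 2, 2, 0, 3, 3, 1, 3, 0, 2, 2, 1, 3, 0, 2, 1, 2,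
    2, 0, 3, 0, 0, 4, 2, 4, 3, 3, 4, 3]),
    ([1, 2], 97, [2, 2, 2, 1, 2, 0, 3, 3, 1, 3, 3, 0, 2, 2, 2, 1, 2, 0, 2, 1, 3, 0, 3, 1, 2, 0, 2,
    2, 2, 0, 0, 4, 3, 4, 2, 2]),
    ([0, 3, 2, 0, 2], 50, [3, 3, 1, 2, 0, 3, 3, 1, 2, 0, 3, 3, 1, 2, 0, 2, 1, 2, 0, 2, 2, 1, 2, 0,
    2, 1, 3, 0, 3, 3, 1, 3, 0, 2, 2, 1, 2, 0, 2, 2, 1, 3, 0, 3, 4, 2, 0, 4, 2, 2, 1, 2]),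
    ([0, 3, 3], 85, [1, 2, 0, 2, 2, 1, 2, 0, 2, 2, 1, 3, 0, 3, 3, 1, 2, 0, 2, 2, 2, 2, 1, 2, 2, 2,
    0, 2, 1, 3, 0, 0, 4, 2, 2, 2, 1, 2, 4, 2]),
    ([3], 57, [1, 2, 0, 3, 3, 1, 2, 0, 2, 2, 2, 1, 2, 2, 0, 3, 1, 2, 0, 2, 1, 2, 0, 4, 2, 0, 4, 2,
    2, 4, 2]),
    ([], 58, [3, 3, 1, 2, 0, 3, 3, 1, 2, 0, 3, 1, 2, 2, 0, 2, 1, 2, 0, 3, 1, 3, 0, 3, 3, 1, 3, 3,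
    0, 3, 1, 3, 0, 2, 4, 2, 0, 4, 2, 2, 4, 2])]),
  (1, [4, 2, 2, 4, 3, 4, 3, 3, 0, 2],
    [1, 0, 1, 0, 0, 0, 1, 0, 1, 0, 1, 1, 0, 0, 1, 0, 1, 0, 1, 1, 0, 0, 1, 0, 0, 1, 1, 0, 1, 0, 0,
    1, 1, 0, 1, 0], [
    ([0, 1, 0, 0, 0, 0], 9, [3, 3, 1, 2, 0, 3, 3, 1, 2, 0, 3, 3, 1, 2, 0, 3, 1, 2, 2, 2, 0, 2, 1,
    3, 3, 0, 3, 3, 1, 2, 0, 3, 1, 2, 0, 3, 3, 1, 2, 0]),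
    ([1, 2, 2, 2], 56, [2, 2, 1, 2, 0, 2, 2, 2, 1, 3, 0, 3, 3, 1, 2, 2, 0, 3, 1, 3, 0, 3, 4, 2, 2,
    2, 0, 2, 0, 3, 4]),
    ([1, 0, 2, 0, 1, 3], 30, [3, 1, 2, 2, 2, 0, 2, 1, 3, 3, 0, 3, 3, 1, 2, 0, 3, 1, 2, 2, 0, 2, 1,
    2, 0, 4, 3, 4, 2]),
    ([2, 3, 3, 3], 68, [2, 2, 1, 2, 0, 3, 1, 3, 0, 2, 1, 2, 2, 0, 2, 1, 3, 0, 3, 1, 3, 0, 2, 1, 3,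
    0, 2, 2, 1, 2, 0, 2, 4, 2, 2, 2, 0, 2, 0, 3, 0, 4]),
    ([2, 2, 1], 50, [3, 3, 1, 2, 0, 3, 3, 1, 2, 0, 3, 3, 1, 2, 0, 3, 1, 2, 0, 2, 1, 3, 0, 3, 1, 3,
    3, 0, 2, 2, 2, 1, 2, 0, 2, 1, 3, 3, 0, 2, 1, 2, 2, 0, 0, 4, 2, 0, 4]),
    ([0, 1, 2], 90, [3, 3, 1, 2, 0, 3, 3, 1, 2, 0, 3, 3, 3, 1, 3, 3, 0, 2, 1, 2, 2, 0, 2, 2, 2, 1,
    2, 0, 3, 1, 3, 0, 2, 4, 3, 4, 2]),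
    ([1, 3, 2], 67, [3, 3, 1, 2, 0, 3, 3, 1, 2, 0, 3, 3, 1, 2, 0, 2, 2, 2, 1, 3, 0, 2, 1, 2, 0, 2,
    2, 1, 3, 3, 0, 3, 3, 1, 2, 0, 2, 2, 1, 2, 2, 2, 0, 3, 4, 3, 4, 2, 2, 1]),
    ([3], 57, [1, 2, 0, 2, 2, 1, 3, 0, 2, 1, 2, 0, 3, 1, 3, 0, 3, 3, 1, 2, 0, 2, 1, 3, 0, 2, 2, 1,
    2, 0, 3, 4, 3, 4, 2, 2, 1, 4]),
    ([], 58, [3, 3, 1, 2, 0, 3, 3, 1, 2, 0, 3, 3, 1, 2, 0, 2, 2, 1, 2, 0, 2, 1, 3, 0, 2, 2, 1, 2,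
    0, 3, 1, 3, 0, 3, 1, 2, 0, 2, 1, 2, 0, 2, 1, 3, 0, 2, 4, 3, 4, 2, 2, 1, 4])])]

/-- Traces for generators 2, 4. -/
def tr24 : List (ℕ × List ℕ × List ℕ × List (List ℕ × ℕ × List ℕ)) := [
  (0, [],
    [], [
    ([], 0, []),
    ([], 3, [0, 0, 4]),
    ([], 7, []),
    ([3], 21, [1, 2, 0, 2, 1, 2, 0, 2, 2, 1, 2, 0, 2, 1, 2, 0, 0, 4]),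
    ([], 4, [1, 2, 0, 2, 1, 2, 0, 2, 2, 1, 2, 0, 2, 1, 2, 0, 0, 0]),
    ([], 5, [1, 2, 0, 2, 1, 2, 0, 2, 2, 1, 2, 0, 2, 1, 2, 0, 0])]),
  (1, [0, 0],
    [], [
    ([], 5, [0]),
    ([0, 2], 0, []),
    ([], 1, [1]),
    ([], 5, [1, 2, 0, 2, 1, 2, 0, 2, 2, 1, 2, 0, 2, 1, 2, 0, 0]),
    ([0, 2], 0, [1, 2, 0, 2, 1, 2, 0, 2, 2, 1, 2, 0, 2, 1, 2, 0]),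
    ([], 1, [1, 2, 0, 2, 1, 2, 0, 2, 2, 1, 2, 0, 2, 1, 2])]),
  (1, [0, 4, 2, 4, 3, 3, 1, 4],
    [1, 0, 1, 0, 0, 0, 1, 1, 1, 1, 0, 0, 1, 0, 1, 0, 0, 0, 0, 1], [
    ([1, 1, 0, 1, 0, 1, 1, 1, 1], 9, [3, 3, 1, 2, 0, 3, 3, 1, 2, 0, 3, 3, 1, 2, 2, 0, 2, 2, 1, 2,
    0, 2, 1, 3, 0, 3, 1, 3, 3, 0, 3, 1, 2, 0, 2, 1, 3, 0, 3, 1, 2, 0, 2, 2, 1, 3, 0]),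
    ([2, 0, 2], 56, [2, 2, 1, 3, 0, 3, 1, 3, 3, 0, 3, 1, 2, 0, 2, 1, 2, 0, 3, 3, 1, 2, 0, 2, 2, 1,
    3, 0, 2, 2, 1, 3, 0, 3, 1, 3, 0, 0, 4, 3, 1, 4]),
    ([1, 0, 2, 0, 1, 3], 30, [3, 3, 1, 2, 0, 3, 3, 1, 2, 0, 3, 3, 1, 2, 2, 0, 2, 2, 1, 2, 2, 0, 2,
    2, 1, 3, 0, 3, 3, 1, 3, 0, 2, 2, 2, 1, 3, 0, 3, 4, 2, 4, 3]),
    ([0, 1, 3, 0], 67, [2, 1, 2, 0, 3, 1, 3, 0, 3, 3, 1, 3, 0, 2, 2, 1, 3, 0, 3, 1, 2, 0, 2, 0, 4,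
    2, 2, 0, 4, 2, 1, 2]),
    ([3], 57, [2, 1, 2, 2, 2, 0, 2, 1, 2, 2, 2, 0, 2, 1, 3, 0, 3, 3, 1, 2, 0, 2, 2, 0, 4, 2, 2, 0,
    4, 2, 1, 2, 4]),
    ([], 58, [1, 3, 0, 3, 1, 3, 0, 2, 1, 2, 0, 2, 2, 2, 1, 3, 0, 2, 1, 2, 0, 3, 1, 3, 3, 0, 2, 0,
    4, 2, 2, 0, 4, 2, 1, 2, 4])]),
  (1, [0, 4, 2, 2, 2, 1, 4, 3, 4, 3],
    [1, 0, 1, 0, 1, 0, 0, 1, 1, 0, 1, 0, 1, 0, 0, 1, 0, 0, 1, 0, 0, 1, 0, 1, 0, 0, 1, 0, 0, 0, 0,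
    1], [
    ([1, 1, 0, 1, 1, 1, 1], 9, [3, 3, 1, 2, 0, 3, 3, 1, 2, 0, 3, 3, 1, 2, 2, 0, 2, 2, 1, 3, 0, 3,
    1, 2, 0, 3, 3, 1, 2, 0, 3]),
    ([], 55, [2, 1, 3, 0, 2, 1, 2, 0, 2, 1, 3, 3, 0, 3, 3, 1, 3, 3, 0, 2, 1, 3, 0, 2, 2, 2, 1, 3,
    0, 0, 4, 2, 1, 4, 2, 4, 2, 4]),
    ([2, 4, 5, 2], 45, [2, 2, 1, 2, 0, 3, 3, 1, 3, 0, 2, 2, 1, 2, 0, 3, 1, 3, 0, 2, 2, 2, 1, 3, 3,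
    0, 2, 2, 4, 2, 0, 4, 2, 2, 1, 2]),
    ([0, 3, 3], 85, [1, 2, 0, 2, 2, 1, 3, 0, 3, 1, 2, 0, 3, 3, 1, 2, 0, 3, 3, 1, 3, 0, 2, 0, 4, 2,
    1, 4, 2, 4, 2, 4, 2]),
    ([3], 57, [2, 2, 1, 3, 0, 3, 1, 3, 3, 0, 3, 1, 2, 0, 2, 1, 2, 0, 3, 3, 1, 2, 0, 2, 1, 3, 0, 3,
    1, 2, 0, 2, 2, 1, 3, 0, 4, 2, 2, 2, 0, 4, 2, 4, 2]),
    ([], 58, [3, 3, 1, 2, 0, 3, 3, 1, 2, 0, 3, 3, 1, 2, 2, 0, 2, 1, 3, 0, 2, 2, 2, 1, 3, 0, 2, 1,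
    3, 0, 2, 2, 4, 2, 2, 2, 0, 4, 2, 4, 2])]),
  (1, [4, 2, 2, 4, 3, 4, 3, 3, 0, 2],
    [1, 0, 1, 0, 0, 0, 0, 0, 1, 1, 1, 0, 1, 0, 1, 0, 0, 0, 0, 0, 1, 0, 1, 0, 1, 1, 1, 0, 0, 1, 1,
    1, 0, 1], [
    ([0, 1, 0, 0, 0, 0], 9, [3, 3, 1, 2, 0, 3, 3, 1, 2, 0, 3, 3, 1, 2, 0, 3, 1, 2, 2, 2, 0, 2, 1,
    3, 3, 0, 3, 3, 1, 2, 0, 3, 1, 2, 0, 3, 3, 1, 2, 0]),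
    ([1, 2, 2, 2], 56, [2, 2, 1, 2, 0, 2, 2, 2, 1, 3, 0, 3, 3, 1, 2, 2, 0, 3, 1, 3, 0, 3, 4, 2, 2,
    2, 0, 2, 0, 3, 4]),
    ([1, 0, 2, 0, 1, 3], 30, [3, 1, 2, 2, 2, 0, 2, 1, 3, 3, 0, 3, 3, 1, 2, 0, 3, 1, 2, 2, 0, 2, 1,
    2, 0, 4, 3, 4, 2]),
    ([0, 1, 3, 0], 67, [2, 1, 2, 2, 2, 0, 2, 1, 3, 3, 0, 2, 1, 2, 0, 2, 2, 1, 2, 0, 3, 3, 0, 4, 2,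
    0, 4, 2, 2, 0, 3, 3]),
    ([3], 57, [3, 1, 2, 0, 2, 2, 1, 2, 0, 3, 3, 1, 2, 0, 3, 1, 3, 3, 0, 2, 1, 2, 0, 3, 3, 1, 2, 4,
    3, 4, 3, 3, 4, 2, 2, 2]),
    ([], 58, [1, 2, 0, 2, 1, 3, 3, 0, 3, 3, 1, 2, 0, 3, 1, 3, 0, 3, 1, 3, 0, 3, 1, 2, 0, 2, 2, 1,
    3, 4, 3, 4, 3, 3, 4, 2, 2, 2])])]

/-- Traces for generators 2, 5. -/
def tr25 : List (ℕ × List ℕ × List ℕ × List (List ℕ × ℕ × List ℕ)) := [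
  (0, [],
    [], [
    ([], 0, []),
    ([], 3, [0, 0, 4]),
    ([], 7, []),
    ([3], 21, [3, 3, 1, 2, 0, 3, 3, 1, 2, 0, 3, 3, 1, 2, 2, 0, 3, 3, 1, 2, 0, 3, 1, 3, 3, 0, 3, 1,
    2, 0, 2, 1, 3, 0, 2, 1, 3, 0, 3, 3, 1, 2, 0, 3, 1, 3, 0, 2, 0, 4]),
    ([], 4, [3, 3, 1, 2, 0, 3, 3, 1, 2, 0, 3, 3, 1, 2, 2, 0, 3, 3, 1, 2, 0, 3, 1, 3, 3, 0, 3, 1,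
    2, 0, 2, 1, 3, 0, 2, 1, 3, 0, 3, 3, 1, 2, 0, 3, 1, 3, 0, 2, 0, 0]),
    ([], 5, [3, 3, 1, 2, 0, 3, 3, 1, 2, 0, 3, 3, 1, 2, 2, 0, 3, 3, 1, 2, 0, 3, 1, 3, 3, 0, 3, 1,
    2, 0, 2, 1, 3, 0, 2, 1, 3, 0, 3, 3, 1, 2, 0, 3, 1, 3, 0, 2, 0])]),
  (1, [0, 0],
    [], [
    ([], 5, [0]),
    ([0, 2], 0, []),
    ([], 1, [1]),
    ([], 5, [3, 3, 1, 2, 0, 3, 3, 1, 2, 0, 3, 3, 1, 2, 2, 0, 3, 3, 1, 2, 0, 3, 1, 3, 3, 0, 3, 1,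
    2, 0, 2, 1, 3, 0, 2, 1, 3, 0, 3, 3, 1, 2, 0, 3, 1, 3, 0, 2, 0]),
    ([0, 2], 0, [3, 3, 1, 2, 0, 3, 3, 1, 2, 0, 3, 3, 1, 2, 2, 0, 3, 3, 1, 2, 0, 3, 1, 3, 3, 0, 3,
    1, 2, 0, 2, 1, 3, 0, 2, 1, 3, 0, 3, 3, 1, 2, 0, 3, 1, 3, 0, 2]),
    ([], 1, [3, 3, 1, 2, 0, 3, 3, 1, 2, 0, 3, 3, 1, 2, 2, 0, 3, 3, 1, 2, 0, 3, 1, 3, 3, 0, 3, 1,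
    2, 0, 2, 1, 3, 0, 2, 1, 3, 0, 3, 3, 1, 2, 0, 3, 1, 3, 0, 2, 1])]),
  (1, [0, 4, 2, 4, 3, 3, 1, 4],
    [1, 0, 1, 0, 0, 0, 1, 1, 1, 1, 0, 0, 1, 0, 1, 0, 0, 0, 0, 1], [
    ([1, 1, 0, 1, 0, 1, 1, 1, 1], 9, [3, 3, 1, 2, 0, 3, 3, 1, 2, 0, 3, 3, 1, 2, 2, 0, 2, 2, 1, 2,
    0, 2, 1, 3, 0, 3, 1, 3, 3, 0, 3, 1, 2, 0, 2, 1, 3, 0, 3, 1, 2, 0, 2, 2, 1, 3, 0]),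
    ([2, 0, 2], 56, [2, 2, 1, 3, 0, 3, 1, 3, 3, 0, 3, 1, 2, 0, 2, 1, 2, 0, 3, 3, 1, 2, 0, 2, 2, 1,
    3, 0, 2, 2, 1, 3, 0, 3, 1, 3, 0, 0, 4, 3, 1, 4]),
    ([1, 0, 2, 0, 1, 3], 30, [3, 3, 1, 2, 0, 3, 3, 1, 2, 0, 3, 3, 1, 2, 2, 0, 2, 2, 1, 2, 2, 0, 2,
    2, 1, 3, 0, 3, 3, 1, 3, 0, 2, 2, 2, 1, 3, 0, 3, 4, 2, 4, 3]),
    ([0, 1, 3, 0], 67, [3, 3, 1, 2, 0, 3, 3, 1, 2, 0, 3, 3, 1, 2, 0, 3, 1, 3, 3, 0, 2, 2, 2, 1, 3,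
    0, 2, 2, 1, 2, 2, 0, 2, 1, 2, 0, 2, 1, 4, 3, 4, 3]),
    ([3], 57, [3, 3, 1, 2, 0, 3, 3, 1, 2, 0, 3, 3, 1, 2, 0, 2, 1, 2, 0, 3, 1, 3, 0, 3, 3, 1, 3, 0,
    2, 2, 1, 3, 0, 2, 2, 1, 3, 0, 3, 1, 2, 0, 3, 3, 1, 4, 3, 4, 3, 4]),
    ([], 58, [2, 1, 2, 2, 0, 2, 2, 1, 3, 0, 3, 3, 1, 2, 0, 2, 1, 2, 4, 3, 4, 3, 4])]),
  (1, [0, 4, 2, 2, 2, 1, 4, 3, 4, 3],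
    [1, 0, 1, 0, 1, 0, 0, 1, 1, 0, 1, 0, 1, 0, 0, 1, 0, 0, 1, 0, 0, 1, 0, 1, 0, 0, 1, 0, 0, 0, 0,
    1], [
    ([1, 1, 0, 1, 1, 1, 1], 9, [3, 3, 1, 2, 0, 3, 3, 1, 2, 0, 3, 3, 1, 2, 2, 0, 2, 2, 1, 3, 0, 3,
    1, 2, 0, 3, 3, 1, 2, 0, 3]),
    ([], 55, [2, 1, 3, 0, 2, 1, 2, 0, 2, 1, 3, 3, 0, 3, 3, 1, 3, 3, 0, 2, 1, 3, 0, 2, 2, 2, 1, 3,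
    0, 0, 4, 2, 1, 4, 2, 4, 2, 4]),
    ([2, 4, 5, 2], 45, [2, 2, 1, 2, 0, 3, 3, 1, 3, 0, 2, 2, 1, 2, 0, 3, 1, 3, 0, 2, 2, 2, 1, 3, 3,
    0, 2, 2, 4, 2, 0, 4, 2, 2, 1, 2]),
    ([0, 3, 3], 85, [3, 3, 1, 2, 0, 3, 3, 1, 2, 0, 3, 3, 1, 2, 2, 0, 2, 1, 3, 0, 2, 2, 2, 1, 3, 0,
    2, 2, 2, 2, 2, 1, 3, 0, 4, 2, 4, 2, 2, 4, 2, 2, 4]),
    ([3], 57, [3, 3, 1, 2, 0, 3, 3, 1, 2, 0, 3, 3, 1, 2, 0, 2, 2, 1, 2, 0, 2, 1, 3, 0, 2, 2, 1, 2,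
    2, 0, 2, 2, 1, 3, 0, 3, 1, 2, 2, 2, 0, 3, 4, 2, 4, 2, 2, 4, 2, 2]),
    ([], 58, [2, 2, 2, 1, 3, 0, 2, 1, 2, 0, 2, 1, 2, 0, 3, 1, 3, 0, 2, 2, 2, 1, 3, 0, 3, 1, 2, 0,
    3, 3, 1, 2, 0, 4, 2, 4, 2, 2, 4, 2, 2])]),
  (1, [4, 2, 2, 4, 3, 4, 3, 3, 0, 2],
    [1, 0, 1, 0, 0, 0, 0, 0, 1, 1, 1, 0, 1, 0, 1, 0, 0, 0, 0, 0, 1, 0, 1, 0, 1, 1, 1, 0, 0, 1, 1,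
    1, 0, 1], [
    ([0, 1, 0, 0, 0, 0], 9, [3, 3, 1, 2, 0, 3, 3, 1, 2, 0, 3, 3, 1, 2, 0, 3, 1, 2, 2, 2, 0, 2, 1,
    3, 3, 0, 3, 3, 1, 2, 0, 3, 1, 2, 0, 3, 3, 1, 2, 0]),
    ([1, 2, 2, 2], 56, [2, 2, 1, 2, 0, 2, 2, 2, 1, 3, 0, 3, 3, 1, 2, 2, 0, 3, 1, 3, 0, 3, 4, 2, 2,
    2, 0, 2, 0, 3, 4]),
    ([1, 0, 2, 0, 1, 3], 30, [3, 1, 2, 2, 2, 0, 2, 1, 3, 3, 0, 3, 3, 1, 2, 0, 3, 1, 2, 2, 0, 2, 1,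
    2, 0, 4, 3, 4, 2]),
    ([0, 1, 3, 0], 67, [1, 3, 3, 0, 3, 3, 1, 3, 0, 2, 2, 2, 1, 2, 0, 2, 1, 2, 2, 0, 3, 3, 1, 3, 4,
    3, 4, 2, 2]),
    ([3], 57, [2, 2, 1, 2, 0, 2, 1, 3, 0, 3, 1, 3, 0, 2, 2, 1, 3, 3, 4, 3, 4, 2, 2, 4]),
    ([], 58, [3, 1, 2, 0, 3, 3, 1, 3, 0, 2, 1, 2, 0, 2, 1, 2, 0, 3, 1, 2, 2, 0, 3, 1, 4, 3, 4, 2,
    2, 4])])]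

/-- Traces for generators 2, 6. -/
def tr26 : List (ℕ × List ℕ × List ℕ × List (List ℕ × ℕ × List ℕ)) := [
  (0, [],
    [], [
    ([], 0, []),
    ([], 3, [0, 0, 4]),
    ([], 7, []),
    ([3], 21, [2, 1, 3, 3, 0, 2, 2, 2, 1, 2, 2, 0, 3, 1, 3, 0, 3, 1, 2, 0, 2, 0, 4]),
    ([], 4, [3, 1, 2, 0, 3, 3, 1, 2, 0, 2, 1, 2, 2, 0, 3, 3, 1, 3, 0, 2, 1, 3, 0, 2, 1, 2, 0, 2,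
    2, 0, 0]),
    ([], 5, [2, 1, 3, 3, 0, 2, 2, 2, 1, 2, 2, 0, 3, 1, 3, 0, 3, 1, 2, 0, 2, 0])]),
  (1, [0, 0],
    [], [
    ([], 5, [0]),
    ([0, 2], 0, []),
    ([], 1, [1]),
    ([], 5, [2, 1, 3, 3, 0, 2, 2, 2, 1, 2, 2, 0, 3, 1, 3, 0, 3, 1, 2, 0, 2, 0]),
    ([0, 2], 0, [3, 1, 2, 0, 3, 3, 1, 2, 0, 2, 1, 2, 2, 0, 3, 3, 1, 3, 0, 2, 1, 3, 0, 2, 1, 2, 0,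
    2, 2]),
    ([], 1, [2, 1, 3, 3, 0, 2, 2, 2, 1, 2, 2, 0, 3, 1, 3, 0, 3, 1, 2, 0, 2, 1])]),
  (1, [0, 4, 2, 4, 3, 3, 1, 4],
    [1, 0, 1, 0, 0, 0, 1, 1, 1, 1, 0, 0, 1, 0, 1, 0, 0, 0, 0, 1], [
    ([1, 1, 0, 1, 0, 1, 1, 1, 1], 9, [3, 3, 1, 2, 0, 3, 3, 1, 2, 0, 3, 3, 1, 2, 2, 0, 2, 2, 1, 2,
    0, 2, 1, 3, 0, 3, 1, 3, 3, 0, 3, 1, 2, 0, 2, 1, 3, 0, 3, 1, 2, 0, 2, 2, 1, 3, 0]),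
    ([2, 0, 2], 56, [2, 2, 1, 3, 0, 3, 1, 3, 3, 0, 3, 1, 2, 0, 2, 1, 2, 0, 3, 3, 1, 2, 0, 2, 2, 1,
    3, 0, 2, 2, 1, 3, 0, 3, 1, 3, 0, 0, 4, 3, 1, 4]),
    ([1, 0, 2, 0, 1, 3], 30, [3, 3, 1, 2, 0, 3, 3, 1, 2, 0, 3, 3, 1, 2, 2, 0, 2, 2, 1, 2, 2, 0, 2,
    2, 1, 3, 0, 3, 3, 1, 3, 0, 2, 2, 2, 1, 3, 0, 3, 4, 2, 4, 3]),
    ([0, 1, 3, 0], 67, [1, 3, 0, 3, 1, 2, 2, 0, 2, 1, 3, 3, 0, 2, 1, 2, 2, 0, 2, 2, 1, 3, 3, 0, 3,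
    1, 2, 0, 2, 0, 4, 2, 4, 2, 2]),
    ([3], 57, [3, 3, 1, 2, 0, 3, 3, 1, 2, 0, 3, 3, 1, 2, 2, 0, 2, 1, 3, 3, 0, 3, 0, 4, 2, 4, 2, 2,
    4]),
    ([], 58, [3, 1, 2, 2, 0, 2, 1, 3, 0, 2, 2, 1, 2, 2, 0, 3, 3, 1, 3, 0, 2, 1, 3, 3, 0, 2, 2, 0,
    4, 2, 4, 2, 2, 4])]),
  (1, [0, 4, 2, 2, 2, 1, 4, 3, 4, 3],
    [1, 0, 1, 0, 1, 0, 0, 1, 1, 0, 1, 0, 1, 0, 0, 1, 0, 0, 1, 0, 0, 1, 0, 1, 0, 0, 1, 0, 0, 0, 0,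
    1], [
    ([1, 1, 0, 1, 1, 1, 1], 9, [3, 3, 1, 2, 0, 3, 3, 1, 2, 0, 3, 3, 1, 2, 2, 0, 2, 2, 1, 3, 0, 3,
    1, 2, 0, 3, 3, 1, 2, 0, 3]),
    ([], 55, [2, 1, 3, 0, 2, 1, 2, 0, 2, 1, 3, 3, 0, 3, 3, 1, 3, 3, 0, 2, 1, 3, 0, 2, 2, 2, 1, 3,
    0, 0, 4, 2, 1, 4, 2, 4, 2, 4]),
    ([2, 4, 5, 2], 45, [2, 2, 1, 2, 0, 3, 3, 1, 3, 0, 2, 2, 1, 2, 0, 3, 1, 3, 0, 2, 2, 2, 1, 3, 3,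
    0, 2, 2, 4, 2, 0, 4, 2, 2, 1, 2]),
    ([0, 3, 3], 85, [3, 1, 2, 0, 2, 2, 1, 2, 0, 2, 1, 2, 2, 0, 3, 1, 3, 0, 2, 1, 2, 2, 0, 3, 1, 3,
    3, 0, 3, 0, 4, 2, 2, 2, 0, 4, 2]),
    ([3], 57, [2, 1, 3, 3, 0, 2, 2, 1, 2, 0, 3, 1, 3, 3, 3, 0, 3, 3, 1, 2, 0, 2, 0, 4, 2, 2, 2, 0,
    4, 2, 4]),
    ([], 58, [3, 3, 1, 2, 0, 3, 3, 1, 2, 0, 3, 3, 1, 2, 0, 2, 2, 2, 1, 3, 0, 2, 1, 2, 0, 2, 1, 2,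
    0, 3, 1, 3, 0, 2, 2, 2, 2, 1, 2, 0, 2, 1, 2, 0, 0, 4, 2, 2, 2, 0, 4, 2, 4])]),
  (1, [4, 2, 2, 4, 3, 4, 3, 3, 0, 2],
    [1, 0, 1, 0, 0, 0, 0, 0, 1, 1, 1, 0, 1, 0, 1, 0, 0, 0, 0, 0, 1, 0, 1, 0, 1, 1, 1, 0, 0, 1, 1,
    1, 0, 1], [
    ([0, 1, 0, 0, 0, 0], 9, [3, 3, 1, 2, 0, 3, 3, 1, 2, 0, 3, 3, 1, 2, 0, 3, 1, 2, 2, 2, 0, 2, 1,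
    3, 3, 0, 3, 3, 1, 2, 0, 3, 1, 2, 0, 3, 3, 1, 2, 0]),
    ([1, 2, 2, 2], 56, [2, 2, 1, 2, 0, 2, 2, 2, 1, 3, 0, 3, 3, 1, 2, 2, 0, 3, 1, 3, 0, 3, 4, 2, 2,
    2, 0, 2, 0, 3, 4]),
    ([1, 0, 2, 0, 1, 3], 30, [3, 1, 2, 2, 2, 0, 2, 1, 3, 3, 0, 3, 3, 1, 2, 0, 3, 1, 2, 2, 0, 2, 1,
    2, 0, 4, 3, 4, 2]),
    ([0, 1, 3, 0], 67, [1, 2, 2, 0, 2, 2, 1, 2, 0, 3, 3, 1, 2, 0, 3, 3, 1, 2, 2, 0, 2, 1, 3, 3, 0,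
    4, 3, 4, 2, 2, 1]),
    ([3], 57, [2, 2, 1, 3, 0, 2, 2, 1, 2, 0, 2, 1, 3, 0, 2, 1, 2, 2, 2, 2, 0, 2, 2, 2, 4, 3, 4, 2,
    2, 1, 4]),
    ([], 58, [3, 1, 2, 0, 3, 3, 1, 2, 0, 2, 1, 2, 2, 0, 3, 3, 1, 3, 0, 3, 1, 2, 0, 2, 1, 2, 0, 2,
    1, 3, 0, 2, 4, 3, 4, 2, 2, 1, 4])])]

/-- Traces for generators 2, 7. -/
def tr27 : List (ℕ × List ℕ × List ℕ × List (List ℕ × ℕ × List ℕ)) := [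
  (0, [],
    [], [
    ([], 0, []),
    ([], 3, [0, 0, 4]),
    ([], 7, []),
    ([3], 21, [0, 4]),
    ([], 4, [0, 0]),
    ([], 5, [0])]),
  (1, [0, 0],
    [], [
    ([], 5, [0]),
    ([0, 2], 0, []),
    ([], 1, [1]),
    ([], 5, [0]),
    ([0, 2], 0, []),
    ([], 1, [1])]),
  (1, [0, 4, 2, 4, 3, 3, 1, 4],
    [1, 0, 1, 0, 0, 0, 1, 1, 1, 1, 0, 0, 1, 0, 1, 0, 0, 0, 0, 1], [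
    ([1, 1, 0, 1, 0, 1, 1, 1, 1], 9, [3, 3, 1, 2, 0, 3, 3, 1, 2, 0, 3, 3, 1, 2, 2, 0, 2, 2, 1, 2,
    0, 2, 1, 3, 0, 3, 1, 3, 3, 0, 3, 1, 2, 0, 2, 1, 3, 0, 3, 1, 2, 0, 2, 2, 1, 3, 0]),
    ([2, 0, 2], 56, [2, 2, 1, 3, 0, 3, 1, 3, 3, 0, 3, 1, 2, 0, 2, 1, 2, 0, 3, 3, 1, 2, 0, 2, 2, 1,
    3, 0, 2, 2, 1, 3, 0, 3, 1, 3, 0, 0, 4, 3, 1, 4]),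
    ([1, 0, 2, 0, 1, 3], 30, [3, 3, 1, 2, 0, 3, 3, 1, 2, 0, 3, 3, 1, 2, 2, 0, 2, 2, 1, 2, 2, 0, 2,
    2, 1, 3, 0, 3, 3, 1, 3, 0, 2, 2, 2, 1, 3, 0, 3, 4, 2, 4, 3]),
    ([0, 1, 3, 0], 67, [3, 3, 1, 2, 0, 3, 3, 1, 2, 0, 3, 3, 1, 2, 0, 2, 2, 2, 1, 2, 0, 3, 3, 1, 3,
    3, 0, 2, 2, 2, 1, 2, 0, 2, 2, 1, 2, 0, 2, 2, 1, 2, 2, 4, 2, 4, 3, 3]),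
    ([3], 57, [2, 2, 1, 2, 0, 2, 1, 3, 0, 2, 2, 1, 2, 0, 3, 1, 3, 3, 0, 2, 1, 2, 0, 2, 1, 2, 0, 3,
    1, 4, 2, 4, 3, 3, 4]),
    ([], 58, [3, 3, 1, 2, 0, 3, 3, 1, 2, 0, 3, 1, 2, 2, 0, 2, 1, 2, 0, 3, 1, 3, 0, 3, 3, 1, 3, 0,
    2, 1, 3, 0, 3, 3, 1, 2, 0, 2, 2, 1, 4, 2, 4, 3, 3, 4])]),
  (1, [0, 4, 2, 2, 2, 1, 4, 3, 4, 3],
    [1, 0, 1, 0, 1, 0, 0, 1, 1, 0, 1, 0, 1, 0, 0, 1, 0, 0, 1, 0, 0, 1, 0, 1, 0, 0, 1, 0, 0, 0, 0,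
    1], [
    ([1, 1, 0, 1, 1, 1, 1], 9, [3, 3, 1, 2, 0, 3, 3, 1, 2, 0, 3, 3, 1, 2, 2, 0, 2, 2, 1, 3, 0, 3,
    1, 2, 0, 3, 3, 1, 2, 0, 3]),
    ([], 55, [2, 1, 3, 0, 2, 1, 2, 0, 2, 1, 3, 3, 0, 3, 3, 1, 3, 3, 0, 2, 1, 3, 0, 2, 2, 2, 1, 3,
    0, 0, 4, 2, 1, 4, 2, 4, 2, 4]),
    ([2, 4, 5, 2], 45, [2, 2, 1, 2, 0, 3, 3, 1, 3, 0, 2, 2, 1, 2, 0, 3, 1, 3, 0, 2, 2, 2, 1, 3, 3,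
    0, 2, 2, 4, 2, 0, 4, 2, 2, 1, 2]),
    ([0, 3, 3], 85, [1, 2, 0, 3, 3, 1, 2, 0, 2, 2, 1, 2, 0, 2, 1, 3, 0, 3, 3, 1, 2, 0, 2, 1, 2, 0,
    2, 2, 0, 4, 3, 1, 4, 3, 4, 3, 4, 3]),
    ([3], 57, [1, 3, 3, 0, 3, 1, 3, 3, 0, 3, 1, 2, 0, 2, 1, 2, 2, 0, 2, 1, 2, 0, 3, 1, 2, 2, 0, 2,
    2, 4, 2, 2, 2, 0, 4, 3, 4, 3]),
    ([], 58, [1, 2, 0, 3, 3, 1, 2, 0, 2, 2, 2, 1, 2, 2, 0, 2, 1, 2, 0, 3, 1, 3, 0, 2, 2, 1, 3, 0,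
    4, 2, 2, 2, 0, 4, 3, 4, 3])]),
  (1, [4, 2, 2, 4, 3, 4, 3, 3, 0, 2],
    [1, 0, 1, 0, 0, 0, 0, 0, 1, 1, 1, 0, 1, 0, 1, 0, 0, 0, 0, 0, 1, 0, 1, 0, 1, 1, 1, 0, 0, 1, 1,
    1, 0, 1], [
    ([0, 1, 0, 0, 0, 0], 9, [3, 3, 1, 2, 0, 3, 3, 1, 2, 0, 3, 3, 1, 2, 0, 3, 1, 2, 2, 2, 0, 2, 1,
    3, 3, 0, 3, 3, 1, 2, 0, 3, 1, 2, 0, 3, 3, 1, 2, 0]),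
    ([1, 2, 2, 2], 56, [2, 2, 1, 2, 0, 2, 2, 2, 1, 3, 0, 3, 3, 1, 2, 2, 0, 3, 1, 3, 0, 3, 4, 2, 2,
    2, 0, 2, 0, 3, 4]),
    ([1, 0, 2, 0, 1, 3], 30, [3, 1, 2, 2, 2, 0, 2, 1, 3, 3, 0, 3, 3, 1, 2, 0, 3, 1, 2, 2, 0, 2, 1,
    2, 0, 4, 3, 4, 2]),
    ([0, 1, 3, 0], 67, [1, 3, 0, 3, 1, 2, 2, 0, 2, 1, 3, 3, 0, 2, 1, 2, 2, 0, 2, 2, 1, 3, 3, 0, 3,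
    1, 2, 0, 2, 0, 4, 2, 0, 4, 2, 2, 0, 3, 3]),
    ([3], 57, [3, 3, 1, 2, 0, 3, 3, 1, 2, 0, 3, 3, 1, 3, 0, 3, 1, 3, 3, 0, 3, 1, 2, 0, 2, 1, 2, 2,
    0, 2, 1, 2, 0, 2, 2, 1, 2, 2, 0, 2, 1, 2, 2, 4, 3, 4, 3, 3, 4, 2, 2, 2]),
    ([], 58, [2, 2, 2, 1, 3, 0, 3, 1, 3, 3, 0, 2, 1, 3, 4, 3, 4, 3, 3, 4, 2, 2, 2])])]

/-- Traces for generators 2, 8. -/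
def tr28 : List (ℕ × List ℕ × List ℕ × List (List ℕ × ℕ × List ℕ)) := [
  (0, [],
    [], [
    ([], 0, []),
    ([], 3, [0, 0, 4]),
    ([], 7, []),
    ([3], 21, [2, 2, 1, 2, 0, 3, 3, 1, 3, 0, 2, 1, 2, 0, 2, 1, 3, 0, 3, 3, 1, 2, 0, 2, 2, 0, 4]),
    ([], 4, [1, 2, 0, 2, 1, 3, 0, 3, 3, 1, 2, 0, 3, 1, 3, 3, 0, 2, 2, 1, 3, 3, 0, 0, 0]),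
    ([], 5, [2, 2, 1, 2, 0, 3, 3, 1, 3, 0, 2, 1, 2, 0, 2, 1, 3, 0, 3, 3, 1, 2, 0, 2, 2, 0])]),
  (1, [0, 0],
    [], [
    ([], 5, [0]),
    ([0, 2], 0, []),
    ([], 1, [1]),
    ([], 5, [2, 2, 1, 2, 0, 3, 3, 1, 3, 0, 2, 1, 2, 0, 2, 1, 3, 0, 3, 3, 1, 2, 0, 2, 2, 0]),
    ([0, 2], 0, [1, 2, 0, 2, 1, 3, 0, 3, 3, 1, 2, 0, 3, 1, 3, 3, 0, 2, 2, 1, 3, 3, 0]),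
    ([], 1, [2, 2, 1, 2, 0, 3, 3, 1, 3, 0, 2, 1, 2, 0, 2, 1, 3, 0, 3, 3, 1, 2, 0, 2, 2, 1])]),
  (1, [0, 4, 2, 4, 3, 3, 1, 4],
    [1, 0, 1, 0, 0, 0, 1, 1, 1, 1, 0, 0, 1, 0, 1, 0, 0, 0, 0, 1], [
    ([1, 1, 0, 1, 0, 1, 1, 1, 1], 9, [3, 3, 1, 2, 0, 3, 3, 1, 2, 0, 3, 3, 1, 2, 2, 0, 2, 2, 1, 2,
    0, 2, 1, 3, 0, 3, 1, 3, 3, 0, 3, 1, 2, 0, 2, 1, 3, 0, 3, 1, 2, 0, 2, 2, 1, 3, 0]),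
    ([2, 0, 2], 56, [2, 2, 1, 3, 0, 3, 1, 3, 3, 0, 3, 1, 2, 0, 2, 1, 2, 0, 3, 3, 1, 2, 0, 2, 2, 1,
    3, 0, 2, 2, 1, 3, 0, 3, 1, 3, 0, 0, 4, 3, 1, 4]),
    ([1, 0, 2, 0, 1, 3], 30, [3, 3, 1, 2, 0, 3, 3, 1, 2, 0, 3, 3, 1, 2, 2, 0, 2, 2, 1, 2, 2, 0, 2,
    2, 1, 3, 0, 3, 3, 1, 3, 0, 2, 2, 2, 1, 3, 0, 3, 4, 2, 4, 3]),
    ([0, 1, 3, 0], 67, [3, 1, 2, 0, 2, 1, 2, 0, 3, 1, 3, 0, 3, 1, 2, 0, 2, 1, 2, 2, 0, 3, 1, 2, 0,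
    3, 3, 0, 4, 3, 4, 3, 4, 3, 4, 2]),
    ([3], 57, [1, 2, 0, 2, 1, 2, 0, 2, 1, 2, 2, 0, 3, 3, 1, 2, 0, 4, 2, 0, 4, 2, 2, 4, 3, 1]),
    ([], 58, [3, 3, 1, 2, 0, 3, 3, 1, 2, 0, 3, 3, 1, 2, 2, 0, 3, 3, 1, 2, 0, 2, 2, 1, 2, 0, 2, 1,
    3, 0, 2, 1, 2, 2, 0, 2, 1, 2, 0, 4, 2, 0, 4, 2, 2, 4, 3, 1])]),
  (1, [0, 4, 2, 2, 2, 1, 4, 3, 4, 3],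
    [1, 0, 1, 0, 1, 0, 0, 1, 1, 0, 1, 0, 1, 0, 0, 1, 0, 0, 1, 0, 0, 1, 0, 1, 0, 0, 1, 0, 0, 0, 0,
    1], [
    ([1, 1, 0, 1, 1, 1, 1], 9, [3, 3, 1, 2, 0, 3, 3, 1, 2, 0, 3, 3, 1, 2, 2, 0, 2, 2, 1, 3, 0, 3,
    1, 2, 0, 3, 3, 1, 2, 0, 3]),
    ([], 55, [2, 1, 3, 0, 2, 1, 2, 0, 2, 1, 3, 3, 0, 3, 3, 1, 3, 3, 0, 2, 1, 3, 0, 2, 2, 2, 1, 3,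
    0, 0, 4, 2, 1, 4, 2, 4, 2, 4]),
    ([2, 4, 5, 2], 45, [2, 2, 1, 2, 0, 3, 3, 1, 3, 0, 2, 2, 1, 2, 0, 3, 1, 3, 0, 2, 2, 2, 1, 3, 3,
    0, 2, 2, 4, 2, 0, 4, 2, 2, 1, 2]),
    ([0, 3, 3], 85, [3, 3, 1, 2, 0, 3, 3, 1, 2, 0, 3, 3, 1, 2, 2, 0, 2, 2, 1, 2, 0, 2, 2, 1, 3, 0,
    3, 3, 1, 2, 0, 2, 2, 2, 2, 1, 3, 3, 0, 3, 0, 4, 3, 4, 3, 3, 1]),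
    ([3], 57, [3, 3, 1, 2, 0, 3, 3, 1, 2, 0, 3, 3, 1, 2, 0, 2, 2, 2, 1, 3, 0, 2, 2, 1, 2, 0, 2, 2,
    2, 1, 3, 0, 2, 2, 1, 3, 0, 2, 1, 2, 0, 2, 1, 3, 0, 3, 0, 4, 3, 4, 3, 3, 1, 4]),
    ([], 58, [3, 3, 1, 2, 0, 3, 3, 1, 2, 0, 3, 3, 1, 2, 0, 3, 1, 2, 0, 3, 3, 1, 2, 0, 2, 2, 1, 3,
    0, 3, 1, 2, 0, 2, 2, 1, 2, 2, 0, 3, 1, 3, 0, 3, 3, 0, 4, 3, 4, 3, 3, 1, 4])]),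
  (1, [4, 2, 2, 4, 3, 4, 3, 3, 0, 2],
    [1, 0, 1, 0, 0, 0, 0, 0, 1, 1, 1, 0, 1, 0, 1, 0, 0, 0, 0, 0, 1, 0, 1, 0, 1, 1, 1, 0, 0, 1, 1,
    1, 0, 1], [
    ([0, 1, 0, 0, 0, 0], 9, [3, 3, 1, 2, 0, 3, 3, 1, 2, 0, 3, 3, 1, 2, 0, 3, 1, 2, 2, 2, 0, 2, 1,
    3, 3, 0, 3, 3, 1, 2, 0, 3, 1, 2, 0, 3, 3, 1, 2, 0]),
    ([1, 2, 2, 2], 56, [2, 2, 1, 2, 0, 2, 2, 2, 1, 3, 0, 3, 3, 1, 2, 2, 0, 3, 1, 3, 0, 3, 4, 2, 2,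
    2, 0, 2, 0, 3, 4]),
    ([1, 0, 2, 0, 1, 3], 30, [3, 1, 2, 2, 2, 0, 2, 1, 3, 3, 0, 3, 3, 1, 2, 0, 3, 1, 2, 2, 0, 2, 1,
    2, 0, 4, 3, 4, 2]),
    ([0, 1, 3, 0], 67, [1, 3, 0, 3, 1, 2, 0, 2, 1, 3, 0, 2, 2, 2, 1, 2, 2, 2, 2, 0, 2, 1, 2, 0, 2,
    1, 3, 0, 0, 4, 3, 3, 0, 3, 0, 4, 3]),
    ([3], 57, [1, 3, 0, 3, 1, 2, 2, 0, 2, 2, 2, 2, 1, 2, 0, 0, 4, 2, 2, 1, 4, 2, 4, 2]),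
    ([], 58, [2, 2, 1, 2, 0, 2, 1, 3, 0, 2, 2, 1, 2, 0, 3, 1, 3, 0, 2, 2, 2, 1, 3, 3, 0, 2, 1, 2,
    0, 0, 4, 2, 2, 1, 4, 2, 4, 2])])]

/-- Traces for generators 2, 9. -/
def tr29 : List (ℕ × List ℕ × List ℕ × List (List ℕ × ℕ × List ℕ)) := [
  (0, [],
    [], [
    ([], 0, []),
    ([], 3, [0, 0, 4]),
    ([], 7, []),
    ([3], 21, [2, 1, 3, 3, 0, 3, 1, 3, 0, 2, 1, 2, 0, 2, 2, 2, 1, 2, 0, 2, 1, 2, 0, 2, 1, 2, 0, 2,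
    0, 4]),
    ([], 4, [2, 1, 3, 3, 0, 3, 1, 3, 0, 2, 1, 2, 0, 2, 2, 2, 1, 2, 0, 2, 1, 2, 0, 2, 1, 2, 0, 2,
    0, 0]),
    ([], 5, [2, 1, 3, 3, 0, 3, 1, 3, 0, 2, 1, 2, 0, 2, 2, 2, 1, 2, 0, 2, 1, 2, 0, 2, 1, 2, 0, 2,
    0])]),
  (1, [0, 0],
    [], [
    ([], 5, [0]),
    ([0, 2], 0, []),
    ([], 1, [1]),
    ([], 5, [2, 1, 3, 3, 0, 3, 1, 3, 0, 2, 1, 2, 0, 2, 2, 2, 1, 2, 0, 2, 1, 2, 0, 2, 1, 2, 0, 2,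
    0]),
    ([0, 2], 0, [2, 1, 3, 3, 0, 3, 1, 3, 0, 2, 1, 2, 0, 2, 2, 2, 1, 2, 0, 2, 1, 2, 0, 2, 1, 2, 0,
    2]),
    ([], 1, [2, 1, 3, 3, 0, 3, 1, 3, 0, 2, 1, 2, 0, 2, 2, 2, 1, 2, 0, 2, 1, 2, 0, 2, 1, 2, 0, 2,
    1])]),
  (1, [0, 4, 2, 4, 3, 3, 1, 4],
    [1, 0, 1, 0, 0, 0, 1, 1, 1, 1, 0, 0, 1, 0, 1, 0, 0, 0, 0, 1], [
    ([1, 1, 0, 1, 0, 1, 1, 1, 1], 9, [3, 3, 1, 2, 0, 3, 3, 1, 2, 0, 3, 3, 1, 2, 2, 0, 2, 2, 1, 2,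
    0, 2, 1, 3, 0, 3, 1, 3, 3, 0, 3, 1, 2, 0, 2, 1, 3, 0, 3, 1, 2, 0, 2, 2, 1, 3, 0]),
    ([2, 0, 2], 56, [2, 2, 1, 3, 0, 3, 1, 3, 3, 0, 3, 1, 2, 0, 2, 1, 2, 0, 3, 3, 1, 2, 0, 2, 2, 1,
    3, 0, 2, 2, 1, 3, 0, 3, 1, 3, 0, 0, 4, 3, 1, 4]),
    ([1, 0, 2, 0, 1, 3], 30, [3, 3, 1, 2, 0, 3, 3, 1, 2, 0, 3, 3, 1, 2, 2, 0, 2, 2, 1, 2, 2, 0, 2,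
    2, 1, 3, 0, 3, 3, 1, 3, 0, 2, 2, 2, 1, 3, 0, 3, 4, 2, 4, 3]),
    ([0, 1, 3, 0], 67, [3, 3, 1, 2, 0, 3, 3, 1, 2, 0, 3, 3, 1, 2, 0, 2, 1, 2, 2, 2, 0, 2, 1, 2, 2,
    2, 2, 2, 0, 2, 1, 2, 0, 3, 1, 3, 0, 0, 4, 2, 2, 4, 3, 4, 2, 2, 4]),
    ([3], 57, [3, 3, 1, 2, 0, 3, 3, 1, 2, 0, 3, 3, 1, 2, 2, 0, 3, 3, 1, 2, 0, 2, 2, 2, 1, 2, 2, 0,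
    2, 2, 2, 0, 4, 2, 2, 4, 3, 4, 2, 2]),
    ([], 58, [3, 3, 1, 2, 0, 3, 3, 1, 2, 0, 3, 3, 1, 2, 0, 2, 1, 2, 2, 2, 0, 2, 1, 3, 3, 0, 2, 1,
    2, 0, 2, 0, 4, 2, 2, 4, 3, 4, 2, 2])]),
  (1, [0, 4, 2, 2, 2, 1, 4, 3, 4, 3],
    [1, 0, 1, 0, 1, 0, 0, 1, 1, 0, 1, 0, 1, 0, 0, 1, 0, 0, 1, 0, 0, 1, 0, 1, 0, 0, 1, 0, 0, 0, 0,
    1], [
    ([1, 1, 0, 1, 1, 1, 1], 9, [3, 3, 1, 2, 0, 3, 3, 1, 2, 0, 3, 3, 1, 2, 2, 0, 2, 2, 1, 3, 0, 3,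
    1, 2, 0, 3, 3, 1, 2, 0, 3]),
    ([], 55, [2, 1, 3, 0, 2, 1, 2, 0, 2, 1, 3, 3, 0, 3, 3, 1, 3, 3, 0, 2, 1, 3, 0, 2, 2, 2, 1, 3,
    0, 0, 4, 2, 1, 4, 2, 4, 2, 4]),
    ([2, 4, 5, 2], 45, [2, 2, 1, 2, 0, 3, 3, 1, 3, 0, 2, 2, 1, 2, 0, 3, 1, 3, 0, 2, 2, 2, 1, 3, 3,
    0, 2, 2, 4, 2, 0, 4, 2, 2, 1, 2]),
    ([0, 3, 3], 85, [3, 3, 1, 2, 0, 3, 3, 1, 2, 0, 3, 3, 1, 2, 0, 2, 1, 2, 0, 2, 1, 3, 0, 2, 1, 2,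
    2, 0, 2, 1, 3, 3, 3, 0, 3, 1, 2, 0, 3, 4, 2, 4, 2, 4, 2, 4, 2, 2, 2]),
    ([3], 57, [1, 3, 0, 3, 1, 3, 0, 2, 1, 2, 0, 2, 2, 2, 1, 3, 0, 2, 2, 1, 3, 0, 2, 1, 2, 0, 3, 1,
    3, 0, 0, 0, 4, 3, 4, 3, 3, 4, 3, 3]),
    ([], 58, [2, 1, 3, 0, 2, 1, 2, 0, 2, 1, 3, 0, 3, 1, 2, 0, 3, 1, 3, 0, 2, 2, 2, 1, 2, 0, 2, 2,
    1, 2, 2, 0, 0, 0, 4, 3, 4, 3, 3, 4, 3, 3])]),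
  (1, [4, 2, 2, 4, 3, 4, 3, 3, 0, 2],
    [1, 0, 1, 0, 0, 0, 0, 0, 1, 1, 1, 0, 1, 0, 1, 0, 0, 0, 0, 0, 1, 0, 1, 0, 1, 1, 1, 0, 0, 1, 1,
    1, 0, 1], [
    ([0, 1, 0, 0, 0, 0], 9, [3, 3, 1, 2, 0, 3, 3, 1, 2, 0, 3, 3, 1, 2, 0, 3, 1, 2, 2, 2, 0, 2, 1,
    3, 3, 0, 3, 3, 1, 2, 0, 3, 1, 2, 0, 3, 3, 1, 2, 0]),
    ([1, 2, 2, 2], 56, [2, 2, 1, 2, 0, 2, 2, 2, 1, 3, 0, 3, 3, 1, 2, 2, 0, 3, 1, 3, 0, 3, 4, 2, 2,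
    2, 0, 2, 0, 3, 4]),
    ([1, 0, 2, 0, 1, 3], 30, [3, 1, 2, 2, 2, 0, 2, 1, 3, 3, 0, 3, 3, 1, 2, 0, 3, 1, 2, 2, 0, 2, 1,
    2, 0, 4, 3, 4, 2]),
    ([0, 1, 3, 0], 67, [3, 3, 1, 2, 0, 3, 3, 1, 2, 0, 3, 3, 1, 2, 0, 2, 2, 1, 2, 2, 0, 2, 1, 2, 0,
    3, 1, 3, 3, 0, 2, 1, 2, 0, 2, 2, 1, 3, 0, 2, 1, 3, 0, 2, 2, 1, 2, 2, 0, 4, 2, 2, 2, 0, 3, 4,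
    3, 3]),
    ([3], 57, [3, 3, 1, 2, 0, 3, 3, 1, 2, 0, 3, 3, 3, 1, 2, 0, 2, 1, 3, 0, 2, 2, 2, 1, 2, 0, 2, 4,
    2, 2, 2, 0, 3, 4, 3, 3, 4]),
    ([], 58, [1, 2, 0, 2, 1, 3, 0, 2, 2, 1, 3, 3, 0, 3, 1, 2, 0, 2, 1, 3, 3, 0, 3, 1, 2, 0, 2, 2,
    1, 3, 0, 4, 2, 2, 2, 0, 3, 4, 3, 3, 4])])]

/-- All traces. -/
def trList : List (ℕ × ℕ × List (ℕ × List ℕ × List ℕ × List (List ℕ × ℕ × List ℕ))) := [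
  (0, 0, tr00),
  (0, 1, tr01),
  (0, 2, tr02),
  (0, 3, tr03),
  (0, 4, tr04),
  (0, 5, tr05),
  (0, 6, tr06),
  (0, 7, tr07),
  (0, 8, tr08),
  (0, 9, tr09),
  (1, 2, tr12),
  (2, 2, tr22),
  (2, 3, tr23),
  (2, 4, tr24),
  (2, 5, tr25),
  (2, 6, tr26),
  (2, 7, tr27),
  (2, 8, tr28),
  (2, 9, tr29)]

end CfsgLib.HNAlt
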